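import Groth.Agent.Lib.AlgSpLimit.Core
import Groth.Agent.Lib.AlgSpMor.AffineDescent
import Groth.Agent.Lib.Lim.Eventual

/-!
# Closed subspaces of a limit of algebraic spaces
-/

set_option autoImplicit false
set_option linter.style.haveILetI false

universe u

open CategoryTheory CategoryTheory.Limits AlgebraicGeometry

namespace Groth.Agent.Lib.AlgSpLimit

open AlgSp (Sp yon RepWith IsAlgSpace IsAffineMor LocP)
open Groth.Agent.Lib.AlgSpace Groth.Agent.Lib.AlgSpMor

variable {S : Scheme.{u}}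

/-- An etale atlas of a quasi-compact space can be refined to an affine one. -/
theorem exists_affine_refinement {F : Sp S} [CompactSpace (AlgSp.Points F)] {U : Over S}
    {a : (yon S).obj U ⟶ F} (he : RepWith @Etale a) (hs : RepWith @Surjective a) :
    ∃ (W : Over S) (q : W ⟶ U), IsAffine W.left ∧ RepWith @Etale ((yon S).map q ≫ a) ∧
      RepWith @Surjective ((yon S).map q ≫ a) := by
  have hcov : ∀ x : AlgSp.Points F, ∃ O : U.left.affineOpens,
      x ∈ AlgSp.Points.ofPt a '' (O.1 : Set ↥U.left) := by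
    intro x
    obtain ⟨v, rfl⟩ := surjective_ofPt hs x
    obtain ⟨O, hO, hv, -⟩ := exists_isAffineOpen_mem_and_subset (U := ⊤) (Set.mem_univ v)
    exact ⟨⟨O, hO⟩, v, hv, rfl⟩
  obtain ⟨s, hs'⟩ := isCompact_univ.elim_finite_subcover
    (fun O : U.left.affineOpens ↦ AlgSp.Points.ofPt a '' (O.1 : Set ↥U.left))
    (fun O ↦ isOpenMap_ofPt he _ O.1.2) (fun x _ ↦ Set.mem_iUnion.2 (hcov x))
  let O' : ↥s → U.left.Opens := fun x ↦ x.1.1
  have : ∀ i, IsAffine (O' i).toScheme := fun i ↦ i.1.2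
  have he' : RepWith @Etale ((yon S).map (opensSigmaMap O') ≫ a) :=
    repWith_comp (repWith_etale_yon_map (etale_opensSigmaMap O')) he
  refine ⟨opensSigma O', opensSigmaMap O',
    inferInstanceAs (IsAffine (∐ fun i ↦ (O' i).toScheme)), he', repWith_of_exists fun T ξ ↦ ?_⟩
  obtain ⟨V, g, fst, sq, -⟩ := repWith_exists he' ξ
  refine ⟨V, g, fst, sq, ⟨fun t ↦ ?_⟩⟩
  obtain ⟨i, hi, v, hv, hx⟩ := Set.mem_iUnion₂.1 (hs' (Set.mem_univ (AlgSp.Points.ofPt ξ t)))
  have ht : t ∈ AlgSp.Points.ofPt ξ ⁻¹'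
      (AlgSp.Points.map ((yon S).map (opensSigmaMap O') ≫ a) '' Set.univ) := by
    refine ⟨AlgSp.Points.ofScheme _ (Sigma.ι (fun i ↦ (O' i).toScheme) ⟨i, hi⟩ ⟨v, hv⟩), trivial, ?_⟩
    rw [← AlgSp.Points.ofPt_eq_map_ofScheme, ofPt_yon_map_comp, opensSigmaMap_apply]
    exact hx
  rw [preimage_image_map sq] at ht
  obtain ⟨w, -, hw⟩ := ht
  exact ⟨w, hw⟩

/-- A closed subspace of the limit locally of finite type over a base is closed in a stage. -/
theorem eventually_closedImmersion {I : Type u} [SmallCategory I] [IsCofiltered I] {B : Sp S}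
    (hB : IsAlgSpace B) {D : I ⥤ Sp S} (hD : ∀ i, IsAlgSpace (D.obj i))
    (hDa : ∀ (i j : I) (φ : i ⟶ j), IsAffineMor (D.map φ)) {c : Cone D} (hc : IsLimit c) (i₁ : I)
    (hqc : AlgSp.IsQuasiCompactSp (D.obj i₁)) (t₁ : D.obj i₁ ⟶ B) {Y : Sp S} (y : Y ⟶ c.pt)
    (hy : RepWith @IsClosedImmersion y)
    (hYB : LocP @LocallyOfFiniteType (y ≫ c.π.app i₁ ≫ t₁)) :
    ∃ i₀ : I, ∀ (i : I) (_ : i ⟶ i₀), RepWith @IsClosedImmersion (y ≫ c.π.app i) := by
  haveI := QC.compactSpace_points hqc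
  obtain ⟨V, b, hb, hbs⟩ := hB.atlas
  obtain ⟨U, a, h, ha, has, w⟩ := LocP.exists_chart_over (hD i₁) hB t₁ hb hbs
  obtain ⟨W₀, q, hW₀, he, hs⟩ := exists_affine_refinement ha has
  obtain ⟨E, e, r, α, π, hr, ⟨hlim⟩, hA, hea, sqE, hα₀, sqπ⟩ :=
    exists_system hDa hc i₁ hW₀ ((yon S).map q ≫ a)
  let j₀ := CategoryTheory.Over.mk (𝟙 i₁)
  haveI := hr
  let τ : ∀ j : CategoryTheory.Over i₁, j ⟶ j₀ := fun j ↦
    CategoryTheory.Over.homMk j.hom (Category.comp_id _)
  have hτ : ∀ {j k : CategoryTheory.Over i₁} (φ : j ⟶ k), φ ≫ τ k = τ j := fun φ ↦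
    CategoryTheory.Over.OverMorphism.ext (CategoryTheory.Over.w φ)
  have he₀ : RepWith @Etale (α j₀) := by
    rw [hα₀]; exact (repWith_iso_comp_iff _ ((yon S).map r) _).2 he
  have hs₀ : RepWith @Surjective (α j₀) := by
    rw [hα₀]; exact (repWith_iso_comp_iff _ ((yon S).map r) _).2 hs
  obtain ⟨Q, l, fst, sqQ, hl⟩ := repWith_exists hy π
  haveI : IsClosedImmersion l.left := hl
  let g₀ : E.obj j₀ ⟶ V := r ≫ q ≫ h
  have hπe : RepWith @Etale π := repWith_baseChange (sqπ j₀) he₀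
  have hlft : LocallyOfFiniteType (l ≫ e.π.app j₀ ≫ g₀).left := by
    refine hYB fst b _ (repWith_baseChange sqQ.flip hπe) hb ?_
    have h1 : α j₀ ≫ t₁ = (yon S).map g₀ ≫ b := by
      rw [hα₀, Category.assoc, Category.assoc, w]
      simp [g₀]
    simp only [Functor.map_comp, Category.assoc]
    rw [← h1, ← reassoc_of% (sqπ j₀).w.symm, ← Category.assoc, sqQ.w]
    simp [j₀]
  haveI : ∀ j, IsAffine ((E ⋙ CategoryTheory.Over.forget S).obj j) := hA
  let t' : E ⋙ CategoryTheory.Over.forget S ⟶ (Functor.const _).obj V.left :=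
    { app := fun j ↦ (E.map (τ j) ≫ g₀).left
      naturality := fun j k φ ↦ by
        refine Eq.trans ?_ (Category.comp_id _).symm
        exact congr($(show E.map φ ≫ E.map (τ k) ≫ g₀ = E.map (τ j) ≫ g₀ by
          rw [← Category.assoc, ← E.map_comp, hτ]).left) }
  let l' : Q.left ⟶ ((CategoryTheory.Over.forget S).mapCone e).pt := l.left
  haveI : IsClosedImmersion l' := hl
  haveI : LocallyOfFiniteType
      (l' ≫ ((CategoryTheory.Over.forget S).mapCone e).π.app j₀ ≫ t'.app j₀) := by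
    have hid : τ j₀ = 𝟙 j₀ := CategoryTheory.Over.OverMorphism.ext rfl
    have : t'.app j₀ = g₀.left := by simp [t', hid]
    rw [this]
    exact hlft
  obtain ⟨j, hj⟩ := Lib.Lim.Eventual.exists_isClosedImmersion_comp t'
    (c := (CategoryTheory.Over.forget S).mapCone e) hlim l' j₀
  refine ⟨j.left, fun i p ↦ ?_⟩
  let k : CategoryTheory.Over i₁ := CategoryTheory.Over.mk (p ≫ j.hom)
  let φ : k ⟶ j := CategoryTheory.Over.homMk p rfl
  haveI : IsClosedImmersion ((l ≫ e.π.app k).left ≫ (E.map φ).left) := by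
    rw [← CategoryTheory.Over.comp_left, Category.assoc, e.w]
    exact hj
  haveI := hA j
  haveI := hA k
  haveI : IsClosedImmersion (l ≫ e.π.app k).left :=
    IsClosedImmersion.of_comp _ (E.map φ).left
  haveI := Sep.isLocalAtTarget_fppf_isClosedImmersion.{u}
  exact RepDescent.repWith_of_cover _ RepDescent.effective_isClosedImmersion (hD i).diag
    (repWith_baseChange (sqE (τ k)) he₀) (repWith_baseChange (sqE (τ k)) hs₀)
    (by rw [Functor.map_comp]; exact sqQ.paste_vert (sqπ k).flip)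
    ((AlgSp.repWith_yon_map_iff _ _).2 ‹IsClosedImmersion (l ≫ e.π.app k).left›)

end Groth.Agent.Lib.AlgSpLimit
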