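import Groth.Agent.Lib.AlgSpLimit.Stage
import Groth.Agent.Lib.AlgSpace.OpenSubExists
import Groth.Agent.Lib.Lim.Basic

/-!
# Points and quasi-compact opens of limits of algebraic spaces
-/

set_option autoImplicit false
set_option linter.style.haveILetI false

universe u

open CategoryTheory CategoryTheory.Limits AlgebraicGeometry

namespace Groth.Agent.Lib.AlgSpLimit

open AlgSp (Sp yon RepWith IsAlgSpace IsAffineMor IsQuasiCompactSp IsQuasiSeparatedSp)
open Groth.Agent.Lib.AlgSpace Groth.Agent.Lib.AlgSpMor Groth.Agent.Lib.Lim.Basic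

variable {S : Scheme.{u}}

/-- The chart system of an affine atlas of a quasi-compact stage. -/
theorem exists_atlas_system {I : Type u} [SmallCategory I] [IsCofiltered I] {D : I ⥤ Sp S}
    (hDa : ∀ (i j : I) (φ : i ⟶ j), IsAffineMor (D.map φ)) {c : Cone D} (hc : IsLimit c) (i₀ : I)
    (hD : IsAlgSpace (D.obj i₀)) (hqc : IsQuasiCompactSp (D.obj i₀)) :
    ∃ (E : CategoryTheory.Over i₀ ⥤ Over S) (e : Cone E)
      (α : ∀ j : CategoryTheory.Over i₀, (yon S).obj (E.obj j) ⟶ D.obj j.left)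
      (π : (yon S).obj e.pt ⟶ c.pt),
      Nonempty (IsLimit ((Over.forget S).mapCone e)) ∧ (∀ j, IsAffine (E.obj j).left) ∧
      IsAffine e.pt.left ∧
      (∀ {j k} (φ : j ⟶ k), IsPullback ((yon S).map (E.map φ)) (α j) (α k) (D.map φ.left)) ∧
      (∀ j, IsPullback ((yon S).map (e.π.app j)) π (α j) (c.π.app j.left)) ∧
      (∀ j, RepWith @Etale (α j) ∧ RepWith @Surjective (α j)) ∧
      RepWith @Etale π ∧ RepWith @Surjective π := by
  haveI := QC.compactSpace_points hqc
  obtain ⟨W₀, a, hW₀, he, hs⟩ := QC.exists_affine_atlas hD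
  obtain ⟨E, e, r, α, π, hr, hlim, hA, hea, sqE, hα₀, sqπ⟩ := exists_system hDa hc i₀ hW₀ a
  let j₀ := CategoryTheory.Over.mk (𝟙 i₀)
  haveI := hr
  have he₀ : RepWith @Etale (α j₀) := by
    rw [hα₀]; exact (repWith_iso_comp_iff _ ((yon S).map r) _).2 he
  have hs₀ : RepWith @Surjective (α j₀) := by
    rw [hα₀]; exact (repWith_iso_comp_iff _ ((yon S).map r) _).2 hs
  let τ : ∀ j : CategoryTheory.Over i₀, j ⟶ j₀ := fun j ↦
    CategoryTheory.Over.homMk j.hom (Category.comp_id _)
  exact ⟨E, e, α, π, hlim, hA, hea, sqE, sqπ,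
    fun j ↦ ⟨repWith_baseChange (sqE (τ j)) he₀, repWith_baseChange (sqE (τ j)) hs₀⟩,
    repWith_baseChange (sqπ j₀) he₀, repWith_baseChange (sqπ j₀) hs₀⟩

/-- A limit of nonempty quasi-compact spaces has a point. -/
theorem nonempty_points {I : Type u} [SmallCategory I] [IsCofiltered I] {D : I ⥤ Sp S}
    (hD : ∀ i, IsAlgSpace (D.obj i)) (hDa : ∀ (i j : I) (φ : i ⟶ j), IsAffineMor (D.map φ))
    {c : Cone D} (hc : IsLimit c) (hqc : ∀ i, IsQuasiCompactSp (D.obj i))
    (hne : ∀ i, Nonempty (AlgSp.Points (D.obj i))) : Nonempty (AlgSp.Points c.pt) := by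
  have i₀ : I := IsCofiltered.nonempty.some
  obtain ⟨E, e, α, π, ⟨hlim⟩, hA, -, -, -, hα, -, -⟩ :=
    exists_atlas_system hDa hc i₀ (hD i₀) (hqc i₀)
  haveI : ∀ j, IsAffine ((E ⋙ CategoryTheory.Over.forget S).obj j) := hA
  haveI : ∀ j, Nonempty ↥((E ⋙ CategoryTheory.Over.forget S).obj j) := fun j ↦ by
    obtain ⟨x⟩ := hne j.left
    obtain ⟨w, -⟩ := surjective_ofPt (hα j).2 x
    exact ⟨w⟩
  obtain ⟨w⟩ := Scheme.nonempty_of_isLimit _ _ hlim
  exact ⟨AlgSp.Points.ofPt π w⟩

theorem range_of_isPullback {X X' : Sp S} {T Q : Over S} {j : X' ⟶ X} {p : (yon S).obj T ⟶ X}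
    {v : Q ⟶ T} {fst : (yon S).obj Q ⟶ X'} (sq : IsPullback fst ((yon S).map v) j p) :
    Set.range v.left = AlgSp.Points.ofPt p ⁻¹' Set.range (AlgSp.Points.map j) := by
  rw [← Set.image_univ (f := AlgSp.Points.map j), preimage_image_map sq, Set.preimage_univ,
    Set.image_univ]

/-- A quasi-compact open subspace of the limit comes from a stage. -/
theorem exists_open_descends [QuasiSeparatedSpace ↥S] {I : Type u} [SmallCategory I]
    [IsCofiltered I] {D : I ⥤ Sp S} (hD : ∀ i, IsAlgSpace (D.obj i))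
    (hDa : ∀ (i j : I) (φ : i ⟶ j), IsAffineMor (D.map φ)) {c : Cone D} (hc : IsLimit c)
    (hqc : ∀ i, IsQuasiCompactSp (D.obj i)) (hqs : ∀ i, IsQuasiSeparatedSp (D.obj i))
    {U : Sp S} (j : U ⟶ c.pt) (hj : RepWith @IsOpenImmersion j) (hU : IsQuasiCompactSp U) :
    ∃ (i : I) (Ui : Sp S) (ji : Ui ⟶ D.obj i) (q : U ⟶ Ui),
      RepWith @IsOpenImmersion ji ∧ IsQuasiCompactSp Ui ∧ IsPullback j q (c.π.app i) ji := by
  have i₀ : I := IsCofiltered.nonempty.some
  obtain ⟨E, e, α, π, ⟨hlim⟩, hA, hea, sqE, sqπ, hα, hπe, hπs⟩ :=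
    exists_atlas_system hDa hc i₀ (hD i₀) (hqc i₀)
  obtain ⟨hX, -, hXs⟩ := qcqs_of_affine (hD i₀) (isAffineMor_π hDa hc i₀) (hqc i₀) (hqs i₀)
  have hUsp := isAlgSpace_of_representable hj.rep hX
  let F := E ⋙ CategoryTheory.Over.forget S
  haveI : ∀ k, IsAffine (F.obj k) := hA
  -- the inverse image in the chart
  obtain ⟨V, v, fst, sqV, hv⟩ := repWith_exists hj π
  haveI : IsOpenImmersion v.left := hv
  let O : ((CategoryTheory.Over.forget S).mapCone e).pt.Opens := v.left.opensRange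
  have hOc : IsCompact (O : Set ↥((CategoryTheory.Over.forget S).mapCone e).pt) := by
    haveI := QC.compactSpace_points hU
    obtain ⟨Z, z, hZ, -, hzs⟩ := QC.exists_affine_atlas hUsp
    haveI := hZ
    obtain ⟨T, t₁, t₂, sqT⟩ := exists_isPullback_yon hX.diag (z ≫ j) π
    haveI : CompactSpace ↥T.left := DiagCharts.compactSpace_of_isQuasiSeparatedSp hXs sqT
    show IsCompact (Set.range v.left)
    suffices Set.range v.left = Set.range t₂.left from this ▸ isCompact_range t₂.left.continuous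
    rw [range_of_isPullback sqT, range_of_isPullback sqV]
    congr 1
    refine Set.Subset.antisymm ?_ ?_
    · rintro _ ⟨x, rfl⟩
      obtain ⟨w, rfl⟩ := surjective_map hzs x
      exact ⟨w, AlgSp.Points.map_comp z j w⟩
    · rintro _ ⟨w, rfl⟩
      exact ⟨AlgSp.Points.map z w, (AlgSp.Points.map_comp z j w).symm⟩
  obtain ⟨k, O₁, hO₁c, hO₁⟩ := exists_preimage_eq F _ hlim O hOc
  -- the two inverse images in the double chart agree at some stage
  obtain ⟨R, s, t, sqR⟩ := exists_isPullback_yon (hD k.left).diag (α k) (α k)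
  haveI : CompactSpace ↥R.left := DiagCharts.compactSpace_of_isQuasiSeparatedSp (hqs k.left) sqR
  have hsq : QuasiCompact s.left := inferInstance
  let Rl := pullback s.left (((CategoryTheory.Over.forget S).mapCone e).π.app k)
  have sqL := IsPullback.of_hasPullback s.left (((CategoryTheory.Over.forget S).mapCone e).π.app k)
  have hlimR := isLimitBcCone hlim sqL
  let top := CategoryTheory.Over.mk (𝟙 k)
  have hmem : ∀ w, (e.π.app k).left w ∈ O₁ ↔
      AlgSp.Points.ofPt π w ∈ Set.range (AlgSp.Points.map j) := by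
    intro w
    show w ∈ ((CategoryTheory.Over.forget S).mapCone e).π.app k ⁻¹ᵁ O₁ ↔ _
    rw [hO₁, ← Set.mem_preimage (f := AlgSp.Points.ofPt π), ← range_of_isPullback sqV]
    rfl
  let p₀ : pullback s.left (F.map (𝟙 k)) ⟶ R.left := pullback.fst _ _
  haveI : CompactSpace ↥((bcDiagram F s.left).obj top) := compactSpace_bcDiagram F s.left top
  have hcpt : ∀ g : (bcDiagram F s.left).obj top ⟶ (E.obj k).left,
      IsCompact (g ⁻¹ᵁ O₁ : Set ↥((bcDiagram F s.left).obj top)) := fun g ↦ by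
    haveI : QuasiCompact g := inferInstance
    exact g.isCompact_preimage hO₁c
  obtain ⟨m, ψ, hm⟩ := exists_map_preimage_eq_map_preimage (bcDiagram F s.left) (bcCone sqL.w)
    hlimR (i := top) (hcpt (p₀ ≫ s.left)) (hcpt (p₀ ≫ t.left)) (by
      have hp : (bcCone (D := F) (c := (CategoryTheory.Over.forget S).mapCone e) (i₀ := k)
          sqL.w).π.app top ≫ p₀ =
          pullback.fst s.left (((CategoryTheory.Over.forget S).mapCone e).π.app k) :=
        bcCone_π_fst sqL.w top
      rw [← Scheme.Hom.comp_preimage, ← Scheme.Hom.comp_preimage, reassoc_of% hp, reassoc_of% hp]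
      ext w
      simp only [SetLike.mem_coe, Scheme.Hom.mem_preimage]
      let Tl : Over S := CategoryTheory.Over.mk
        (pullback.fst s.left (((CategoryTheory.Over.forget S).mapCone e).π.app k) ≫ R.hom)
      let t' : Tl ⟶ R := CategoryTheory.Over.homMk (pullback.fst _ _) rfl
      let v' : Tl ⟶ e.pt := CategoryTheory.Over.homMk (pullback.snd _ _) (by
        show _ ≫ e.pt.hom = _ ≫ R.hom
        rw [← CategoryTheory.Over.w s, ← Category.assoc, sqL.w, Category.assoc]
        exact congrArg (pullback.snd _ _ ≫ ·) (CategoryTheory.Over.w (e.π.app k)).symm)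
      have h1 : t' ≫ s = v' ≫ e.π.app k :=
        CategoryTheory.Over.OverMorphism.ext sqL.w
      have w' : (yon S).map t' ≫ (yon S).map s = (yon S).map v' ≫ (yon S).map (e.π.app k) := by
        rw [← Functor.map_comp, h1, Functor.map_comp]
      let b' := (sqπ k).lift ((yon S).map (t' ≫ t)) ((yon S).map v' ≫ π) (by
        rw [Functor.map_comp, Category.assoc, ← sqR.w, ← Category.assoc, w', Category.assoc,
          (sqπ k).w, Category.assoc])
      obtain ⟨b, hb⟩ := (yon S).map_surjective b'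
      have hb1 : b ≫ e.π.app k = t' ≫ t := (yon S).map_injective (by
        rw [Functor.map_comp, hb]; exact (sqπ k).lift_fst _ _ _)
      have hb2 : (yon S).map b ≫ π = (yon S).map v' ≫ π := by
        rw [hb]; exact (sqπ k).lift_snd _ _ _
      show (t'.left ≫ s.left) w ∈ O₁ ↔ (t'.left ≫ t.left) w ∈ O₁
      rw [← CategoryTheory.Over.comp_left, h1, ← CategoryTheory.Over.comp_left, ← hb1,
        CategoryTheory.Over.comp_left, CategoryTheory.Over.comp_left, Scheme.Hom.comp_apply,
        Scheme.Hom.comp_apply, hmem, hmem, ← ofPt_yon_map_comp, ← ofPt_yon_map_comp, hb2])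
  let k' := m.left
  let φ : k' ⟶ k := m.hom
  let O₂ := (E.map φ).left ⁻¹ᵁ O₁
  have hsat : AlgSp.Points.ofPt (α k') ⁻¹'
      (AlgSp.Points.ofPt (α k') '' (O₂ : Set ↥(E.obj k').left)) = O₂ := by
    refine Set.Subset.antisymm ?_ (Set.subset_preimage_image _ _)
    rintro y ⟨x, hx, hxy⟩
    obtain ⟨R', s', t', sqR'⟩ := exists_isPullback_yon (hD k'.left).diag (α k') (α k')
    obtain ⟨r, rfl, rfl⟩ := (ofPt_eq_ofPt_iff_of_isPullback sqR' x y).1 hxy
    obtain ⟨ρ, hρ⟩ := (yon S).map_surjective (sqR.lift ((yon S).map (s' ≫ E.map φ))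
      ((yon S).map (t' ≫ E.map φ)) (by
        rw [Functor.map_comp, Functor.map_comp, Category.assoc, Category.assoc, (sqE φ).w,
          ← Category.assoc, sqR'.w, Category.assoc]))
    have hρs : ρ ≫ s = s' ≫ E.map φ := (yon S).map_injective (by
      rw [Functor.map_comp, hρ, sqR.lift_fst])
    have hρt : ρ ≫ t = t' ≫ E.map φ := (yon S).map_injective (by
      rw [Functor.map_comp, hρ, sqR.lift_snd])
    let z : R'.left ⟶ (bcDiagram F s.left).obj m := pullback.lift ρ.left s'.left (by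
      show ρ.left ≫ s.left = s'.left ≫ (E.map φ).left
      rw [← CategoryTheory.Over.comp_left, hρs, CategoryTheory.Over.comp_left])
    have hz := congrArg (fun P : ((bcDiagram F s.left).obj m).Opens ↦ z r ∈ P) hm
    have e2 : z ≫ (bcDiagram F s.left).map ψ ≫ p₀ = ρ.left := by
      simp only [p₀]
      erw [bcDiagram_map_fst]
      exact pullback.lift_fst _ _ _
    simp only [Scheme.Hom.mem_preimage, eq_iff_iff, ← Scheme.Hom.comp_apply,
      Category.assoc, reassoc_of% e2] at hz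
    rw [← CategoryTheory.Over.comp_left, ← CategoryTheory.Over.comp_left, hρs, hρt] at hz
    exact hz.1 hx
  let Wk := AlgSp.Points.ofPt (α k') '' (O₂ : Set ↥(E.obj k').left)
  obtain ⟨Ui, ji, hUi, hji, hjr⟩ := exists_open_subspace (hD k'.left)
    (isOpenMap_ofPt (hα k').1 _ O₂.2 : IsOpen Wk)
  have hrange : Set.range (AlgSp.Points.map j) =
      AlgSp.Points.map (c.π.app k'.left) ⁻¹' Wk := by
    ext x
    obtain ⟨w, rfl⟩ := surjective_ofPt hπs x
    rw [Set.mem_preimage, AlgSp.Points.map_ofPt, ← (sqπ k').w, ofPt_yon_map_comp, ← hmem,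
      ← Set.mem_preimage (f := AlgSp.Points.ofPt (α k')), hsat, SetLike.mem_coe]
    show _ ↔ (E.map φ).left ((e.π.app k').left w) ∈ O₁
    rw [← Scheme.Hom.comp_apply, ← CategoryTheory.Over.comp_left, e.w]
  obtain ⟨q, hq⟩ := (exists_lift_iff_range_subset hji (j ≫ c.π.app k'.left)).2 (by
    rw [hjr]
    rintro _ ⟨x, rfl⟩
    rw [AlgSp.Points.map_comp]
    exact (hrange.subset ⟨x, rfl⟩ :))
  haveI : Mono j := mono_of_repWith (fun _ _ g (_ : IsOpenImmersion g) ↦ (inferInstance : Mono g)) hj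
  haveI : Mono ji := mono_of_repWith (fun _ _ g (_ : IsOpenImmersion g) ↦ (inferInstance : Mono g)) hji
  refine ⟨k'.left, Ui, ji, q, hji, (QC.isQuasiCompactSp_iff hUi).2 ?_, ?_⟩
  · have hO₂c : IsCompact (O₂ : Set ↥(E.obj k').left) := by
      haveI : QuasiCompact (E.map φ).left :=
        haveI := hA k; haveI := hA k'; inferInstance
      exact (E.map φ).left.isCompact_preimage hO₁c
    refine ⟨((isOpenEmbedding_map hji).isInducing.isCompact_iff).2 ?_⟩
    rw [Set.image_univ, hjr]
    exact hO₂c.image (AlgSp.Points.continuous_ofPt _)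
  · refine isPullback_of_yon hq.symm (fun T a b h _ ↦ (cancel_mono j).1 h) fun T a b w ↦ ?_
    obtain ⟨x, hx⟩ := (exists_lift_iff_range_subset hj a).2 (by
      rw [hrange]
      rintro _ ⟨y, rfl⟩
      rw [Set.mem_preimage, ← AlgSp.Points.map_comp, w, AlgSp.Points.map_comp]
      exact hjr.subset ⟨_, rfl⟩)
    exact ⟨x, hx, by rw [← cancel_mono ji, Category.assoc, hq, reassoc_of% hx, w]⟩

end Groth.Agent.Lib.AlgSpLimit
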