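import Groth.Agent.Lib.AlgSpLimit.Mono
import Groth.Agent.Lib.AlgSpLimit.Closed
import Groth.Agent.Lib.AlgSpLimit.Points

/-!
# Immersions into a limit are immersions at some stage
-/

set_option autoImplicit false
set_option linter.style.haveILetI false

universe u

open CategoryTheory CategoryTheory.Limits AlgebraicGeometry Topology

namespace Groth.Agent.Lib.AlgSpLimit

open AlgSp (Sp yon RepWith IsAlgSpace LocP IsAffineMor IsQuasiCompactSp IsQuasiSeparatedSp)
open Groth.Agent.Lib.AlgSpace Groth.Agent.Lib.AlgSpMor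

variable {S : Scheme.{u}}

theorem mono_of_openImm {X Y : Sp S} {j : X ⟶ Y} (hj : RepWith @IsOpenImmersion j) : Mono j :=
  mono_of_repWith (fun _ _ g (_ : IsOpenImmersion g) ↦ (inferInstance : Mono g)) hj

/-- A compact set in an open set is contained in a quasi-compact open subspace of it. -/
theorem exists_qc_open {X : Sp S} (hX : IsAlgSpace X) {K O : Set (AlgSp.Points X)}
    (hK : IsCompact K) (hO : IsOpen O) (hKO : K ⊆ O) :
    ∃ (U : Sp S) (j : U ⟶ X), RepWith @IsOpenImmersion j ∧ IsQuasiCompactSp U ∧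
      K ⊆ Set.range (AlgSp.Points.map j) ∧ Set.range (AlgSp.Points.map j) ⊆ O := by
  obtain ⟨T, a, he, hs⟩ := hX.atlas
  let a' : ↥T.left → AlgSp.Points X := AlgSp.Points.ofPt a
  have hcov : ∀ x ∈ K, ∃ V : T.left.affineOpens,
      x ∈ a' '' (V.1 : Set ↥T.left) ∧ a' '' (V.1 : Set ↥T.left) ⊆ O := by
    intro x hx
    obtain ⟨v, rfl⟩ := surjective_ofPt hs x
    obtain ⟨V, hV, hv, hVO⟩ := exists_isAffineOpen_mem_and_subset (X := T.left)
      (U := ⟨a' ⁻¹' O, hO.preimage (AlgSp.Points.continuous_ofPt a)⟩) (x := v) (hKO hx)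
    exact ⟨⟨V, hV⟩, ⟨v, hv, rfl⟩, Set.image_subset_iff.2 fun w hw ↦ hVO hw⟩
  choose V hV hVO using hcov
  obtain ⟨s, hs'⟩ := hK.elim_finite_subcover (fun x : K ↦ a' '' ((V x.1 x.2).1 : Set ↥T.left))
    (fun x ↦ isOpenMap_ofPt he _ (V x.1 x.2).1.2) (fun x hx ↦ Set.mem_iUnion.2 ⟨⟨x, hx⟩, hV x hx⟩)
  obtain ⟨U, j, hU, hj, hjr⟩ := exists_open_subspace hX
    (W := ⋃ x ∈ s, a' '' ((V x.1 x.2).1 : Set ↥T.left))
    (isOpen_biUnion fun x _ ↦ isOpenMap_ofPt he _ (V x.1 x.2).1.2)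
  refine ⟨U, j, hj, (QC.isQuasiCompactSp_iff hU).2 ⟨((isOpenEmbedding_map hj).isInducing.isCompact_iff).2 ?_⟩,
    hjr ▸ hs', hjr ▸ Set.iUnion₂_subset fun x _ ↦ hVO x.1 x.2⟩
  rw [Set.image_univ, hjr]
  exact s.isCompact_biUnion fun x _ ↦
    (V x.1 x.2).2.isCompact.image (AlgSp.Points.continuous_ofPt a)

/-- The induced map of base changes. -/
noncomputable def bcMap {U B A A' : Sp S} (u : U ⟶ B) (g : A ⟶ B) (g' : A' ⟶ B) (h : A ⟶ A')
    (w : h ≫ g' = g) : pullback u g ⟶ pullback u g' :=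
  pullback.lift (pullback.fst _ _) (pullback.snd _ _ ≫ h)
    (by rw [Category.assoc, w, pullback.condition])

@[reassoc (attr := simp)]
theorem bcMap_fst {U B A A' : Sp S} (u : U ⟶ B) (g : A ⟶ B) (g' : A' ⟶ B) (h : A ⟶ A')
    (w : h ≫ g' = g) : bcMap u g g' h w ≫ pullback.fst u g' = pullback.fst u g :=
  pullback.lift_fst _ _ _

@[reassoc (attr := simp)]
theorem bcMap_snd {U B A A' : Sp S} (u : U ⟶ B) (g : A ⟶ B) (g' : A' ⟶ B) (h : A ⟶ A')
    (w : h ≫ g' = g) : bcMap u g g' h w ≫ pullback.snd u g' = pullback.snd u g ≫ h :=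
  pullback.lift_snd _ _ _

/-- The restriction of a system to an open subspace of a stage. -/
theorem exists_restrict [QuasiSeparatedSpace ↥S] {I : Type u} [SmallCategory I] [IsCofiltered I]
    {D : I ⥤ Sp S} (hD : ∀ i, IsAlgSpace (D.obj i))
    (hDa : ∀ (i j : I) (φ : i ⟶ j), IsAffineMor (D.map φ)) {c : Cone D} (hc : IsLimit c) (i : I)
    (hqs : IsQuasiSeparatedSp (D.obj i)) {U : Sp S} {ji : U ⟶ D.obj i}
    (hji : RepWith @IsOpenImmersion ji) (hU : IsQuasiCompactSp U) :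
    ∃ (G : CategoryTheory.Over i ⥤ Sp S) (cG : Cone G)
      (α : ∀ j : CategoryTheory.Over i, G.obj j ⟶ D.obj j.left) (p : cG.pt ⟶ c.pt)
      (q : cG.pt ⟶ U),
      Nonempty (IsLimit cG) ∧ (∀ j, IsAlgSpace (G.obj j)) ∧
      (∀ (j k : CategoryTheory.Over i) (φ : j ⟶ k), IsAffineMor (G.map φ)) ∧
      (∀ j, IsQuasiCompactSp (G.obj j)) ∧ (∀ j, IsQuasiSeparatedSp (G.obj j)) ∧
      (∀ j, RepWith @IsOpenImmersion (α j)) ∧
      IsPullback q p ji (c.π.app i) ∧
      ∀ j, IsPullback (cG.π.app j) p (α j) (c.π.app j.left) := by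
  have hUsp := isAlgSpace_of_representable hji.rep (hD i)
  haveI := mono_of_openImm hji
  have hUs : IsQuasiSeparatedSp U := Perm.repWith_diag_of_mor @QuasiCompact ji
    (repWith_mono (Proper.isSeparatedMor_of_mono_repWith ji)
      fun _ _ g (_ : IsClosedImmersion g) ↦ (inferInstance : QuasiCompact g)) hqs
  let g : ∀ j : CategoryTheory.Over i, D.obj j.left ⟶ D.obj i := fun j ↦ D.map j.hom
  have hg : ∀ {j k : CategoryTheory.Over i} (φ : j ⟶ k), D.map φ.left ≫ g k = g j := fun φ ↦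
    (D.map_comp _ _).symm.trans (congrArg D.map (CategoryTheory.Over.w φ))
  have hgc : ∀ j : CategoryTheory.Over i, c.π.app j.left ≫ g j = c.π.app i := fun j ↦ c.w j.hom
  let G : CategoryTheory.Over i ⥤ Sp S :=
    { obj := fun j ↦ pullback ji (g j)
      map := fun {j k} φ ↦ bcMap ji (g j) (g k) (D.map φ.left) (hg φ)
      map_id := fun j ↦ by apply pullback.hom_ext <;> simp
      map_comp := fun φ ψ ↦ by apply pullback.hom_ext <;> simp }
  have sqG : ∀ {j k} (φ : j ⟶ k), IsPullback (G.map φ) (pullback.snd ji (g j))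
      (pullback.snd ji (g k)) (D.map φ.left) := fun {j k} φ ↦ by
    refine IsPullback.of_right (h₁₂ := pullback.fst ji (g k)) (h₂₂ := g k) ?_
      (bcMap_snd ji (g j) (g k) (D.map φ.left) (hg φ)) (IsPullback.of_hasPullback _ _)
    show IsPullback (bcMap ji (g j) (g k) (D.map φ.left) (hg φ) ≫ _) _ _ _
    rw [bcMap_fst, hg φ]
    exact IsPullback.of_hasPullback _ _
  have sqP := IsPullback.of_hasPullback ji (c.π.app i)
  let pr : ∀ j : CategoryTheory.Over i, pullback ji (c.π.app i) ⟶ G.obj j := fun j ↦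
    bcMap ji (c.π.app i) (g j) (c.π.app j.left) (hgc j)
  let cG : Cone G :=
    { pt := pullback ji (c.π.app i)
      π :=
        { app := pr
          naturality := fun j k φ ↦ by
            apply pullback.hom_ext <;> simp [G, pr] } }
  have sqp : ∀ j, IsPullback (pr j) (pullback.snd ji (c.π.app i))
      (pullback.snd ji (g j)) (c.π.app j.left) := fun j ↦ by
    refine IsPullback.of_right (h₁₂ := pullback.fst ji (g j)) (h₂₂ := g j) ?_
      (bcMap_snd ji (c.π.app i) (g j) (c.π.app j.left) (hgc j)) (IsPullback.of_hasPullback _ _)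
    show IsPullback (bcMap ji (c.π.app i) (g j) (c.π.app j.left) (hgc j) ≫ _) _ _ _
    rw [bcMap_fst, hgc]
    exact sqP
  let β : G ⟶ CategoryTheory.Over.forget i ⋙ D :=
    { app := fun j ↦ pullback.snd ji (g j)
      naturality := fun j k φ ↦ bcMap_snd ji (g j) (g k) (D.map φ.left) (hg φ) }
  haveI : IsConnected (CategoryTheory.Over i) := IsCofiltered.isConnected _
  have hl : IsLimit cG := isLimitOfIsPullbackOfIsConnected β cG
    (c.whisker (CategoryTheory.Over.forget i))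
    { hom := pullback.snd ji (c.π.app i), w := fun j ↦ (bcMap_snd ji (c.π.app i) (g j) (c.π.app j.left) (hgc j)).symm }
    sqp ((Functor.Initial.isLimitWhiskerEquiv (CategoryTheory.Over.forget i) c).symm hc)
  have hG : ∀ j, IsAlgSpace (G.obj j) ∧ IsQuasiCompactSp (G.obj j) ∧ IsQuasiSeparatedSp (G.obj j) :=
    fun j ↦ qcqs_of_affine hUsp (Perm.isAffineMor_baseChange
      (IsPullback.of_hasPullback ji (g j)).flip (hDa _ _ _)) hU hUs
  exact ⟨G, cG, fun j ↦ pullback.snd _ _, pullback.snd _ _, pullback.fst _ _, ⟨hl⟩,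
    fun j ↦ (hG j).1, fun j k φ ↦ Perm.isAffineMor_baseChange (sqG φ).flip (hDa _ _ _),
    fun j ↦ (hG j).2.1, fun j ↦ (hG j).2.2,
    fun j ↦ repWith_baseChange (IsPullback.of_hasPullback ji (g j)) hji,
    IsPullback.of_hasPullback _ _, sqp⟩

/-- The coborder of the image of an immersion is open. -/
theorem isOpen_coborder_of_immersion {X Y : Sp S} (hX : IsAlgSpace X) {y : Y ⟶ X}
    (hy : RepWith @IsImmersion y) : IsOpen (coborder (Set.range (AlgSp.Points.map y))) := by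
  obtain ⟨T, a, he, hs⟩ := hX.atlas
  obtain ⟨V, v, fst, sq, hv⟩ := repWith_exists hy a
  haveI : IsImmersion v.left := hv
  have ho := isOpenMap_ofPt he
  have h := v.left.isLocallyClosed_range.isOpen_coborder
  rw [range_of_isPullback sq, coborder_preimage ho (AlgSp.Points.continuous_ofPt a)] at h
  rw [← (surjective_ofPt hs).image_preimage (coborder (Set.range (AlgSp.Points.map y)))]
  exact ho _ h

/-- An immersion is a closed immersion into a subspace in the coborder of its image. -/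
theorem closedImm_of_range {X Y U : Sp S} {y : Y ⟶ X} (hy : RepWith @IsImmersion y) {j : U ⟶ X}
    [Mono j] {y' : Y ⟶ U} (w : y' ≫ j = y)
    (hU : Set.range (AlgSp.Points.map j) ⊆ coborder (Set.range (AlgSp.Points.map y))) :
    RepWith @IsClosedImmersion y' := by
  have sq : IsPullback (𝟙 Y) y' y j := isPullback_of_yon (by rw [Category.id_comp, w])
    (fun T a b h _ ↦ by simpa using h) fun T a b h ↦ ⟨a, Category.comp_id _,
      by rw [← cancel_mono j, Category.assoc, w, h]⟩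
  have hy' := repWith_baseChange sq hy
  refine repWith_of_exists fun T ξ ↦ ?_
  obtain ⟨V, v, fst, sqV, hv⟩ := repWith_exists hy' ξ
  haveI : IsImmersion v.left := hv
  refine ⟨V, v, fst, sqV, IsClosedImmersion.of_isPreimmersion _ ?_⟩
  rw [range_of_isPullback sqV]
  have heq : AlgSp.Points.ofPt ξ ⁻¹' Set.range (AlgSp.Points.map y') =
      AlgSp.Points.ofPt (ξ ≫ j) ⁻¹' closure (Set.range (AlgSp.Points.map y)) := by
    ext t
    simp only [Set.mem_preimage, ← AlgSp.Points.map_ofPt]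
    constructor
    · rintro ⟨x, hx⟩
      rw [← hx, ← AlgSp.Points.map_comp, w]
      exact subset_closure ⟨x, rfl⟩
    · intro hm
      have hc := hU ⟨AlgSp.Points.ofPt ξ t, rfl⟩
      by_contra hn
      refine hc ⟨hm, ?_⟩
      rintro ⟨x, hx⟩
      exact hn ⟨x, injective_map_of_mono j (by rw [← AlgSp.Points.map_comp, w, hx])⟩
  rw [heq]
  exact isClosed_closure.preimage (AlgSp.Points.continuous_ofPt _)

/-- An immersion into a limit is an immersion at some stage. -/
theorem eventually_immersion_of_limit [QuasiSeparatedSpace ↥S] {I : Type u} [SmallCategory I]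
    [IsCofiltered I] {B : Sp S} (hB : IsAlgSpace B) {D : I ⥤ Sp S} (hD : ∀ i, IsAlgSpace (D.obj i))
    (hDa : ∀ (i j : I) (φ : i ⟶ j), IsAffineMor (D.map φ)) {c : Cone D} (hc : IsLimit c)
    (hqs : ∀ i, IsQuasiSeparatedSp (D.obj i)) {Y : Sp S}
    (hYc : IsQuasiCompactSp Y) (y : Y ⟶ c.pt) (hy : RepWith @IsImmersion y) (i₁ : I)
    (t₁ : D.obj i₁ ⟶ B) (hYB : LocP @LocallyOfFiniteType (y ≫ c.π.app i₁ ≫ t₁)) :
    ∃ i₀ : I, ∀ (i : I) (_ : i ⟶ i₀), RepWith @IsImmersion (y ≫ c.π.app i) := by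
  haveI := QC.compactSpace_points hYc
  obtain ⟨U₁, j₁, hj₁, hU₁, hyU₁, -⟩ := exists_qc_open (hD i₁)
    (isCompact_range (AlgSp.Points.continuous_map (y ≫ c.π.app i₁))) isOpen_univ (Set.subset_univ _)
  obtain ⟨y₁, hy₁⟩ := (exists_lift_iff_range_subset hj₁ (y ≫ c.π.app i₁)).2 hyU₁
  obtain ⟨G, cG, α, p, q, ⟨hG⟩, hGsp, hGa, hGc, hGs, hα, sqp, sqG⟩ :=
    exists_restrict hD hDa hc i₁ (hqs i₁) hj₁ hU₁
  let y' : Y ⟶ cG.pt := sqp.lift y₁ y hy₁
  have hy' : y' ≫ p = y := sqp.lift_snd _ _ _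
  have hX : IsAlgSpace c.pt := isAlgSpace_of_representable (representable_π hDa hc i₁) (hD i₁)
  have hp : RepWith @IsOpenImmersion p := repWith_baseChange sqp hj₁
  have hG' : IsAlgSpace cG.pt := isAlgSpace_of_representable hp.rep hX
  obtain ⟨U, j, hj, hU, hyU, hUO⟩ := exists_qc_open hG'
    (isCompact_range (AlgSp.Points.continuous_map y'))
    ((isOpen_coborder_of_immersion hX hy).preimage (AlgSp.Points.continuous_map p)) (by
      rintro _ ⟨x, rfl⟩
      rw [Set.mem_preimage, ← AlgSp.Points.map_comp, hy']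
      exact subset_coborder ⟨x, rfl⟩)
  obtain ⟨k, Uk, jk, qk, hjk, hUk, sqk⟩ := exists_open_descends hGsp hGa hG hGc hGs j hj hU
  obtain ⟨y₂, hy₂⟩ := (exists_lift_iff_range_subset hj y').2 hyU
  obtain ⟨H, cH, β, p', q', ⟨hH⟩, hHsp, hHa, hHc, -, hβ, sqp', sqH⟩ :=
    exists_restrict hD hDa hc k.left (hqs _) (repWith_comp hjk (hα k)) hUk
  have sqU : IsPullback qk (j ≫ p) (jk ≫ α k) (c.π.app k.left) := sqk.flip.paste_vert (sqG k)
  let y₃ : Y ⟶ cH.pt := sqp'.lift (y₂ ≫ qk) y (by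
    rw [Category.assoc, sqU.w, Category.assoc, reassoc_of% hy₂, reassoc_of% hy'])
  have hy₃ : y₃ ≫ p' = y := sqp'.lift_snd _ _ _
  haveI : Mono p' := mono_of_openImm (repWith_baseChange sqp' (repWith_comp hjk (hα k)))
  have hcl : RepWith @IsClosedImmersion y₃ := closedImm_of_range hy hy₃ (by
    let e := sqp'.isoIsPullback _ _ sqU
    have he : e.hom ≫ j ≫ p = p' := IsPullback.isoIsPullback_hom_snd _ _ _ _
    rintro _ ⟨x, rfl⟩
    rw [← he, AlgSp.Points.map_comp, AlgSp.Points.map_comp]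
    exact hUO ⟨_, rfl⟩)
  let k₀ := CategoryTheory.Over.mk (𝟙 k.left)
  have hl : LocP @LocallyOfFiniteType (y₃ ≫ cH.π.app k₀ ≫ β k₀ ≫ D.map k.hom ≫ t₁) := by
    have e : y₃ ≫ cH.π.app k₀ ≫ β k₀ = y ≫ c.π.app k.left := by
      rw [(sqH k₀).w, reassoc_of% hy₃]; rfl
    rw [reassoc_of% e, c.w_assoc]
    exact hYB
  obtain ⟨m, hm⟩ := eventually_closedImmersion hB hHsp hHa hH k₀ (hHc k₀)
    (β k₀ ≫ D.map k.hom ≫ t₁) y₃ hcl hl
  refine ⟨m.left, fun i φ ↦ ?_⟩
  let n : CategoryTheory.Over k.left := CategoryTheory.Over.mk (φ ≫ m.hom)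
  have h := hm n (CategoryTheory.Over.homMk φ rfl)
  have e : (y₃ ≫ cH.π.app n) ≫ β n = y ≫ c.π.app i := by
    rw [Category.assoc, (sqH n).w, reassoc_of% hy₃]; rfl
  rw [← e]
  exact repWith_comp (repWith_mono h fun _ _ g (_ : IsClosedImmersion g) ↦ inferInstance)
    (repWith_mono (hβ n) fun _ _ g (_ : IsOpenImmersion g) ↦ inferInstance)

end Groth.Agent.Lib.AlgSpLimit
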