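import Groth.Agent.Lib.AlgSpLimit.ZarGlue
import Groth.Agent.Lib.AlgSpLimit.Immersion
import Groth.Agent.Lib.AlgSpLimit.Points

/-!
# A limit which is a scheme is a scheme at some stage
-/

set_option autoImplicit false
set_option linter.style.haveILetI false

universe u

open CategoryTheory CategoryTheory.Limits AlgebraicGeometry

namespace Groth.Agent.Lib.AlgSpLimit

open AlgSp (Sp yon RepWith IsAlgSpace IsAffineMor IsQuasiCompactSp IsQuasiSeparatedSp)
open Groth.Agent.Lib.AlgSpace Groth.Agent.Lib.AlgSpMor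

variable {S : Scheme.{u}}

/-- The image of the base change of an open subspace is the inverse image. -/
theorem range_map_snd_eq {P F G H : Sp S} {fst : P ⟶ F} {snd : P ⟶ H} {f : F ⟶ G} {g : H ⟶ G}
    (sq : IsPullback fst snd f g) (hf : RepWith @IsOpenImmersion f) {T : Over S}
    {a : (yon S).obj T ⟶ H} (has : RepWith @Surjective a) :
    Set.range (AlgSp.Points.map snd) = AlgSp.Points.map g ⁻¹' Set.range (AlgSp.Points.map f) := by
  obtain ⟨V, v, fv, sqV, -⟩ := repWith_exists (repWith_baseChange sq hf) a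
  have h2 := sqV.paste_horiz sq
  ext y
  obtain ⟨w, rfl⟩ := surjective_ofPt has y
  rw [← Set.mem_preimage (f := AlgSp.Points.ofPt a), ← range_of_isPullback sqV,
    range_of_isPullback h2]
  simp only [Set.mem_preimage, AlgSp.Points.map_ofPt]

/-- An affine open piece of the limit which is represented is an affine scheme at a stage. -/
theorem exists_affine_open_stage [QuasiSeparatedSpace ↥S] {I : Type u} [SmallCategory I]
    [IsCofiltered I] {D : I ⥤ Sp S} (hD : ∀ i, IsAlgSpace (D.obj i))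
    (hDa : ∀ (i j : I) (φ : i ⟶ j), IsAffineMor (D.map φ)) {c : Cone D} (hc : IsLimit c)
    (hqc : ∀ i, IsQuasiCompactSp (D.obj i)) (hqs : ∀ i, IsQuasiSeparatedSp (D.obj i))
    {T : Over S} [IsAffine T.left] (j : (yon S).obj T ⟶ c.pt) (hj : RepWith @IsOpenImmersion j) :
    ∃ i : I, ∀ ⦃m : I⦄ (v : m ⟶ i), ∃ (N : Over S) (γ : (yon S).obj N ⟶ D.obj m)
      (w : (yon S).obj T ⟶ (yon S).obj N), RepWith @IsOpenImmersion γ ∧
        w ≫ γ = j ≫ c.π.app m := by
  obtain ⟨i, Ui, ji, q, hji, hUi, sqj⟩ := exists_open_descends hD hDa hc hqc hqs j hj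
    QC.isQuasiCompactSp_yon
  obtain ⟨G, cG, α, p, q', ⟨hG⟩, hGsp, hGa, hGc, hGs, hα, sqp, sqG⟩ :=
    exists_restrict hD hDa hc i (hqs i) hji hUi
  let e := sqj.flip.isoIsPullback _ _ sqp
  have he : e.hom ≫ p = j := sqj.flip.isoIsPullback_hom_snd _ _ sqp
  obtain ⟨k, T', hT', ⟨eT'⟩⟩ := exists_affine_stage hGsp hGa hG hGc hGs e
  refine ⟨k.left, fun m v ↦ ?_⟩
  have sqN := IsPullback.of_hasPullback (α k) (D.map v)
  obtain ⟨N, r, fst, sqr, -⟩ := Perm.isAffineMor_baseChange sqN.flip (hDa _ _ v) hT' eT'.hom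
  haveI : IsIso fst := sqr.isIso_fst_of_isIso
  let w₀ : (yon S).obj T ⟶ pullback (α k) (D.map v) :=
    pullback.lift (e.hom ≫ cG.π.app k) (j ≫ c.π.app m) (by
      rw [Category.assoc, (sqG k).w, ← Category.assoc, he, Category.assoc, c.w])
  refine ⟨N, fst ≫ pullback.snd (α k) (D.map v), w₀ ≫ inv fst, ?_, ?_⟩
  · exact (repWith_iso_comp_iff _ fst _).2 (repWith_baseChange sqN (hα k))
  · rw [Category.assoc, IsIso.inv_hom_id_assoc]
    exact pullback.lift_snd _ _ _

/-- A limit which is a scheme is a scheme at some stage. -/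
theorem exists_scheme_stage_of_scheme [QuasiSeparatedSpace ↥S] {I : Type u} [SmallCategory I]
    [IsCofiltered I] {D : I ⥤ Sp S} (hD : ∀ i, IsAlgSpace (D.obj i))
    (hDa : ∀ (i j : I) (φ : i ⟶ j), IsAffineMor (D.map φ)) {c : Cone D} (hc : IsLimit c)
    (hqc : ∀ i, IsQuasiCompactSp (D.obj i)) (hqs : ∀ i, IsQuasiSeparatedSp (D.obj i))
    {T : Over S} (eT : (yon S).obj T ≅ c.pt) :
    ∃ (i : I) (M : Over S), Nonempty ((yon S).obj M ≅ D.obj i) := by
  classical
  have i₀ : I := IsCofiltered.nonempty.some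
  obtain ⟨-, hcc, -⟩ := qcqs_of_affine (hD i₀) (isAffineMor_π hDa hc i₀) (hqc i₀) (hqs i₀)
  haveI : CompactSpace (AlgSp.Points c.pt) := QC.compactSpace_points hcc
  have hsurj : ∀ y : AlgSp.Points c.pt, ∃ t : ↥T.left, AlgSp.Points.ofPt eT.hom t = y := fun y ↦ by
    obtain ⟨t, ht⟩ := (AlgSp.Points.schemeHomeo T).surjective (AlgSp.Points.map eT.inv y)
    refine ⟨t, ?_⟩
    rw [AlgSp.Points.ofPt_eq_map_ofScheme, show AlgSp.Points.ofScheme T t = _ from ht,
      ← AlgSp.Points.map_comp, eT.inv_hom_id, AlgSp.Points.map_id]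
  haveI : CompactSpace ↥T.left := by
    haveI : CompactSpace (AlgSp.Points ((yon S).obj T)) := ⟨by
      have hs : Function.Surjective (AlgSp.Points.map eT.inv) := fun y ↦
        ⟨AlgSp.Points.map eT.hom y, by
          rw [← AlgSp.Points.map_comp, eT.hom_inv_id, AlgSp.Points.map_id]⟩
      rw [← hs.range_eq]
      exact isCompact_range (AlgSp.Points.continuous_map _)⟩
    exact (AlgSp.Points.schemeHomeo T).symm.compactSpace
  let 𝒰 := T.left.affineCover.finiteSubcover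
  let P : 𝒰.I₀ → Over S := fun l ↦ CategoryTheory.Over.mk (𝒰.f l ≫ T.hom)
  let jP : ∀ l, (yon S).obj (P l) ⟶ c.pt := fun l ↦
    (yon S).map (CategoryTheory.Over.homMk (𝒰.f l) rfl : P l ⟶ T) ≫ eT.hom
  have hjP : ∀ l, RepWith @IsOpenImmersion (jP l) := fun l ↦
    repWith_comp ((AlgSp.repWith_yon_map_iff _ _).2 (inferInstanceAs (IsOpenImmersion (𝒰.f l))))
      (repWith_of_isIso _ _)
  have hstage : ∀ l, ∃ i : I, ∀ ⦃m : I⦄ (v : m ⟶ i), ∃ (N : Over S)
      (γ : (yon S).obj N ⟶ D.obj m) (w : (yon S).obj (P l) ⟶ (yon S).obj N),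
        RepWith @IsOpenImmersion γ ∧ w ≫ γ = jP l ≫ c.π.app m := fun l ↦
    haveI : IsAffine (P l).left := inferInstanceAs (IsAffine (𝒰.X l))
    exists_affine_open_stage hD hDa hc hqc hqs (jP l) (hjP l)
  choose ii hii using hstage
  haveI : Finite 𝒰.I₀ := inferInstance
  cases nonempty_fintype 𝒰.I₀
  obtain ⟨m, hm⟩ := IsCofiltered.inf_objs_exists (Finset.univ.image ii)
  choose N γ w hγ hw using fun l ↦
    hii l (hm (Finset.mem_image_of_mem ii (Finset.mem_univ l))).some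
  -- the pieces cover at a later stage
  let W : Set (AlgSp.Points (D.obj m)) := ⋃ l, Set.range (AlgSp.Points.map (γ l))
  obtain ⟨E, e, α, π, ⟨hlim⟩, hA, -, sqE, sqπ, hα, -, hπs⟩ :=
    exists_atlas_system hDa hc m (hD m) (hqc m)
  let j₀ := CategoryTheory.Over.mk (𝟙 m)
  have hWo : IsOpen W := isOpen_iUnion fun l ↦
    (isOpenMap_map (repWith_mono (hγ l) fun _ _ g (_ : IsOpenImmersion g) ↦
      (inferInstance : UniversallyOpen g))).isOpen_range
  let O : ((E ⋙ CategoryTheory.Over.forget S).obj j₀).Opens :=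
    ⟨AlgSp.Points.ofPt (α j₀) ⁻¹' W, hWo.preimage (AlgSp.Points.continuous_ofPt (α j₀))⟩
  have hO : ((CategoryTheory.Over.forget S).mapCone e).π.app j₀ ⁻¹ᵁ O = ⊤ := by
    refine eq_top_iff.2 fun y _ ↦ ?_
    show AlgSp.Points.ofPt (α j₀) ((e.π.app j₀).left y) ∈ W
    rw [← ofPt_yon_map_comp, (sqπ j₀).w]
    obtain ⟨t, ht⟩ := hsurj (AlgSp.Points.ofPt π y)
    obtain ⟨l, x, rfl⟩ := 𝒰.exists_eq t
    refine Set.mem_iUnion.2 ⟨l, AlgSp.Points.ofPt (w l) x, ?_⟩
    rw [AlgSp.Points.map_ofPt, hw, ← AlgSp.Points.map_ofPt, ← AlgSp.Points.map_ofPt π, ← ht]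
    refine congrArg (AlgSp.Points.map (c.π.app m)) ?_
    exact ofPt_yon_map_comp _ _ _
  haveI : ∀ k, IsAffine ((E ⋙ CategoryTheory.Over.forget S).obj k) := hA
  haveI : ∀ {k k'} (f : k ⟶ k'), IsAffineHom ((E ⋙ CategoryTheory.Over.forget S).map f) :=
    fun f ↦ inferInstance
  obtain ⟨n, f, hn⟩ := exists_map_eq_top _ _ hlim O hO
  -- the pieces at that stage
  have hex : ∀ l, ∃ (N' : Over S) (γ' : (yon S).obj N' ⟶ D.obj n.left),
      RepWith @IsOpenImmersion γ' ∧ Set.range (AlgSp.Points.map γ') =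
        AlgSp.Points.map (D.map f.left) ⁻¹' Set.range (AlgSp.Points.map (γ l)) := fun l ↦ by
    have sq := IsPullback.of_hasPullback (γ l) (D.map f.left)
    obtain ⟨N', r, fst, sqr, -⟩ := repWith_exists
      (AffineDescent.repWith_of_isAffineMor (Perm.isAffineMor_baseChange sq.flip (hDa _ _ f.left)))
      (𝟙 _)
    haveI : IsIso fst := sqr.isIso_fst_of_isIso
    refine ⟨N', fst ≫ pullback.snd (γ l) (D.map f.left),
      (repWith_iso_comp_iff _ fst _).2 (repWith_baseChange sq (hγ l)), ?_⟩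
    rw [← range_map_snd_eq sq (hγ l) (hα n).2]
    have hsf : Function.Surjective (AlgSp.Points.map fst) := fun x ↦
      ⟨AlgSp.Points.map (inv fst) x, by
        rw [← AlgSp.Points.map_comp, IsIso.inv_hom_id, AlgSp.Points.map_id]⟩
    refine Set.Subset.antisymm ?_ ?_
    · rintro x ⟨y, rfl⟩
      rw [AlgSp.Points.map_comp]
      exact Set.mem_range_self _
    · rintro x ⟨z, rfl⟩
      obtain ⟨y, rfl⟩ := hsf z
      exact ⟨y, AlgSp.Points.map_comp _ _ _⟩
  choose N' γ' hγ' hr using hex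
  obtain ⟨G, ⟨eG⟩⟩ := exists_iso_yon_of_open_cover (hD n.left) N' γ' hγ' fun x ↦ by
    obtain ⟨y, rfl⟩ := surjective_ofPt (hα n).2 x
    have : y ∈ (E ⋙ CategoryTheory.Over.forget S).map f ⁻¹ᵁ O := hn.ge (Set.mem_univ y)
    replace this : AlgSp.Points.ofPt (α j₀) ((E.map f).left y) ∈ W := this
    rw [← ofPt_yon_map_comp, (sqE f).w] at this
    obtain ⟨l, hl⟩ := Set.mem_iUnion.1 this
    refine ⟨l, ?_⟩
    rw [hr, Set.mem_preimage, AlgSp.Points.map_ofPt]
    exact hl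
  exact ⟨n.left, G, ⟨eG⟩⟩

end Groth.Agent.Lib.AlgSpLimit
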