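import Groth.Agent.Lib.Lim.QuasiFinite
import Groth.Agent.Lib.Lim.Basic
import Mathlib.AlgebraicGeometry.Morphisms.Integral
import Mathlib.AlgebraicGeometry.Noetherian
import Mathlib.RingTheory.Ideal.GoingUp

/-!
# A limit with fibres without specializations is quasi-finite at some stage
-/

set_option autoImplicit false
set_option linter.style.haveILetI false
set_option backward.isDefEq.respectTransparency false

universe u

open CategoryTheory CategoryTheory.Limits AlgebraicGeometry TopologicalSpace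

namespace Groth.Agent.Lib.AlgSpLimit

/-- An integral morphism to an affine scheme has no specializations in its fibres. -/
theorem eq_of_specializes_of_isIntegralHom {X Y : Scheme.{u}} (f : X ⟶ Y) [IsIntegralHom f]
    [IsAffine Y] {x x' : X} (h : x ⤳ x') (hf : f x = f x') : x = x' := by
  haveI : IsAffine X := isAffine_of_isAffineHom f
  have hint : f.appTop.hom.IsIntegral := IsIntegralHom.isIntegral_app f ⊤ (isAffineOpen_top Y)
  let p := X.isoSpec.hom x
  let q := X.isoSpec.hom x'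
  have hpq : p.asIdeal ≤ q.asIdeal :=
    (PrimeSpectrum.le_iff_specializes _ _).2 (h.map X.isoSpec.hom.continuous)
  have hcomap : Spec.map f.appTop p = Spec.map f.appTop q := by
    simp only [p, q, ← Scheme.Hom.comp_apply, Scheme.isoSpec_hom_naturality]
    rw [Scheme.Hom.comp_apply, Scheme.Hom.comp_apply, hf]
  have heq : p = q := by
    apply PrimeSpectrum.ext
    by_contra hne
    obtain ⟨a, ha, ha'⟩ := SetLike.exists_of_lt (lt_of_le_of_ne hpq hne)
    algebraize [f.appTop.hom]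
    have hlt := Ideal.comap_lt_comap_of_integral_mem_sdiff (R := Γ(Y, ⊤)) (I := p.asIdeal)
      (J := q.asIdeal) hpq ⟨ha, ha'⟩ (Algebra.IsIntegral.isIntegral a)
    exact hlt.ne (congrArg PrimeSpectrum.asIdeal hcomap)
  exact X.isoSpec.hom.homeomorph.injective heq

/-- A closed subset without specializations of a noetherian sober space is finite. -/
theorem finite_of_no_specializes {α : Type*} [TopologicalSpace α] [NoetherianSpace α]
    [QuasiSober α] {R : Set α} (hR : IsClosed R) (h : ∀ x ∈ R, ∀ y ∈ R, x ⤳ y → x = y) :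
    R.Finite := by
  obtain ⟨𝒮, h𝒮, hc, hi, hu⟩ := NoetherianSpace.exists_finite_set_isClosed_irreducible hR
  rw [hu]
  refine h𝒮.sUnion fun C hC ↦ Set.Subsingleton.finite fun x hx y hy ↦ ?_
  have hsub : C ⊆ R := hu ▸ Set.subset_sUnion_of_mem hC
  obtain ⟨ξ, hξ⟩ := QuasiSober.sober (hi C hC) (hc C hC)
  have hm : ∀ z ∈ C, ξ = z := fun z hz ↦ h ξ (hsub hξ.mem) z (hsub hz) (hξ.specializes hz)
  rw [← hm x hx, ← hm y hy]

variable {I : Type u} [SmallCategory I] [IsCofiltered I] {D : I ⥤ Scheme.{u}} {W : Scheme.{u}}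

/-- The projections of a limit of affine schemes along finite morphisms are integral. -/
theorem isIntegralHom_π {c : Cone D} (hc : IsLimit c) [∀ (i j : I) (φ : i ⟶ j), IsFinite (D.map φ)]
    [∀ i, IsAffine (D.obj i)] (i₀ : I) : IsIntegralHom (c.π.app i₀) := by
  haveI : ∀ {i j : I} (φ : i ⟶ j), IsAffineHom (D.map φ) := fun φ ↦ inferInstance
  rw [HasAffineProperty.iff_of_isAffine (P := @IsIntegralHom)]
  refine ⟨Scheme.isAffine_of_isLimit c hc, fun x ↦ ?_⟩
  obtain ⟨k, a, rfl⟩ := exists_appTop_π_eq_of_isLimit D c hc x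
  obtain ⟨l, u, v, -⟩ := IsCofilteredOrEmpty.cone_objs k i₀
  have hint : ((D.map v).appTop.hom).IsIntegralElem ((D.map u).appTop a) :=
    IsIntegralHom.isIntegral_app (D.map v) ⊤ (isAffineOpen_top _) _
  obtain ⟨P, hP, hP'⟩ := hint
  refine ⟨P, hP, ?_⟩
  have h := congrArg (c.π.app l).appTop hP'
  rw [← c.w u, ← c.w v]
  simp only [Scheme.Hom.comp_appTop, CommRingCat.hom_comp, RingHom.comp_apply] at h ⊢
  exact ((Polynomial.hom_eval₂ P _ (c.π.app l).appTop.hom _).symm.trans h).trans (map_zero _)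

/-- If the limit has no specializations in its fibres, every fibre is finite at some stage. -/
theorem exists_finite_fibre (t : D ⟶ (Functor.const I).obj W) {c : Cone D} (hc : IsLimit c)
    [∀ (i j : I) (φ : i ⟶ j), IsFinite (D.map φ)] [∀ i, IsAffine (D.obj i)] [IsAffine W]
    [∀ i, LocallyOfFiniteType (t.app i)] (i₀ : I)
    (hd : ∀ x x' : c.pt, x ⤳ x' → (c.π.app i₀ ≫ t.app i₀) x = (c.π.app i₀ ≫ t.app i₀) x' → x = x')
    (y : W) : ∃ (j : I) (_ : j ⟶ i₀), ((t.app j : D.obj j ⟶ W) ⁻¹' {y}).Finite := by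
  haveI : ∀ {i j : I} (φ : i ⟶ j), IsAffineHom (D.map φ) := fun φ ↦ inferInstance
  let f : D.obj i₀ ⟶ W := t.app i₀
  haveI : LocallyOfFiniteType f := ‹∀ i, LocallyOfFiniteType (t.app i)› i₀
  haveI : QuasiCompact f := inferInstance
  let P := f.fiber y
  let ι : P → D.obj i₀ := fun p ↦ f.fiberι y p
  have hι : Topology.IsEmbedding ι := (f.fiberι y).isEmbedding
  have hrange : Set.range ι = f ⁻¹' {y} := f.range_fiberι y
  have ht : ∀ {j} (φ : j ⟶ i₀) (x : D.obj j), f (D.map φ x) = t.app j x := fun φ x ↦ by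
    rw [← Scheme.Hom.comp_apply]
    exact congrArg (· x) (congrArg (fun g : D.obj _ ⟶ W ↦ (g : D.obj _ → W))
      ((t.naturality φ).trans (Category.comp_id _)))
  haveI : LocallyOfFiniteType (f.fiberToSpecResidueField y) :=
    MorphismProperty.pullback_snd _ _ inferInstance
  haveI : IsLocallyNoetherian P :=
    LocallyOfFiniteType.isLocallyNoetherian (f.fiberToSpecResidueField y)
  haveI : CompactSpace P := QuasiCompact.compactSpace_of_compactSpace (f.fiberToSpecResidueField y)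
  haveI : AlgebraicGeometry.IsNoetherian P := {}
  -- the images in the fibre
  let R : (Σ j, (j ⟶ i₀)) → Closeds P := fun q ↦
    ⟨ι ⁻¹' Set.range (D.map q.2), (D.map q.2).isClosedMap.isClosed_range.preimage hι.continuous⟩
  obtain ⟨m, ⟨⟨j, φ⟩, rfl⟩, hmin⟩ := (wellFounded_lt (α := Closeds P)).has_min
    (Set.range R) ⟨R ⟨i₀, 𝟙 _⟩, _, rfl⟩
  have hle : ∀ q : Σ k, (k ⟶ i₀), R ⟨j, φ⟩ ≤ R q := by
    intro ⟨k, ψ⟩
    obtain ⟨l, a, b, e⟩ := IsCofiltered.cospan φ ψ
    have h1 : R ⟨l, a ≫ φ⟩ ≤ R ⟨j, φ⟩ := by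
      rintro p ⟨x, hx⟩
      exact ⟨D.map a x, by rw [← hx, ← Scheme.Hom.comp_apply, ← D.map_comp]⟩
    have h2 : R ⟨l, a ≫ φ⟩ ≤ R ⟨k, ψ⟩ := by
      rintro p ⟨x, hx⟩
      exact ⟨D.map b x, by rw [← hx, ← Scheme.Hom.comp_apply, ← D.map_comp, e]⟩
    rwa [eq_of_le_of_not_lt h1 (hmin _ ⟨_, rfl⟩)] at h2
  have hlim : ∀ p ∈ (R ⟨j, φ⟩ : Set P), ∃ s : c.pt, c.π.app i₀ s = ι p := by
    intro p hp
    let a := (D.obj i₀).fromSpecResidueField (ι p)
    have sq := IsPullback.of_hasPullback a (c.π.app i₀)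
    haveI : ∀ k, Nonempty ↥((Lim.Basic.bcDiagram D a).obj k) := fun k ↦ by
      obtain ⟨x, hx⟩ := hle ⟨k.left, k.hom⟩ hp
      obtain ⟨z, -⟩ := Scheme.Pullback.exists_preimage_pullback (f := a) (g := D.map k.hom)
        default x (((D.obj i₀).fromSpecResidueField_apply (ι p) _).trans hx.symm)
      exact ⟨z⟩
    haveI : ∀ k, CompactSpace ↥((Lim.Basic.bcDiagram D a).obj k) := fun k ↦
      Lim.Basic.compactSpace_bcDiagram D a k
    haveI : ∀ {k l} (g : k ⟶ l), IsAffineHom ((Lim.Basic.bcDiagram D a).map g) := fun g ↦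
      inferInstance
    obtain ⟨z⟩ := Scheme.nonempty_of_isLimit _ _ (Lim.Basic.isLimitBcCone hc sq)
    refine ⟨pullback.snd a (c.π.app i₀) z, ?_⟩
    rw [← Scheme.Hom.comp_apply, ← pullback.condition, Scheme.Hom.comp_apply,
      (D.obj i₀).fromSpecResidueField_apply]
  have hfin : (R ⟨j, φ⟩ : Set P).Finite := by
    refine finite_of_no_specializes (R ⟨j, φ⟩).isClosed fun p hp p' hp' hs ↦ ?_
    obtain ⟨s, hs'⟩ := hlim p hp
    haveI : UniversallyClosed (c.π.app i₀) := by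
      haveI : IsAffineHom (c.π.app i₀) := Lim.Basic.isAffineHom_π hc i₀
      haveI : IsIntegralHom (c.π.app i₀) := isIntegralHom_π hc i₀
      infer_instance
    obtain ⟨s', hss', hs''⟩ := (c.π.app i₀).isClosedMap.specializingMap
      (show c.π.app i₀ s ⤳ ι p' from hs' ▸ hs.map hι.continuous)
    have hy : ∀ q, f (ι q) = y := fun q ↦ hrange.subset ⟨q, rfl⟩
    have := hd s s' hss' (by
      rw [Scheme.Hom.comp_apply, Scheme.Hom.comp_apply, hs', hs'']
      exact (hy p).trans (hy p').symm)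
    exact hι.injective (hs'.symm.trans ((congrArg _ this).trans hs''))
  refine ⟨j, φ, ((D.map φ).finite_preimage (hfin.image ι)).subset fun x hx ↦ ?_⟩
  obtain ⟨p, hp⟩ := hrange.symm.subset (show D.map φ x ∈ f ⁻¹' {y} from (ht φ x).trans hx)
  exact ⟨p, ⟨x, hp.symm⟩, hp⟩

/-- If the limit has no specializations in its fibres, some stage is quasi-finite. -/
theorem exists_locallyQuasiFinite (t : D ⟶ (Functor.const I).obj W) {c : Cone D} (hc : IsLimit c)
    [∀ (i j : I) (φ : i ⟶ j), IsFinite (D.map φ)] [∀ i, IsAffine (D.obj i)] [IsAffine W]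
    [∀ i, LocallyOfFiniteType (t.app i)] (i₀ : I)
    (hd : ∀ x x' : c.pt, x ⤳ x' → (c.π.app i₀ ≫ t.app i₀) x = (c.π.app i₀ ≫ t.app i₀) x' → x = x') :
    ∃ i, LocallyQuasiFinite (t.app i : D.obj i ⟶ W) := by
  haveI : ∀ {i j : I} (φ : i ⟶ j), IsAffineHom (D.map φ) := fun φ ↦ inferInstance
  let f : ∀ i, D.obj i ⟶ W := fun i ↦ t.app i
  have hf : ∀ {i j} (φ : i ⟶ j), D.map φ ≫ f j = f i := fun φ ↦
    (t.naturality φ).trans (Category.comp_id _)
  haveI : ∀ i, LocallyOfFiniteType (f i) := ‹_›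
  let O : ∀ i, (D.obj i).Opens := fun i ↦ (f i).quasiFiniteLocus
  suffices ∃ i, O i = ⊤ by
    obtain ⟨i, hi⟩ := this
    exact ⟨i, (f i).quasiFiniteLocus_eq_top_iff.1 hi⟩
  by_contra hne
  push Not at hne
  have hmap : ∀ {i j : I} (φ : i ⟶ j), D.map φ ⁻¹ᵁ O j ≤ O i := by
    intro i j φ x hx
    let U := D.map φ ⁻¹ᵁ O j
    haveI h1 : LocallyQuasiFinite ((O j).ι ≫ f j) := inferInstance
    haveI : LocallyQuasiFinite (U.ι ≫ f i) := by
      rw [← hf φ, ← Category.assoc, ← morphismRestrict_ι, Category.assoc]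
      infer_instance
    have e : U.ι ⁻¹ᵁ O i = ⊤ := by
      rw [← (U.ι).quasiFiniteLocus_comp (f i), Scheme.Hom.quasiFiniteLocus_eq_top]
    obtain ⟨x', rfl⟩ : x ∈ Set.range U.ι := U.range_ι.symm ▸ hx
    exact e.ge (Opens.mem_top x')
  have hZne : ∀ i, ((O i : Set (D.obj i))ᶜ).Nonempty := fun i ↦ by
    rw [Set.nonempty_compl]
    exact fun h ↦ hne i (SetLike.coe_injective h)
  obtain ⟨s, hs⟩ := exists_mem_of_isClosed_of_nonempty D c hc
    (fun i ↦ ((O i : Set (D.obj i))ᶜ)) (fun i ↦ (O i).2.isClosed_compl) hZne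
    (fun i ↦ (O i).2.isClosed_compl.isCompact) (fun {i j} φ x hx h ↦ hx (hmap φ h))
  obtain ⟨j, φ, hj⟩ := exists_finite_fibre t hc i₀ hd ((c.π.app i₀ ≫ t.app i₀) s)
  refine hs j (Lim.QuasiFinite.quasiFiniteAt_of_finite (f j) _ ?_)
  have e : f j (c.π.app j s) = (c.π.app i₀ ≫ t.app i₀) s := by
    rw [← Scheme.Hom.comp_apply, ← hf φ, ← Category.assoc, c.w]
    rfl
  rw [e]
  exact hj

end Groth.Agent.Lib.AlgSpLimit
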