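import Groth.Agent.Lib.AlgSpLimit.Core

/-!
# Properties at some stage of a limit: diagonals, restriction to a later stage
-/

set_option autoImplicit false
set_option linter.style.haveILetI false
set_option linter.unusedSectionVars false

universe u

open CategoryTheory CategoryTheory.Limits AlgebraicGeometry

namespace Groth.Agent.Lib.AlgSpLimit

open AlgSp (Sp yon Representable RepWith IsAlgSpace LocP IsAffineMor IsQuasiCompactSp
  IsQuasiSeparatedSp)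
open Groth.Agent.Lib.AlgSpace Groth.Agent.Lib.AlgSpMor

variable {S : Scheme.{u}} {I : Type u} [SmallCategory I] [IsCofiltered I] {D : I ⥤ Sp S} {i₀ : I}
  {X₀ Y₀ : Sp S} {f₀ : X₀ ⟶ Y₀} {b₀ : Y₀ ⟶ D.obj i₀}

/-- A space affine over a qcqs space is qcqs. -/
theorem qcqs_of_affine {X Y : Sp S} {f : X ⟶ Y} (hY : IsAlgSpace Y) (hf : IsAffineMor f)
    (hYc : IsQuasiCompactSp Y) (hYs : IsQuasiSeparatedSp Y) :
    IsAlgSpace X ∧ IsQuasiCompactSp X ∧ IsQuasiSeparatedSp X := by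
  have hr := AffineDescent.repWith_of_isAffineMor hf
  have hX := isAlgSpace_of_representable hr.rep hY
  haveI := QC.compactSpace_points hYc
  refine ⟨hX, (QC.isQuasiCompactSp_iff hX).2 (QC.compactSpace_of_repWith
    (repWith_mono hr fun _ _ g (_ : IsAffineHom g) ↦ (inferInstance : QuasiCompact g)) hY), ?_⟩
  refine Perm.repWith_diag_of_mor @QuasiCompact f ?_ hYs
  haveI : IsZariskiLocalAtTarget (@QuasiCompact : MorphismProperty Scheme.{u}) :=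
    @HasAffineProperty.instIsZariskiLocalAtTarget _ _
      instHasAffinePropertyQuasiCompactCompactSpaceCarrierCarrierCommRingCat
  refine Sep.repWith_diagonal_of_affine hX.diag fun Z hZ g Q fst snd sq ↦ ?_
  obtain ⟨W, i, a, sqW, hW⟩ := hf hZ g
  let e := sq.isoIsPullback _ _ sqW
  haveI : IsAffine W.left := hW
  haveI : IsAffine Z.left := hZ
  have hd : RepWith @QuasiCompact (pullback.diagonal ((yon S).map i)) :=
    (AlgSp.repWith_diagonal_yon_map_iff _ i).2 inferInstance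
  exact Sep.repWith_diagonal_of_eq e (Iso.refl _)
    (by simp only [Iso.refl_hom, Category.comp_id, e, IsPullback.isoIsPullback_hom_snd]) hd

/-- Every base change to some stage has `P`. -/
def Eventually (D : I ⥤ Sp S) {i₀ : I} {X₀ Y₀ : Sp S} (f₀ : X₀ ⟶ Y₀) (b₀ : Y₀ ⟶ D.obj i₀)
    (P : MorphismProperty (Sp S)) : Prop :=
  ∃ (i : I) (φ : i ⟶ i₀), ∀ (Xi Yi : Sp S) (fi : Xi ⟶ Yi) (pYi : Yi ⟶ Y₀) (qYi : Yi ⟶ D.obj i)
    (_ : IsPullback pYi qYi b₀ (D.map φ)) (pXi : Xi ⟶ X₀) (_ : IsPullback pXi fi f₀ pYi), P fi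

/-- A morphism over a stage of a cofiltered system of spaces, and its base change to the limit. -/
structure Setup (D : I ⥤ Sp S) (i₀ : I) {X₀ Y₀ : Sp S} (f₀ : X₀ ⟶ Y₀)
    (b₀ : Y₀ ⟶ D.obj i₀) where
  hD : ∀ i, IsAlgSpace (D.obj i)
  hDa : ∀ (i j : I) (φ : i ⟶ j), IsAffineMor (D.map φ)
  c : Cone D
  hc : IsLimit c
  hX₀ : IsAlgSpace X₀
  hY₀ : IsAlgSpace Y₀
  hXc : IsQuasiCompactSp X₀
  hXs : IsQuasiSeparatedSp X₀
  hYc : IsQuasiCompactSp Y₀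
  hYs : IsQuasiSeparatedSp Y₀
  X : Sp S
  Y : Sp S
  f : X ⟶ Y
  pY : Y ⟶ Y₀
  qY : Y ⟶ c.pt
  hY : IsPullback pY qY b₀ (c.π.app i₀)
  pX : X ⟶ X₀
  hX : IsPullback pX f f₀ pY

namespace Setup

variable (σ : Setup D i₀ f₀ b₀)
include σ

theorem isAlgSpace_Y : IsAlgSpace σ.Y :=
  isAlgSpace_of_representable
    (representable_baseChange σ.hY.flip (representable_π σ.hDa σ.hc i₀)) σ.hY₀

theorem isAlgSpace_X : IsAlgSpace σ.X :=
  isAlgSpace_of_isPullback σ.hX σ.hY₀.diag σ.hX₀ σ.isAlgSpace_Y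

theorem isAlgSpace_stage {i : I} {φ : i ⟶ i₀} {Xi Yi : Sp S} {fi : Xi ⟶ Yi} {pYi : Yi ⟶ Y₀}
    {qYi : Yi ⟶ D.obj i} (hYi : IsPullback pYi qYi b₀ (D.map φ)) {pXi : Xi ⟶ X₀}
    (hXi : IsPullback pXi fi f₀ pYi) : IsAlgSpace Xi ∧ IsAlgSpace Yi :=
  have h := isAlgSpace_of_isPullback hYi (σ.hD i₀).diag σ.hY₀ (σ.hD i)
  ⟨isAlgSpace_of_isPullback hXi σ.hY₀.diag σ.hX₀ h, h⟩

theorem descend [QuasiSeparatedSpace ↥S] {P Q : MorphismProperty (Sp S)} (H : SpDescends P Q)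
    (hloc : ChartLocal P)
    (hP : ∀ ⦃X Y X' Y' : Sp S⦄ ⦃f : X ⟶ Y⦄ ⦃g : Y' ⟶ Y⦄ ⦃fst : X' ⟶ X⦄ ⦃snd : X' ⟶ Y'⦄,
      IsAlgSpace X → IsAlgSpace Y → IsAlgSpace Y' → IsPullback fst snd f g → P f → P snd)
    (hQ : ∀ ⦃X Y X' Y' : Sp S⦄ ⦃f : X ⟶ Y⦄ ⦃g : Y' ⟶ Y⦄ ⦃fst : X' ⟶ X⦄ ⦃snd : X' ⟶ Y'⦄,
      IsAlgSpace X → IsAlgSpace Y → IsAlgSpace Y' → IsPullback fst snd f g → Q f → Q snd)
    (h₀ : Q f₀) (hf : P σ.f) : Eventually D f₀ b₀ P :=
  AlgSpLimit.descend H hloc hP hQ D σ.hD σ.hDa σ.c σ.hc i₀ ⟨X₀, σ.hX₀⟩ ⟨Y₀, σ.hY₀⟩ f₀ b₀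
    σ.hXc σ.hXs σ.hYc σ.hYs σ.X σ.Y σ.f σ.pY σ.qY σ.hY σ.pX σ.hX h₀ fun _ ↦ hf

theorem eventually_imp {P P' : MorphismProperty (Sp S)} (h : Eventually D f₀ b₀ P)
    (hPP' : ∀ ⦃X Y : Sp S⦄ (f : X ⟶ Y), IsAlgSpace X → IsAlgSpace Y → P f → P' f) :
    Eventually D f₀ b₀ P' :=
  let ⟨i, φ, hi⟩ := h
  ⟨i, φ, fun Xi Yi fi pYi qYi hYi pXi hXi ↦ hPP' fi (σ.isAlgSpace_stage hYi hXi).1
    (σ.isAlgSpace_stage hYi hXi).2 (hi Xi Yi fi pYi qYi hYi pXi hXi)⟩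

omit σ in
/-- The stages map to earlier stages by base change. -/
theorem exists_square {i k : I} {φ : i ⟶ i₀} (a : k ⟶ i) {Xk Yk : Sp S} {fk : Xk ⟶ Yk}
    {pYk : Yk ⟶ Y₀} {qYk : Yk ⟶ D.obj k} (hYk : IsPullback pYk qYk b₀ (D.map (a ≫ φ)))
    {pXk : Xk ⟶ X₀} (hXk : IsPullback pXk fk f₀ pYk) :
    ∃ (g : Yk ⟶ pullback b₀ (D.map φ))
      (u : Xk ⟶ pullback f₀ (pullback.fst b₀ (D.map φ))),
      IsPullback u fk (pullback.snd f₀ (pullback.fst b₀ (D.map φ))) g := by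
  have sqY := IsPullback.of_hasPullback b₀ (D.map φ)
  let g := sqY.lift pYk (qYk ≫ D.map a) (by rw [Category.assoc, ← D.map_comp]; exact hYk.w)
  have hg : g ≫ pullback.fst _ _ = pYk := sqY.lift_fst _ _ _
  have sqX := IsPullback.of_hasPullback f₀ (pullback.fst b₀ (D.map φ))
  let u := sqX.lift pXk (fk ≫ g) (by rw [Category.assoc, hg]; exact hXk.w)
  exact ⟨g, u, IsPullback.of_right (by rw [sqX.lift_fst, hg]; exact hXk) (sqX.lift_snd _ _ _) sqX⟩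

theorem eventually_and {P P' : MorphismProperty (Sp S)} (h : Eventually D f₀ b₀ P)
    (h' : Eventually D f₀ b₀ P')
    (hP : ∀ ⦃X Y X' Y' : Sp S⦄ ⦃f : X ⟶ Y⦄ ⦃g : Y' ⟶ Y⦄ ⦃fst : X' ⟶ X⦄ ⦃snd : X' ⟶ Y'⦄,
      IsAlgSpace X → IsAlgSpace Y → IsAlgSpace Y' → IsPullback fst snd f g → P f → P snd)
    (hP' : ∀ ⦃X Y X' Y' : Sp S⦄ ⦃f : X ⟶ Y⦄ ⦃g : Y' ⟶ Y⦄ ⦃fst : X' ⟶ X⦄ ⦃snd : X' ⟶ Y'⦄,
      IsAlgSpace X → IsAlgSpace Y → IsAlgSpace Y' → IsPullback fst snd f g → P' f → P' snd) :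
    Eventually D f₀ b₀ (P ⊓ P') := by
  obtain ⟨i, φ, hi⟩ := h
  obtain ⟨i', φ', hi'⟩ := h'
  obtain ⟨k, a, a', e⟩ := IsCofiltered.cospan φ φ'
  refine ⟨k, a ≫ φ, fun Xk Yk fk pYk qYk hYk pXk hXk ↦ ?_⟩
  have hk := σ.isAlgSpace_stage hYk hXk
  have sqY := IsPullback.of_hasPullback b₀ (D.map φ)
  have sqY' := IsPullback.of_hasPullback b₀ (D.map φ')
  have sq := IsPullback.of_hasPullback f₀ (pullback.fst b₀ (D.map φ))
  have sq' := IsPullback.of_hasPullback f₀ (pullback.fst b₀ (D.map φ'))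
  obtain ⟨g, u, s⟩ := exists_square a hYk hXk
  obtain ⟨g', u', s'⟩ := exists_square (φ := φ') a' (qYk := qYk) (by rw [← e]; exact hYk) hXk
  exact ⟨hP (σ.isAlgSpace_stage sqY sq).1 (σ.isAlgSpace_stage sqY sq).2 hk.2 s
      (hi _ _ _ _ _ sqY _ sq),
    hP' (σ.isAlgSpace_stage sqY' sq').1 (σ.isAlgSpace_stage sqY' sq').2 hk.2 s'
      (hi' _ _ _ _ _ sqY' _ sq')⟩

theorem qcqs_fibreProd [QuasiSeparatedSpace ↥S] :
    IsAlgSpace (pullback f₀ f₀) ∧ IsQuasiCompactSp (pullback f₀ f₀) ∧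
      IsQuasiSeparatedSp (pullback f₀ f₀) := by
  have sq := IsPullback.of_hasPullback f₀ f₀
  have hP : IsAlgSpace (pullback f₀ f₀) := isAlgSpace_of_isPullback sq σ.hY₀.diag σ.hX₀ σ.hX₀
  refine ⟨hP, (QC.isQuasiCompactSp_iff hP).2 ?_, ?_⟩
  · haveI := QC.compactSpace_points σ.hXc
    obtain ⟨Z, z, hZ, -, hzs⟩ := QC.exists_affine_atlas σ.hX₀
    haveI := hZ
    have sqQ := IsPullback.of_hasPullback (pullback.snd f₀ f₀) z
    obtain ⟨-, hQc, -⟩ := qcqs_of_isPullback σ.hX₀ σ.hY₀ σ.hXc σ.hXs σ.hYs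
      (sqQ.paste_horiz sq)
    haveI := QC.compactSpace_points hQc
    exact QC.compactSpace_of_surjective (QC.surjective_of_isPullback' sqQ (surjective_map hzs))
  · exact Perm.repWith_diag_of_mor @QuasiCompact (pullback.snd f₀ f₀)
      (Sep.repWith_diagonal_baseChange sq (Sep.repWith_diagonal_of_diag _ f₀ σ.hXs)) σ.hXs

omit σ in
theorem isPullback_map_self {X X' Y Y' : Sp S} {f : X ⟶ Y} {g : Y' ⟶ Y} {fst : X' ⟶ X}
    {f' : X' ⟶ Y'} (sq : IsPullback fst f' f g) :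
    IsPullback (pullback.map f' f' f f fst fst g sq.w.symm sq.w.symm)
      (pullback.fst f' f' ≫ f') (pullback.fst f f ≫ f) g := by
  have h1 : IsPullback (pullback.snd f' f' ≫ fst) (pullback.fst f' f') f (f' ≫ g) :=
    (IsPullback.of_hasPullback f' f').flip.paste_horiz sq
  have h2 : IsPullback (pullback.map f' f' f f fst fst g sq.w.symm sq.w.symm)
      (pullback.fst f' f') (pullback.fst f f) fst := by
    refine IsPullback.of_right (h₁₂ := pullback.snd f f) (h₂₂ := f) ?_ (pullback.lift_fst _ _ _)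
      (IsPullback.of_hasPullback f f).flip
    rw [← sq.w] at h1
    rw [pullback.map, pullback.lift_snd]
    exact h1
  exact h2.paste_vert sq

/-- The setup of the diagonal. -/
noncomputable def diag [QuasiSeparatedSpace ↥S] :
    Setup D i₀ (pullback.diagonal f₀) (pullback.fst f₀ f₀ ≫ f₀ ≫ b₀) where
  hD := σ.hD
  hDa := σ.hDa
  c := σ.c
  hc := σ.hc
  hX₀ := σ.hX₀
  hY₀ := σ.qcqs_fibreProd.1
  hXc := σ.hXc
  hXs := σ.hXs
  hYc := σ.qcqs_fibreProd.2.1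
  hYs := σ.qcqs_fibreProd.2.2
  X := σ.X
  Y := pullback σ.f σ.f
  f := pullback.diagonal σ.f
  pY := pullback.map σ.f σ.f f₀ f₀ σ.pX σ.pX σ.pY σ.hX.w.symm σ.hX.w.symm
  qY := (pullback.fst σ.f σ.f ≫ σ.f) ≫ σ.qY
  hY := by
    rw [← Category.assoc]
    exact (isPullback_map_self σ.hX).paste_vert σ.hY
  pX := σ.pX
  hX := Sep.isPullback_diagonal_map σ.hX

theorem eventually_diag {P : MorphismProperty (Sp S)}
    (h : Eventually D (pullback.diagonal f₀) (pullback.fst f₀ f₀ ≫ f₀ ≫ b₀) P) :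
    Eventually D f₀ b₀ (fun _ _ f ↦ P (pullback.diagonal f)) := by
  obtain ⟨i, φ, hi⟩ := h
  refine ⟨i, φ, fun Xi Yi fi pYi qYi hYi pXi hXi ↦
    hi _ _ _ (pullback.map fi fi f₀ f₀ pXi pXi pYi hXi.w.symm hXi.w.symm)
      ((pullback.fst fi fi ≫ fi) ≫ qYi) ?_ pXi (Sep.isPullback_diagonal_map hXi)⟩
  rw [← Category.assoc]
  exact (isPullback_map_self hXi).paste_vert hYi

/-- The setup restricted to a later stage. -/
noncomputable def stage [QuasiSeparatedSpace ↥S] {i : I} (φ : i ⟶ i₀)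
    (h : IsQuasiCompactSp (pullback b₀ (D.map φ)) ∧ IsQuasiSeparatedSp (pullback b₀ (D.map φ)) ∧
      IsQuasiCompactSp (pullback f₀ (pullback.fst b₀ (D.map φ))) ∧
      IsQuasiSeparatedSp (pullback f₀ (pullback.fst b₀ (D.map φ)))) :
    Setup D i (pullback.snd f₀ (pullback.fst b₀ (D.map φ))) (pullback.snd b₀ (D.map φ)) where
  hD := σ.hD
  hDa := σ.hDa
  c := σ.c
  hc := σ.hc
  hX₀ := (σ.isAlgSpace_stage (IsPullback.of_hasPullback b₀ (D.map φ))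
    (IsPullback.of_hasPullback f₀ _)).1
  hY₀ := (σ.isAlgSpace_stage (IsPullback.of_hasPullback b₀ (D.map φ))
    (IsPullback.of_hasPullback f₀ _)).2
  hXc := h.2.2.1
  hXs := h.2.2.2
  hYc := h.1
  hYs := h.2.1
  X := σ.X
  Y := σ.Y
  f := σ.f
  pY := pullback.lift σ.pY (σ.qY ≫ σ.c.π.app i) (by rw [Category.assoc, σ.c.w]; exact σ.hY.w)
  qY := σ.qY
  hY := by
    refine IsPullback.of_right (h₁₂ := pullback.fst b₀ (D.map φ)) (h₂₂ := D.map φ) ?_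
      (pullback.lift_snd _ _ _) (IsPullback.of_hasPullback b₀ (D.map φ))
    rw [pullback.lift_fst, σ.c.w]
    exact σ.hY
  pX := pullback.lift σ.pX (σ.f ≫ pullback.lift σ.pY (σ.qY ≫ σ.c.π.app i)
    (by rw [Category.assoc, σ.c.w]; exact σ.hY.w))
    (by rw [Category.assoc, pullback.lift_fst]; exact σ.hX.w)
  hX := by
    refine IsPullback.of_right (h₁₂ := pullback.fst f₀ (pullback.fst b₀ (D.map φ)))
      (h₂₂ := pullback.fst b₀ (D.map φ)) ?_ (pullback.lift_snd _ _ _)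
      (IsPullback.of_hasPullback f₀ _)
    rw [pullback.lift_fst, pullback.lift_fst]
    exact σ.hX

theorem qcqs_stage {i : I} (φ : i ⟶ i₀) :
    IsQuasiCompactSp (pullback b₀ (D.map φ)) ∧ IsQuasiSeparatedSp (pullback b₀ (D.map φ)) ∧
      IsQuasiCompactSp (pullback f₀ (pullback.fst b₀ (D.map φ))) ∧
      IsQuasiSeparatedSp (pullback f₀ (pullback.fst b₀ (D.map φ))) := by
  have h1 := Perm.isAffineMor_baseChange (IsPullback.of_hasPullback b₀ (D.map φ)).flip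
    (σ.hDa _ _ φ)
  obtain ⟨-, hc, hs⟩ := qcqs_of_affine σ.hY₀ h1 σ.hYc σ.hYs
  obtain ⟨-, hc', hs'⟩ := qcqs_of_affine σ.hX₀ (Perm.isAffineMor_baseChange
    (IsPullback.of_hasPullback f₀ (pullback.fst b₀ (D.map φ))).flip h1) σ.hXc σ.hXs
  exact ⟨hc, hs, hc', hs'⟩

/-- The setup restricted to a later stage. -/
noncomputable def restrict [QuasiSeparatedSpace ↥S] {i : I} (φ : i ⟶ i₀) :
    Setup D i (pullback.snd f₀ (pullback.fst b₀ (D.map φ))) (pullback.snd b₀ (D.map φ)) :=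
  σ.stage φ (σ.qcqs_stage φ)

omit σ in
/-- A property at a stage of a stage is a property at a stage. -/
theorem eventually_of_stage {P : MorphismProperty (Sp S)} {i : I} {φ : i ⟶ i₀}
    (h : Eventually D (pullback.snd f₀ (pullback.fst b₀ (D.map φ))) (pullback.snd b₀ (D.map φ))
      P) : Eventually D f₀ b₀ P := by
  obtain ⟨k, a, hk⟩ := h
  refine ⟨k, a ≫ φ, fun Xk Yk fk pYk qYk hYk pXk hXk ↦ ?_⟩
  have sqY := IsPullback.of_hasPullback b₀ (D.map φ)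
  let g := sqY.lift pYk (qYk ≫ D.map a) (by rw [Category.assoc, ← D.map_comp]; exact hYk.w)
  have hg : g ≫ pullback.fst _ _ = pYk := sqY.lift_fst _ _ _
  have sqX := IsPullback.of_hasPullback f₀ (pullback.fst b₀ (D.map φ))
  let u := sqX.lift pXk (fk ≫ g) (by rw [Category.assoc, hg]; exact hXk.w)
  refine hk _ _ fk g qYk ?_ u ?_
  · exact IsPullback.of_right (h₁₂ := pullback.fst b₀ (D.map φ)) (h₂₂ := D.map φ)
      (by rw [hg, ← D.map_comp]; exact hYk) (sqY.lift_snd _ _ _) sqY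
  · exact IsPullback.of_right (by rw [sqX.lift_fst, hg]; exact hXk) (sqX.lift_snd _ _ _) sqX

end Setup

end Groth.Agent.Lib.AlgSpLimit
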