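import Groth.Agent.Lib.AlgSpLimit.System
import Groth.Agent.Lib.AlgSpMor.RepDescent
import Groth.Agent.Lib.AlgSpMor.Sep
import Mathlib.AlgebraicGeometry.AffineTransitionLimit

/-!
# A limit of closed immersions is a closed immersion
-/

set_option autoImplicit false
set_option linter.style.haveILetI false

universe u

open CategoryTheory CategoryTheory.Limits AlgebraicGeometry

namespace Groth.Agent.Lib.AlgSpLimit

open AlgSp (Sp yon RepWith IsAlgSpace)
open Groth.Agent.Lib.AlgSpace Groth.Agent.Lib.AlgSpMor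

variable {S : Scheme.{u}}

/-- A limit of closed immersions is a closed immersion. -/
theorem closedImmersion_lim {I : Type u} [SmallCategory I] [IsCofiltered I] {DX DY : I ⥤ Sp S}
    (τ : DX ⟶ DY) (hτ : ∀ i, RepWith @IsClosedImmersion (τ.app i)) {cX : Cone DX}
    (hcX : IsLimit cX) {cY : Cone DY} (hcY : IsLimit cY) (g : cX.pt ⟶ cY.pt)
    (hg : ∀ i, g ≫ cY.π.app i = cX.π.app i ≫ τ.app i) : RepWith @IsClosedImmersion g := by
  haveI := Sep.isLocalAtTarget_fppf_isClosedImmersion.{u}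
  refine RepDescent.repWith_of_affine _ RepDescent.effective_isClosedImmersion fun Z hZ ξ ↦ ?_
  haveI := hZ
  have hc : ∀ i, IsClosedImmersion ((hτ i).rep.snd (ξ ≫ cY.π.app i)).left := fun i ↦
    (hτ i).property_snd _
  let E : I ⥤ Over S :=
    { obj := fun i ↦ (hτ i).rep.pullback (ξ ≫ cY.π.app i)
      map := fun {i k} φ ↦ (hτ k).rep.lift ((hτ i).rep.fst (ξ ≫ cY.π.app i) ≫ DX.map φ)
        ((hτ i).rep.snd (ξ ≫ cY.π.app i)) (by
          rw [Category.assoc, τ.naturality, ← Category.assoc, (hτ i).rep.w, Category.assoc,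
            Category.assoc, cY.w])
      map_id := fun i ↦ (hτ i).rep.hom_ext (by simp) (by simp)
      map_comp := fun {i k l} φ ψ ↦ (hτ l).rep.hom_ext (by simp) (by simp) }
  have hfst : ∀ {i k} (φ : i ⟶ k), (yon S).map (E.map φ) ≫ (hτ k).rep.fst (ξ ≫ cY.π.app k) =
      (hτ i).rep.fst (ξ ≫ cY.π.app i) ≫ DX.map φ := fun φ ↦
    Functor.relativelyRepresentable.lift_fst _ _ _ _
  have hsnd : ∀ {i k} (φ : i ⟶ k), E.map φ ≫ (hτ k).rep.snd (ξ ≫ cY.π.app k) =
      (hτ i).rep.snd (ξ ≫ cY.π.app i) := fun φ ↦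
    Functor.relativelyRepresentable.lift_snd _ _ _ _
  have hA : ∀ i, IsAffine (E.obj i).left := fun i ↦ by
    haveI := hc i
    exact isAffine_of_isAffineHom ((hτ i).rep.snd (ξ ≫ cY.π.app i)).left
  obtain ⟨e, ⟨he⟩, ⟨hef⟩, hea⟩ := exists_isLimit_forget E hA
  haveI := hea
  haveI := preservesLimit_yon E
  have i₀ : I := IsCofiltered.nonempty.some
  have hconst : ∀ {A : Sp S} (s : ∀ i, A ⟶ (yon S).obj (E.obj i))
      (_ : ∀ {i k} (φ : i ⟶ k), s i ≫ (yon S).map (E.map φ) = s k) (i k : I),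
      s i ≫ (yon S).map ((hτ i).rep.snd (ξ ≫ cY.π.app i)) =
        s k ≫ (yon S).map ((hτ k).rep.snd (ξ ≫ cY.π.app k)) := by
    intro A s hs i k
    obtain ⟨l, a, b, -⟩ := IsCofilteredOrEmpty.cone_objs i k
    rw [← hs a, ← hs b, Category.assoc, Category.assoc, ← Functor.map_comp, ← Functor.map_comp,
      hsnd, hsnd]
  let w : e.pt ⟶ Z := e.π.app i₀ ≫ (hτ i₀).rep.snd (ξ ≫ cY.π.app i₀)
  have hw : ∀ i, e.π.app i ≫ (hτ i).rep.snd (ξ ≫ cY.π.app i) = w := fun i ↦ (yon S).map_injective (by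
    simpa [w] using hconst (fun i ↦ (yon S).map (e.π.app i))
      (fun φ ↦ by rw [← Functor.map_comp, e.w]) i i₀)
  let cF : Cone DX :=
    { pt := (yon S).obj e.pt
      π :=
        { app := fun i ↦ (yon S).map (e.π.app i) ≫ (hτ i).rep.fst (ξ ≫ cY.π.app i)
          naturality := fun i k φ ↦ by
            refine (Category.id_comp _).trans ?_
            rw [Category.assoc, ← hfst φ, ← Category.assoc, ← Functor.map_comp, e.w φ] } }
  let p : (yon S).obj e.pt ⟶ cX.pt := hcX.lift cF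
  have hp : ∀ i, p ≫ cX.π.app i = (yon S).map (e.π.app i) ≫ (hτ i).rep.fst (ξ ≫ cY.π.app i) :=
    fun i ↦ hcX.fac cF i
  refine ⟨e.pt, w, p, ?_, ?_⟩
  · refine isPullback_of_yon (hcY.hom_ext fun i ↦ ?_) (fun T a b h₁ h₂ ↦ ?_) fun T a b wab ↦ ?_
    · rw [Category.assoc, hg, reassoc_of% hp, (hτ i).rep.w, Category.assoc,
        ← Functor.map_comp_assoc, hw]
    · refine (isLimitOfPreserves (yon S) he).hom_ext fun i ↦ ?_
      refine ((hτ i).rep.isPullback _).hom_ext ?_ ?_
      · simpa [← hp] using congrArg (· ≫ cX.π.app i) h₁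
      · simpa [← Functor.map_comp, hw] using h₂
    · let s : Cone (E ⋙ yon S) :=
        { pt := (yon S).obj T
          π :=
            { app := fun i ↦ ((hτ i).rep.isPullback (ξ ≫ cY.π.app i)).lift (a ≫ cX.π.app i) b (by
                rw [Category.assoc, ← hg, reassoc_of% wab])
              naturality := fun i k φ ↦ ((hτ k).rep.isPullback _).hom_ext
                (by simp [hfst, cX.w]) (by simp [← Functor.map_comp, hsnd]) } }
      refine ⟨(isLimitOfPreserves (yon S) he).lift s, hcX.hom_ext fun i ↦ ?_, ?_⟩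
      · rw [Category.assoc, hp]
        erw [(isLimitOfPreserves (yon S) he).fac_assoc s i]
        exact IsPullback.lift_fst _ _ _ _
      · rw [show (yon S).map w = (yon S).map (e.π.app i₀) ≫
            (yon S).map ((hτ i₀).rep.snd (ξ ≫ cY.π.app i₀)) from Functor.map_comp _ _ _]
        erw [(isLimitOfPreserves (yon S) he).fac_assoc s i₀]
        exact IsPullback.lift_snd _ _ _ _
  · haveI : ∀ i, IsAffine ((E ⋙ Over.forget S).obj i) := hA
    refine IsClosedImmersion.of_surjective_of_isAffine _ fun x ↦ ?_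
    obtain ⟨i, t, ht⟩ := exists_appTop_π_eq_of_isLimit (E ⋙ Over.forget S) _ hef x
    haveI := hc i
    obtain ⟨z, hz⟩ := (IsClosedImmersion.isAffine_surjective_of_isAffine
      (f := ((hτ i).rep.snd (ξ ≫ cY.π.app i)).left)).2 t
    refine ⟨z, ?_⟩
    rw [← hw i, Over.comp_left, Scheme.Hom.comp_appTop]
    exact (congrArg (e.π.app i).left.appTop hz).trans ht.symm

end Groth.Agent.Lib.AlgSpLimit
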