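import Groth.Agent.Lib.AlgSpLimit.Separated
import Groth.Agent.Lib.AlgSpLimit.Closed

/-!
# Limits along closed immersions
-/

set_option autoImplicit false
set_option linter.style.haveILetI false

universe u

open CategoryTheory CategoryTheory.Limits AlgebraicGeometry

namespace Groth.Agent.Lib.AlgSpLimit

open AlgSp (Sp yon RepWith IsAlgSpace LocP IsAffineMor IsQuasiCompactSp IsQuasiSeparatedSp)
open Groth.Agent.Lib.AlgSpace Groth.Agent.Lib.AlgSpMor Groth.Agent.Lib.SourceDescent.Scheme

variable {S : Scheme.{u}}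

attribute [local instance] containsIdentities_lfp

theorem isAffineMor_of_closedImm {X Y : Sp S} {f : X ⟶ Y} (h : RepWith @IsClosedImmersion f) :
    IsAffineMor f :=
  Perm.isAffineMor_of_repWith (fun _ _ g (_ : IsClosedImmersion g) ↦ inferInstance) h

theorem mono_of_closedImm {X Y : Sp S} {f : X ⟶ Y} (h : RepWith @IsClosedImmersion f) : Mono f :=
  mono_of_repWith (fun _ _ g (_ : IsClosedImmersion g) ↦ (inferInstance : Mono g)) h

/-- A limit along closed immersions, of finite presentation over a base, is attained. -/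
theorem eventually_isIso_π {I : Type u} [SmallCategory I] [IsCofiltered I] {B : Sp S}
    (hB : IsAlgSpace B) {D : I ⥤ Sp S} (hD : ∀ i, IsAlgSpace (D.obj i))
    (hDc : ∀ (i j : I) (φ : i ⟶ j), RepWith @IsClosedImmersion (D.map φ)) {c : Cone D}
    (hc : IsLimit c) (i₁ : I) (hqc : IsQuasiCompactSp (D.obj i₁)) (t₁ : D.obj i₁ ⟶ B)
    (hft : LocP @LocallyOfFiniteType t₁)
    (hX : LocP @LocallyOfFinitePresentation (c.π.app i₁ ≫ t₁)) :
    ∃ i₀ : I, ∀ (i : I) (_ : i ⟶ i₀), IsIso (c.π.app i) := by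
  have hDa : ∀ (i j : I) (φ : i ⟶ j), IsAffineMor (D.map φ) := fun i j φ ↦
    isAffineMor_of_closedImm (hDc i j φ)
  have hXsp : IsAlgSpace c.pt := isAlgSpace_of_representable (representable_π hDa hc i₁) (hD i₁)
  have hlfp : LocP @LocallyOfFinitePresentation (c.π.app i₁) :=
    LocP.locP_of_comp (P := @LocallyOfFinitePresentation) (R := @LocallyOfFiniteType)
      locallyOfFinitePresentation (fun f g h hg ↦ Cancel.locallyOfFinitePresentation_of_comp h hg)
      hXsp (hD i₁) hB hX hft
  haveI := QC.compactSpace_points hqc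
  obtain ⟨W₀, a, hW₀, he, hs⟩ := QC.exists_affine_atlas (hD i₁)
  obtain ⟨E, e, r, α, π, hr, ⟨hlim⟩, hA, hea, sqE, hα₀, sqπ⟩ := exists_system hDa hc i₁ hW₀ a
  let j₀ := CategoryTheory.Over.mk (𝟙 i₁)
  haveI := hr
  let τ : ∀ j : CategoryTheory.Over i₁, j ⟶ j₀ := fun j ↦
    CategoryTheory.Over.homMk j.hom (Category.comp_id _)
  have he₀ : RepWith @Etale (α j₀) := by
    rw [hα₀]; exact (repWith_iso_comp_iff _ ((yon S).map r) _).2 he
  have hs₀ : RepWith @Surjective (α j₀) := by
    rw [hα₀]; exact (repWith_iso_comp_iff _ ((yon S).map r) _).2 hs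
  have hmono : ∀ j, Mono (E.map (τ j)).left := fun j ↦ by
    haveI : IsClosedImmersion (E.map (τ j)).left := (AlgSp.repWith_yon_map_iff _ _).1
      (repWith_baseChange (sqE (τ j)).flip (hDc _ _ _))
    infer_instance
  let F := E ⋙ CategoryTheory.Over.forget S
  haveI : ∀ j, IsAffine (F.obj j) := hA
  let t : F ⟶ (Functor.const _).obj (E.obj j₀).left :=
    { app := fun j ↦ (E.map (τ j)).left
      naturality := fun j k φ ↦ by
        refine Eq.trans ?_ (Category.comp_id _).symm
        exact congr($(show E.map φ ≫ E.map (τ k) = E.map (τ j) by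
          rw [← E.map_comp]; exact congrArg E.map
            (CategoryTheory.Over.OverMorphism.ext (CategoryTheory.Over.w φ))).left) }
  haveI : LocallyOfFinitePresentation (e.π.app j₀).left :=
    hlfp π (α j₀) (e.π.app j₀) (repWith_baseChange (sqπ j₀) he₀) he₀ (sqπ j₀).w.symm
  haveI : ∀ {j k} (φ : j ⟶ k), IsAffineHom (F.map φ) := fun φ ↦ inferInstance
  obtain ⟨j, g, hg, hgt⟩ := Scheme.exists_π_app_comp_eq_of_locallyOfFinitePresentation F t
    (e.π.app j₀).left ((CategoryTheory.Over.forget S).mapCone e) hlim (𝟙 _) (by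
      ext k : 2
      show (e.π.app k).left ≫ (E.map (τ k)).left = 𝟙 _ ≫ (e.π.app j₀).left
      rw [Category.id_comp, ← CategoryTheory.Over.comp_left, e.w])
  have hiso : IsIso (e.π.app j).left := by
    haveI := hmono j
    refine ⟨g, hg, ?_⟩
    rw [← cancel_mono (E.map (τ j)).left, Category.assoc, ← CategoryTheory.Over.comp_left, e.w,
      Category.id_comp]
    exact hgt
  haveI : MorphismProperty.IsLocalAtTarget @IsOpenImmersion.{u} Scheme.fppfPrecoverage :=
    AlgSpace.isLocalAtTarget_fppf _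
  have hop : RepWith @IsOpenImmersion (c.π.app j.left) :=
    RepDescent.repWith_of_cover _ RepDescent.effective_isOpenImmersion (hD j.left).diag
      (repWith_baseChange (sqE (τ j)) he₀) (repWith_baseChange (sqE (τ j)) hs₀) (sqπ j).flip
      ((AlgSp.repWith_yon_map_iff _ _).2 (inferInstanceAs (IsOpenImmersion (e.π.app j).left)))
  haveI : Surjective (e.π.app j).left :=
    haveI := hiso; inferInstance
  haveI : IsIso (c.π.app j.left) := AlgSpDecent.OpenScheme.isIso_of_surjective hop fun x ↦ by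
    obtain ⟨w, rfl⟩ := surjective_ofPt (repWith_baseChange (sqE (τ j)) hs₀) x
    obtain ⟨v, rfl⟩ := (e.π.app j).left.surjective w
    exact ⟨AlgSp.Points.ofPt π v, by
      rw [AlgSp.Points.map_ofPt, ← (sqπ j).w, ofPt_yon_map_comp]⟩
  refine ⟨j.left, fun i φ ↦ ?_⟩
  haveI := mono_of_closedImm (hDc _ _ φ)
  refine ⟨D.map φ ≫ inv (c.π.app j.left), ?_, ?_⟩
  · rw [← Category.assoc, c.w, IsIso.hom_inv_id]
  · rw [← cancel_mono (D.map φ), Category.assoc, Category.assoc, c.w, IsIso.inv_hom_id,
      Category.id_comp]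
    exact Category.comp_id _

/-- A limit along closed immersions of monomorphisms, closed in a base, is closed at some stage. -/
theorem eventually_closedImm_of_mono [QuasiSeparatedSpace ↥S] {I : Type u} [SmallCategory I]
    [IsCofiltered I] {Y : Sp S} (hY : IsAlgSpace Y) {D : I ⥤ Sp S}
    (hD : ∀ i, IsAlgSpace (D.obj i)) (t : D ⟶ (Functor.const I).obj Y)
    (hDc : ∀ (i j : I) (φ : i ⟶ j), RepWith @IsClosedImmersion (D.map φ)) {c : Cone D}
    (hc : IsLimit c) (g : c.pt ⟶ Y) (hg : ∀ i, c.π.app i ≫ t.app i = g)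
    (hqc : ∀ i, IsQuasiCompactSp (D.obj i)) (hqs : ∀ i, IsQuasiSeparatedSp (D.obj i))
    (hYc : IsQuasiCompactSp Y) (hYs : IsQuasiSeparatedSp Y)
    (hft : ∀ i, LocP @LocallyOfFiniteType (t.app i)) (hX : RepWith @IsClosedImmersion g)
    (hm : ∀ i, Mono (t.app i)) :
    ∃ m : I, RepWith @IsClosedImmersion (t.app m) := by
  have k₀ : I := IsCofiltered.nonempty.some
  let f : ∀ i, D.obj i ⟶ Y := fun i ↦ t.app i
  have hf : ∀ {i j} (φ : i ⟶ j), D.map φ ≫ f j = f i := fun φ ↦
    (t.naturality φ).trans (Category.comp_id _)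
  haveI := QC.compactSpace_points hYc
  obtain ⟨W, w, hW, hwe, hws⟩ := QC.exists_affine_atlas hY
  haveI : IsAffine W.left := hW
  have hr : ∀ k, RepWith sepLqf (f k) := fun k ↦ by
    haveI : Mono (f k) := hm k
    exact RepBySp.repWith_sepLqf_of_mono (hD _) hY (hft _)
  let E : I ⥤ Over S :=
    { obj := fun k ↦ (hr k).rep.pullback w
      map := fun {k l} χ ↦ (hr l).rep.lift ((hr k).rep.fst w ≫ D.map χ) ((hr k).rep.snd w)
        (by rw [Category.assoc, hf, (hr k).rep.w])
      map_id := fun k ↦ (hr k).rep.hom_ext (by simp) (by simp)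
      map_comp := fun {k l m} χ ψ ↦ (hr m).rep.hom_ext (by simp) (by simp) }
  have hsnd : ∀ {k l} (χ : k ⟶ l), E.map χ ≫ (hr l).rep.snd w = (hr k).rep.snd w := fun χ ↦
    Functor.relativelyRepresentable.lift_snd _ _ _ _
  have hfst : ∀ {k l} (χ : k ⟶ l), (yon S).map (E.map χ) ≫ (hr l).rep.fst w =
      (hr k).rep.fst w ≫ D.map χ := fun χ ↦
    Functor.relativelyRepresentable.lift_fst _ _ _ _
  have hclosed : ∀ {k l} (χ : k ⟶ l), IsClosedImmersion (E.map χ).left := fun {k l} χ ↦ by
    refine (AlgSp.repWith_yon_map_iff _ _).1 (repWith_baseChange (f := D.map χ)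
      (g := (hr l).rep.fst w) (fst := (hr k).rep.fst w) ?_ (hDc _ _ χ))
    refine IsPullback.of_bot ?_ (hfst χ).symm ((hr l).rep.isPullback w)
    rw [← Functor.map_comp, hsnd, hf]
    exact (hr k).rep.isPullback w
  let L := hX.rep.pullback w
  let e : Cone E :=
    { pt := L
      π :=
        { app := fun k ↦ (hr k).rep.lift (hX.rep.fst w ≫ c.π.app k) (hX.rep.snd w) (by
            rw [Category.assoc, show c.π.app k ≫ f k = g from hg _, hX.rep.w])
          naturality := fun k l χ ↦ (hr l).rep.hom_ext (by simp [E, c.w]) (by simp [E]) } }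
  have hefst : ∀ k, (yon S).map (e.π.app k) ≫ (hr k).rep.fst w = hX.rep.fst w ≫ c.π.app k :=
    fun k ↦ Functor.relativelyRepresentable.lift_fst _ _ _ _
  have hesnd : ∀ k, e.π.app k ≫ (hr k).rep.snd w = hX.rep.snd w :=
    fun k ↦ Functor.relativelyRepresentable.lift_snd _ _ _ _
  have he : IsLimit e := by
    let sD : Cone E → Cone D := fun s ↦
      { pt := (yon S).obj s.pt
        π :=
          { app := fun k ↦ (yon S).map (s.π.app k) ≫ (hr k).rep.fst w
            naturality := fun k l χ ↦ by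
              refine (Category.id_comp _).trans ?_
              rw [Category.assoc, ← hfst χ, ← Category.assoc, ← Functor.map_comp, s.w χ] } }
    have hconst : ∀ (s : Cone E) (k : I),
        s.π.app k ≫ (hr k).rep.snd w = s.π.app k₀ ≫ (hr k₀).rep.snd w := fun s k ↦ by
      obtain ⟨l, p, q, -⟩ := IsCofilteredOrEmpty.cone_objs k k₀
      rw [← s.w p, ← s.w q, Category.assoc, Category.assoc, hsnd, hsnd]
    have hl : ∀ s : Cone E, hc.lift (sD s) ≫ g =
        (yon S).map (s.π.app k₀ ≫ (hr k₀).rep.snd w) ≫ w := fun s ↦ by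
      rw [← hg k₀, ← Category.assoc, hc.fac]
      simp only [sD, Category.assoc]
      rw [show t.app k₀ = f k₀ from rfl, (hr k₀).rep.w, Functor.map_comp_assoc]
    refine ⟨fun s ↦ hX.rep.lift (hc.lift (sD s)) (s.π.app k₀ ≫ (hr k₀).rep.snd w) (hl s),
      fun s k ↦ ?_, fun s m hm ↦ ?_⟩
    · refine (hr k).rep.hom_ext ?_ ?_
      · rw [Functor.map_comp, Category.assoc, hefst,
          Functor.relativelyRepresentable.lift_fst_assoc, hc.fac]
      · rw [Category.assoc, hesnd, Functor.relativelyRepresentable.lift_snd]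
        exact (hconst s k).symm
    · refine hX.rep.hom_ext (hc.hom_ext fun k ↦ ?_) ?_
      · rw [Functor.relativelyRepresentable.lift_fst, hc.fac, Category.assoc, ← hefst,
          ← Functor.map_comp_assoc, hm]
      · rw [Functor.relativelyRepresentable.lift_snd, ← hm k₀, Category.assoc, hesnd]
  obtain ⟨hef⟩ := isLimit_forget he
  let τ : E ⋙ CategoryTheory.Over.forget S ⟶ (Functor.const _).obj W.left :=
    { app := fun k ↦ ((hr k).rep.snd w).left
      naturality := fun k l χ ↦ by
        refine Eq.trans ?_ (Category.comp_id _).symm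
        exact congr($(hsnd χ).left) }
  haveI : ∀ (k l : I) (χ : k ⟶ l),
      IsClosedImmersion ((E ⋙ CategoryTheory.Over.forget S).map χ) := fun k l χ ↦ hclosed χ
  haveI : ∀ {k l : I} (χ : k ⟶ l),
      IsAffineHom ((E ⋙ CategoryTheory.Over.forget S).map χ) := fun χ ↦ inferInstance
  haveI : ∀ k, LocallyOfFiniteType (τ.app k) := fun k ↦
    (LocP.repWith_of_locP locallyOfFiniteType hY (hr k).rep (hft k)).property_snd _
  haveI : ∀ k, CompactSpace ↥((E ⋙ CategoryTheory.Over.forget S).obj k) := fun k ↦ by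
    obtain ⟨-, hQc, -⟩ := qcqs_of_isPullback (hD k) hY (hqc _) (hqs _) hYs
      ((hr k).rep.isPullback w)
    haveI := QC.compactSpace_points hQc
    exact (AlgSp.Points.schemeHomeo (E.obj k)).symm.compactSpace
  haveI : ∀ k, QuasiSeparatedSpace ↥((E ⋙ CategoryTheory.Over.forget S).obj k) := fun k ↦ by
    haveI : IsSeparated (τ.app k) := ((hr k).property_snd w).1.1
    haveI : QuasiSeparatedSpace ↥(((Functor.const _).obj W.left).obj k) :=
      inferInstanceAs (QuasiSeparatedSpace ↥W.left)
    exact quasiSeparatedSpace_of_quasiSeparated (τ.app k)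
  haveI : IsClosedImmersion (((CategoryTheory.Over.forget S).mapCone e).π.app k₀ ≫ τ.app k₀) := by
    show IsClosedImmersion ((e.π.app k₀).left ≫ ((hr k₀).rep.snd w).left)
    rw [← CategoryTheory.Over.comp_left, hesnd]
    exact hX.property_snd w
  obtain ⟨m, hm'⟩ := Lib.Lim.Eventual.exists_isClosedImmersion τ
    (c := (CategoryTheory.Over.forget S).mapCone e) hef k₀
  have h1 : IsClosedImmersion ((hr m).rep.snd w).left := hm' m (𝟙 m)
  haveI := Sep.isLocalAtTarget_fppf_isClosedImmersion.{u}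
  exact ⟨m, RepDescent.repWith_of_cover _ RepDescent.effective_isClosedImmersion hY.diag hwe hws
    ((hr m).rep.isPullback w) ((AlgSp.repWith_yon_map_iff _ _).2 h1)⟩

/-- A limit along closed immersions closed in a base is closed at some stage. -/
theorem eventually_closedImm_to_base [QuasiSeparatedSpace ↥S] {I : Type u} [SmallCategory I]
    [IsCofiltered I] {Y : Sp S} (hY : IsAlgSpace Y) {D : I ⥤ Sp S}
    (hD : ∀ i, IsAlgSpace (D.obj i)) (t : D ⟶ (Functor.const I).obj Y)
    (hDc : ∀ (i j : I) (φ : i ⟶ j), RepWith @IsClosedImmersion (D.map φ)) {c : Cone D}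
    (hc : IsLimit c) (g : c.pt ⟶ Y) (hg : ∀ i, c.π.app i ≫ t.app i = g)
    (hqc : ∀ i, IsQuasiCompactSp (D.obj i)) (hqs : ∀ i, IsQuasiSeparatedSp (D.obj i))
    (hYc : IsQuasiCompactSp Y) (hYs : IsQuasiSeparatedSp Y)
    (hft : ∀ i, LocP @LocallyOfFiniteType (t.app i)) (hX : RepWith @IsClosedImmersion g) :
    ∃ i₀ : I, ∀ (i : I) (_ : i ⟶ i₀), RepWith @IsClosedImmersion (t.app i) := by
  have hDa : ∀ (i j : I) (φ : i ⟶ j), IsAffineMor (D.map φ) := fun i j φ ↦
    isAffineMor_of_closedImm (hDc i j φ)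
  have i₁ : I := IsCofiltered.nonempty.some
  obtain ⟨hXsp, hXc, hXs⟩ := qcqs_of_affine (hD i₁) (isAffineMor_π hDa hc i₁) (hqc i₁) (hqs i₁)
  haveI := mono_of_closedImm hX
  let f : ∀ i, D.obj i ⟶ Y := fun i ↦ t.app i
  have hf : ∀ {i j} (φ : i ⟶ j), D.map φ ≫ f j = f i := fun φ ↦
    (t.naturality φ).trans (Category.comp_id _)
  haveI : ∀ {i j} (φ : i ⟶ j), Mono (D.map φ) := fun φ ↦ mono_of_closedImm (hDc _ _ φ)
  haveI : Mono (c.π.app i₁) := by
    haveI : Mono (c.π.app i₁ ≫ t.app i₁) := by rw [hg]; infer_instance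
    exact mono_of_mono _ (t.app i₁)
  -- the system of fibre squares
  let T : I ⥤ Sp S :=
    { obj := fun i ↦ pullback (f i) (f i)
      map := fun {i j} φ ↦ mapPair (f i) (f j) (D.map φ) (hf φ)
      map_id := fun i ↦ by apply pullback.hom_ext <;> simp
      map_comp := fun φ ψ ↦ by apply pullback.hom_ext <;> simp }
  have hT : ∀ i, IsAlgSpace (T.obj i) ∧ IsQuasiCompactSp (T.obj i) ∧ IsQuasiSeparatedSp (T.obj i) :=
    fun i ↦ qcqs_fibreProd_of (f i) (hD i) hY (hqc i) (hqs i) hYs
  let cT : Cone T :=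
    { pt := c.pt
      π :=
        { app := fun i ↦ c.π.app i ≫ pullback.diagonal (f i)
          naturality := fun i j φ ↦ by apply pullback.hom_ext <;> simp [T] } }
  have hcw : ∀ (s : Cone T) {i j} (φ : i ⟶ j),
      (s.π.app i ≫ pullback.fst (f i) (f i)) ≫ D.map φ = s.π.app j ≫ pullback.fst (f j) (f j) ∧
      (s.π.app i ≫ pullback.snd (f i) (f i)) ≫ D.map φ = s.π.app j ≫ pullback.snd (f j) (f j) :=
    fun s i j φ ↦ by
      constructor <;>
      · rw [← s.w φ]
        simp [T]
  let a : ∀ _ : Cone T, Cone D := fun s ↦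
    { pt := s.pt, π := { app := fun i ↦ s.π.app i ≫ pullback.fst (f i) (f i)
                         naturality := fun i j φ ↦ (Category.id_comp _).trans (hcw s φ).1.symm } }
  let b : ∀ _ : Cone T, Cone D := fun s ↦
    { pt := s.pt, π := { app := fun i ↦ s.π.app i ≫ pullback.snd (f i) (f i)
                         naturality := fun i j φ ↦ (Category.id_comp _).trans (hcw s φ).2.symm } }
  have hab : ∀ s : Cone T, hc.lift (a s) = hc.lift (b s) := fun s ↦ by
    rw [← cancel_mono g, ← hg i₁, ← Category.assoc, ← Category.assoc, hc.fac, hc.fac]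
    simp only [a, b, Category.assoc]
    exact congrArg (s.π.app i₁ ≫ ·) pullback.condition
  have hcT : IsLimit cT :=
    { lift := fun s ↦ hc.lift (a s)
      fac := fun s i ↦ by
        apply pullback.hom_ext
        · simp only [cT, Category.assoc, pullback.diagonal_fst]
          exact ((congrArg (_ ≫ ·) (Category.comp_id _))).trans (hc.fac (a s) i)
        · simp only [cT, Category.assoc, pullback.diagonal_snd]
          exact ((congrArg (_ ≫ ·) (Category.comp_id _))).trans
            ((congrArg (· ≫ c.π.app i) (hab s)).trans (hc.fac (b s) i))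
      uniq := fun s m hm ↦ hc.uniq (a s) _ fun i ↦ by simp [a, ← hm i, cT] }
  let σ : Setup T i₁ (pullback.diagonal (f i₁)) (𝟙 (T.obj i₁)) :=
    { hD := fun i ↦ (hT i).1
      hDa := fun i j φ ↦ isAffineMor_mapPair (f i) (f j) (D.map φ) (hf φ) (hDa _ _ φ)
      c := cT, hc := hcT, hX₀ := hD i₁, hY₀ := (hT i₁).1, hXc := hqc i₁, hXs := hqs i₁
      hYc := (hT i₁).2.1, hYs := (hT i₁).2.2
      X := c.pt, Y := c.pt, f := 𝟙 _, pY := cT.π.app i₁, qY := 𝟙 _
      hY := IsPullback.of_vert_isIso ⟨(Category.comp_id _).trans (Category.id_comp _).symm⟩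
      pX := c.π.app i₁
      hX := isPullback_of_yon (Category.id_comp _).symm (fun U p q _ h ↦ by simpa using h)
        fun U p q h ↦ ⟨q, by
          refine (cancel_mono (pullback.diagonal (f i₁))).1 ?_
          rw [Category.assoc]
          exact h.symm, Category.comp_id _⟩ }
  haveI : IsIso σ.f := inferInstanceAs (IsIso (𝟙 c.pt))
  have hlfp : LocP @LocallyOfFinitePresentation (pullback.diagonal (f i₁)) := by
    refine LocP.locP_of_comp (P := @LocallyOfFinitePresentation) (R := @LocallyOfFiniteType)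
      locallyOfFinitePresentation (fun f g h hg ↦ Cancel.locallyOfFinitePresentation_of_comp h hg)
      (hD i₁) (hT i₁).1 (hD i₁) (g := pullback.fst (f i₁) (f i₁)) ?_
      (LocP.locP_of_isPullback locallyOfFiniteType (hD i₁) hY (hD i₁)
        (IsPullback.of_hasPullback (f i₁) (f i₁)).flip (hft i₁))
    rw [pullback.diagonal_fst]
    exact LocP.locP_of_repWith locallyOfFinitePresentation (repWith_of_isIso _ _)
  obtain ⟨j, φ, hj⟩ := σ.eventually_isIso hlfp
  have hiso : IsIso (pullback.snd (pullback.diagonal (f i₁))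
      (mapPair (f j) (f i₁) (D.map φ) (hf φ))) :=
    hj _ _ _ (T.map φ) (𝟙 _)
      (IsPullback.of_vert_isIso ⟨(Category.comp_id _).trans (Category.id_comp _).symm⟩) _
      (IsPullback.of_hasPullback _ _)
  haveI hmono : Mono (f j) := ⟨fun {Z} p q hpq ↦ by
    let l : Z ⟶ pullback (f j) (f j) := pullback.lift p q hpq
    let l' := l ≫ inv (pullback.snd (pullback.diagonal (f i₁))
      (mapPair (f j) (f i₁) (D.map φ) (hf φ))) ≫ pullback.fst _ _
    have h : l' ≫ pullback.diagonal (f i₁) = l ≫ mapPair (f j) (f i₁) (D.map φ) (hf φ) := by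
      simp only [l', Category.assoc, pullback.condition, IsIso.inv_hom_id_assoc]
    have h1 := congr($h ≫ pullback.fst _ _)
    have h2 := congr($h ≫ pullback.snd _ _)
    simp [l] at h1 h2
    rw [← cancel_mono (D.map φ)]
    rw [pullback.lift_fst_assoc] at h1
    rw [pullback.lift_snd_assoc] at h2
    exact (h1.symm.trans h2 :)⟩
  let D' := CategoryTheory.Over.forget j ⋙ D
  let t' : D' ⟶ (Functor.const _).obj Y :=
    { app := fun k ↦ t.app k.left
      naturality := fun k l χ ↦ (t.naturality χ.left).trans rfl }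
  obtain ⟨m, hm⟩ := eventually_closedImm_of_mono hY (D := D') (fun k ↦ hD k.left) t'
    (fun k l χ ↦ hDc _ _ χ.left) (c := c.whisker (CategoryTheory.Over.forget j))
    ((Functor.Initial.isLimitWhiskerEquiv (CategoryTheory.Over.forget j) c).symm hc) g
    (fun k ↦ hg k.left) (fun k ↦ hqc k.left) (fun k ↦ hqs k.left) hYc hYs (fun k ↦ hft k.left) hX
    (fun k ↦ by
      haveI : Mono (D.map k.hom ≫ f j) := mono_comp _ _
      have e : D.map k.hom ≫ f j = t.app k.left := hf k.hom
      show Mono (t.app k.left)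
      rwa [← e])
  refine ⟨m.left, fun i ψ ↦ ?_⟩
  show RepWith @IsClosedImmersion (f i)
  rw [← hf ψ]
  exact repWith_comp (hDc _ _ ψ) hm

end Groth.Agent.Lib.AlgSpLimit
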