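import Groth.Agent.Lib.AlgSpLimit.System
import Groth.Agent.Lib.AlgSpace.Local
import Groth.Agent.H56.GeomDescent
import Groth.Agent.S7179
import Groth.Prelude.Def_AlgSpSub

/-!
# A limit of reduced spaces is reduced
-/

set_option autoImplicit false
set_option linter.style.haveILetI false

universe u

open CategoryTheory CategoryTheory.Limits AlgebraicGeometry

namespace Groth.Agent.Lib.AlgSpLimit

open AlgSp (Sp yon RepWith IsAlgSpace IsAffineMor)
open Groth.Agent.Lib.AlgSpace Groth.Agent.Lib.AlgSpMor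

variable {S : Scheme.{u}}

/-- A scheme etale over a reduced space is reduced. -/
theorem isReduced_of_etale_chart {Y : Sp S} (hY : IsAlgSpace Y) (hr : AlgSp.IsReducedSp Y)
    {W : Over S} {c : (yon S).obj W ⟶ Y} (hc : RepWith @Etale c) : IsReduced W.left := by
  obtain ⟨V, b, hb, hbs, hV⟩ := hr
  obtain ⟨R, r₁, r₂, sqR⟩ := exists_isPullback_yon hY.diag c b
  haveI : Etale r₁.left := repWith_property hb sqR.flip
  haveI : Surjective r₁.left := repWith_property hbs sqR.flip
  haveI : Etale r₂.left := repWith_property hc sqR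
  haveI := hV
  haveI : IsReduced R.left := Groth.Agent.S7179.result r₂.left
  exact Groth.Agent.H56.GeomDescent.isReduced_of_flat_surjective r₁.left

/-- A limit of reduced affine schemes is reduced. -/
theorem isReduced_of_isLimit {J : Type u} [SmallCategory J] [IsCofiltered J] {F : J ⥤ Scheme.{u}}
    {c : Cone F} (hc : IsLimit c) [∀ j, IsAffine (F.obj j)] [∀ j, IsReduced (F.obj j)] :
    IsReduced c.pt := by
  haveI : ∀ {i j : J} (f : i ⟶ j), IsAffineHom (F.map f) := fun f ↦ inferInstance
  haveI : IsAffine c.pt := Scheme.isAffine_of_isLimit c hc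
  haveI : _root_.IsReduced Γ(c.pt, ⊤) := by
    refine ⟨fun x ⟨n, hn⟩ ↦ ?_⟩
    obtain ⟨i, a, rfl⟩ := exists_appTop_π_eq_of_isLimit F c hc x
    obtain ⟨j, f, hf⟩ := exists_appTop_map_eq_zero_of_isLimit F c hc (i := i) (a ^ n)
      ((map_pow _ a n).trans hn)
    have h0 : (F.map f).appTop a = 0 :=
      IsReduced.eq_zero _ ⟨n, (map_pow _ a n).symm.trans hf⟩
    rw [← c.w f, Scheme.Hom.comp_appTop, CommRingCat.comp_apply, h0, map_zero]
  exact isReduced_of_isAffine_isReduced c.pt

/-- A limit of reduced spaces is reduced. -/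
theorem isReducedSp_of_limit {I : Type u} [SmallCategory I] [IsCofiltered I] {D : I ⥤ Sp S}
    (hD : ∀ i, IsAlgSpace (D.obj i)) (hDa : ∀ (i j : I) (φ : i ⟶ j), IsAffineMor (D.map φ))
    {c : Cone D} (hc : IsLimit c) (hred : ∀ i, AlgSp.IsReducedSp (D.obj i)) :
    AlgSp.IsReducedSp c.pt := by
  have i₀ : I := IsCofiltered.nonempty.some
  obtain ⟨U, a, he, hs⟩ := (hD i₀).atlas
  obtain ⟨V, v, fst, sqV, hva⟩ := repWith_exists
    (AffineDescent.repWith_of_isAffineMor (isAffineMor_π hDa hc i₀)) a
  refine ⟨V, fst, repWith_baseChange sqV.flip he, repWith_baseChange sqV.flip hs, ?_⟩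
  haveI : IsAffineHom v.left := hva
  let 𝒰 := V.left.openCoverOfIsOpenCover (fun O : U.left.affineOpens ↦ v.left ⁻¹ᵁ O.1) (by
    refine top_le_iff.1 fun x _ ↦ ?_
    obtain ⟨O, hO, hx, -⟩ := exists_isAffineOpen_mem_and_subset (X := U.left) (U := ⊤)
      (x := v.left x) trivial
    exact TopologicalSpace.Opens.mem_iSup.2 ⟨⟨O, hO⟩, hx⟩)
  haveI : ∀ O, IsReduced (𝒰.X O) := fun O ↦ by
    let W₀ : Over S := Topo.opensOver O.1
    obtain ⟨E, e, r, α, π, hr, ⟨hlim⟩, hA, hea, sqE, hα₀, sqπ⟩ :=
      exists_system hDa hc i₀ (W₀ := W₀) O.2 ((yon S).map (Topo.opensOverι O.1) ≫ a)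
    haveI := hr
    let j₀ := CategoryTheory.Over.mk (𝟙 i₀)
    have he₀ : RepWith @Etale (α j₀) := by
      rw [hα₀]
      refine (repWith_iso_comp_iff _ ((yon S).map r) _).2 ?_
      haveI : MorphismProperty.ContainsIdentities (@Etale : MorphismProperty Scheme.{u}) :=
        ⟨fun X ↦ inferInstanceAs (Etale (𝟙 X))⟩
      exact repWith_comp ((AlgSp.repWith_yon_map_iff _ _).2 (inferInstanceAs (Etale O.1.ι))) he
    haveI : ∀ j, IsAffine ((E ⋙ CategoryTheory.Over.forget S).obj j) := hA
    haveI : ∀ j, IsReduced ((E ⋙ CategoryTheory.Over.forget S).obj j) := fun j ↦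
      isReduced_of_etale_chart (hD _) (hred _)
        (repWith_baseChange (sqE (CategoryTheory.Over.homMk j.hom (Category.comp_id _) : j ⟶ j₀)) he₀)
    haveI : IsReduced e.pt.left := isReduced_of_isLimit hlim
    -- both are the base change to the open
    have h2 : IsPullback ((yon S).map (e.π.app j₀ ≫ r)) π
        ((yon S).map (Topo.opensOverι O.1) ≫ a) (c.π.app i₀) := by
      refine (sqπ j₀).of_iso (Iso.refl _) (asIso ((yon S).map r)) (Iso.refl _) (Iso.refl _)
        (by simp) (by simp) ?_ (by simp [j₀])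
      simp only [Iso.refl_hom, Category.comp_id, asIso_hom]
      exact hα₀
    let l := sqV.lift π ((yon S).map (e.π.app j₀ ≫ r ≫ Topo.opensOverι O.1)) (by
      rw [← h2.w, ← Category.assoc, ← Functor.map_comp, Category.assoc])
    obtain ⟨l', hl'⟩ := (yon S).map_surjective l
    have h3 : IsPullback ((yon S).map (e.π.app j₀ ≫ r)) ((yon S).map l')
        ((yon S).map (Topo.opensOverι O.1)) ((yon S).map v) := by
      refine IsPullback.of_bot ?_ ?_ sqV.flip
      · rw [hl', sqV.lift_fst]; exact h2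
      · rw [hl', sqV.lift_snd, ← Functor.map_comp, Category.assoc]
    have h4 := ((isPullback_of_yon_map h3).map (CategoryTheory.Over.forget S)).flip
    let ι := h4.isoIsPullback _ _ (isPullback_morphismRestrict v.left O.1).flip
    haveI : IsReduced ((CategoryTheory.Over.forget S).obj
        (((Functor.const (CategoryTheory.Over i₀)).obj e.pt).obj j₀)) := ‹IsReduced e.pt.left›
    exact isReduced_of_isOpenImmersion ι.inv
  exact IsReduced.of_openCover V.left 𝒰

end Groth.Agent.Lib.AlgSpLimit
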