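import Groth.Agent.Lib.AlgSpLimit.Mono
import Groth.Agent.Lib.Lim.Eventual
import Groth.Agent.Lib.AlgSpMor.RepDescent

/-!
# A limit separated over a base is separated at some stage
-/

set_option autoImplicit false
set_option linter.style.haveILetI false

universe u

open CategoryTheory CategoryTheory.Limits AlgebraicGeometry

namespace Groth.Agent.Lib.AlgSpLimit

open AlgSp (Sp yon RepWith IsAlgSpace LocP IsAffineMor IsSeparatedMor IsQuasiCompactSp
  IsQuasiSeparatedSp)
open Groth.Agent.Lib.AlgSpace Groth.Agent.Lib.AlgSpMor Groth.Agent.Lib.SourceDescent.Scheme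

variable {S : Scheme.{u}}

/-- The forgetful functor preserves cofiltered limits. -/
theorem isLimit_forget {I : Type u} [SmallCategory I] [IsCofiltered I] {E : I ⥤ Over S}
    {e : Cone E} (he : IsLimit e) : Nonempty (IsLimit ((CategoryTheory.Over.forget S).mapCone e)) := by
  have i₀ : I := IsCofiltered.nonempty.some
  have hs : ∀ (s : Cone (E ⋙ CategoryTheory.Over.forget S)) (i : I),
      s.π.app i ≫ (E.obj i).hom = s.π.app i₀ ≫ (E.obj i₀).hom := by
    intro s i
    obtain ⟨k, a, b, -⟩ := IsCofilteredOrEmpty.cone_objs i i₀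
    rw [← s.w a, ← s.w b, Category.assoc, Category.assoc]
    exact congrArg (s.π.app k ≫ ·)
      ((CategoryTheory.Over.w (E.map a)).trans (CategoryTheory.Over.w (E.map b)).symm)
  let s' : Cone (E ⋙ CategoryTheory.Over.forget S) → Cone E := fun s ↦
    { pt := CategoryTheory.Over.mk (s.π.app i₀ ≫ (E.obj i₀).hom)
      π :=
        { app := fun i ↦ CategoryTheory.Over.homMk (s.π.app i) (hs s i)
          naturality := fun i k φ ↦ CategoryTheory.Over.OverMorphism.ext (by
            show 𝟙 _ ≫ s.π.app k = s.π.app i ≫ (E.map φ).left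
            rw [Category.id_comp]; exact (s.w φ).symm) } }
  exact ⟨{
    lift := fun s ↦ (he.lift (s' s)).left
    fac := fun s i ↦ congr($(he.fac (s' s) i).left)
    uniq := fun s m hm ↦ by
      have hh : m ≫ e.pt.hom = (s' s).pt.hom := by
        show m ≫ e.pt.hom = s.π.app i₀ ≫ (E.obj i₀).hom
        rw [← hm i₀, Category.assoc]
        exact congrArg (m ≫ ·) (CategoryTheory.Over.w (e.π.app i₀)).symm
      exact congr($(he.uniq (s' s) (CategoryTheory.Over.homMk m hh) fun i ↦
        CategoryTheory.Over.OverMorphism.ext (hm i)).left) }⟩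

/-- The map of fibre products over a fixed base. -/
noncomputable def mapPair {A A' B : Sp S} (f : A ⟶ B) (f' : A' ⟶ B) (φ : A ⟶ A')
    (w : φ ≫ f' = f) : pullback f f ⟶ pullback f' f' :=
  pullback.map f f f' f' φ φ (𝟙 B) (by simp [w]) (by simp [w])

@[reassoc (attr := simp)]
theorem mapPair_fst {A A' B : Sp S} (f : A ⟶ B) (f' : A' ⟶ B) (φ : A ⟶ A') (w : φ ≫ f' = f) :
    mapPair f f' φ w ≫ pullback.fst f' f' = pullback.fst f f ≫ φ :=
  pullback.lift_fst _ _ _

@[reassoc (attr := simp)]
theorem mapPair_snd {A A' B : Sp S} (f : A ⟶ B) (f' : A' ⟶ B) (φ : A ⟶ A') (w : φ ≫ f' = f) :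
    mapPair f f' φ w ≫ pullback.snd f' f' = pullback.snd f f ≫ φ :=
  pullback.lift_snd _ _ _

@[reassoc (attr := simp)]
theorem diagonal_mapPair {A A' B : Sp S} (f : A ⟶ B) (f' : A' ⟶ B) (φ : A ⟶ A') (w : φ ≫ f' = f) :
    pullback.diagonal f ≫ mapPair f f' φ w = φ ≫ pullback.diagonal f' := by
  apply pullback.hom_ext <;> simp

theorem isAffineMor_mapPair {A A' B : Sp S} (f : A ⟶ B) (f' : A' ⟶ B) (φ : A ⟶ A')
    (w : φ ≫ f' = f) (hφ : IsAffineMor φ) : IsAffineMor (mapPair f f' φ w) := by
  let m₁ : pullback f f ⟶ pullback f' f :=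
    pullback.lift (pullback.fst _ _ ≫ φ) (pullback.snd _ _) (by
      rw [Category.assoc, w, pullback.condition])
  let m₂ : pullback f' f ⟶ pullback f' f' :=
    pullback.lift (pullback.fst _ _) (pullback.snd _ _ ≫ φ) (by
      rw [Category.assoc, w, pullback.condition])
  have sq₁ : IsPullback m₁ (pullback.fst f f) (pullback.fst f' f) φ :=
    IsPullback.of_right (h₁₂ := pullback.snd f' f) (h₂₂ := f')
      (by
        erw [pullback.lift_snd, w]
        exact (IsPullback.of_hasPullback f f).flip) (pullback.lift_fst _ _ _)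
      (IsPullback.of_hasPullback f' f).flip
  have sq₂ : IsPullback m₂ (pullback.snd f' f) (pullback.snd f' f') φ :=
    IsPullback.of_right (h₁₂ := pullback.fst f' f') (h₂₂ := f')
      (by
        erw [pullback.lift_fst, w]
        exact IsPullback.of_hasPullback f' f) (pullback.lift_snd _ _ _)
      (IsPullback.of_hasPullback f' f')
  have e : mapPair f f' φ w = m₁ ≫ m₂ := by
    apply pullback.hom_ext
    · rw [mapPair_fst, Category.assoc, pullback.lift_fst, pullback.lift_fst]
    · rw [mapPair_snd, Category.assoc, pullback.lift_snd, pullback.lift_snd_assoc]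
  rw [e]
  exact Perm.isAffineMor_comp (Perm.isAffineMor_baseChange sq₁.flip hφ)
    (Perm.isAffineMor_baseChange sq₂.flip hφ)

theorem graph_closedImm {A A' B : Sp S} (f : A ⟶ B) (f' : A' ⟶ B) (φ : A ⟶ A')
    (w : φ ≫ f' = f) (hφ : IsSeparatedMor φ) :
    RepWith @IsClosedImmersion (pullback.lift φ (pullback.diagonal f)
      (diagonal_mapPair f f' φ w).symm :
        A ⟶ pullback (pullback.diagonal f') (mapPair f f' φ w)) := by
  have hq1 : (pullback.snd (pullback.diagonal f') (mapPair f f' φ w) ≫ pullback.fst f f) ≫ φ =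
      pullback.fst (pullback.diagonal f') (mapPair f f' φ w) := by
    rw [Category.assoc, ← mapPair_fst f f' φ w, ← Category.assoc, ← pullback.condition,
      Category.assoc, pullback.diagonal_fst]
    exact Category.comp_id _
  have hq2 : (pullback.snd (pullback.diagonal f') (mapPair f f' φ w) ≫ pullback.snd f f) ≫ φ =
      pullback.fst (pullback.diagonal f') (mapPair f f' φ w) := by
    rw [Category.assoc, ← mapPair_snd f f' φ w, ← Category.assoc, ← pullback.condition,
      Category.assoc, pullback.diagonal_snd]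
    exact Category.comp_id _
  let θ : pullback (pullback.diagonal f') (mapPair f f' φ w) ⟶ pullback φ φ :=
    pullback.lift (pullback.snd _ _ ≫ pullback.fst f f) (pullback.snd _ _ ≫ pullback.snd f f)
      (hq1.trans hq2.symm)
  have hθ1 : θ ≫ pullback.fst φ φ = pullback.snd _ _ ≫ pullback.fst f f := pullback.lift_fst _ _ _
  have hθ2 : θ ≫ pullback.snd φ φ = pullback.snd _ _ ≫ pullback.snd f f := pullback.lift_snd _ _ _
  refine repWith_baseChange (f := pullback.diagonal φ) (g := θ) (fst := 𝟙 A) ?_ hφ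
  refine isPullback_of_yon ?_ (fun T a b h _ ↦ by simpa using h) fun T a b h ↦
    ⟨a, Category.comp_id _, ?_⟩
  · apply pullback.hom_ext
    · rw [Category.id_comp, pullback.diagonal_fst, Category.assoc, hθ1, pullback.lift_snd_assoc,
        pullback.diagonal_fst]
    · rw [Category.id_comp, pullback.diagonal_snd, Category.assoc, hθ2, pullback.lift_snd_assoc,
        pullback.diagonal_snd]
  · have h1 := congr($h ≫ pullback.fst φ φ)
    have h2 := congr($h ≫ pullback.snd φ φ)
    simp only [Category.assoc, pullback.diagonal_fst, pullback.diagonal_snd, Category.comp_id,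
      hθ1, hθ2] at h1 h2
    apply pullback.hom_ext
    · rw [Category.assoc, pullback.lift_fst, ← hq1, Category.assoc, h1]
      simp only [Category.assoc]
    · rw [Category.assoc, pullback.lift_snd]
      apply pullback.hom_ext <;> simp [h1]
      exact h1.symm.trans h2

/-- A limit separated over a base is separated at some stage. -/
theorem eventually_separated_of_limit [QuasiSeparatedSpace ↥S] {I : Type u} [SmallCategory I]
    [IsCofiltered I] {Y : Sp S} (hY : IsAlgSpace Y) {D : I ⥤ Sp S}
    (hD : ∀ i, IsAlgSpace (D.obj i)) (t : D ⟶ (Functor.const I).obj Y)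
    (hDa : ∀ (i j : I) (φ : i ⟶ j), IsAffineMor (D.map φ)) {c : Cone D} (hc : IsLimit c)
    (g : c.pt ⟶ Y) (hg : ∀ i, c.π.app i ≫ t.app i = g) (hqc : ∀ i, IsQuasiCompactSp (D.obj i))
    (hqs : ∀ i, IsQuasiSeparatedSp (D.obj i)) (hYs : IsQuasiSeparatedSp Y)
    (hX : IsSeparatedMor g) : ∃ i₀ : I, ∀ (i : I) (_ : i ⟶ i₀), IsSeparatedMor (t.app i) := by
  have i₀ : I := IsCofiltered.nonempty.some
  obtain ⟨hXsp, hXc, hXs⟩ := qcqs_of_affine (hD i₀) (isAffineMor_π hDa hc i₀) (hqc i₀) (hqs i₀)
  let f : ∀ i, D.obj i ⟶ Y := fun i ↦ t.app i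
  have hf : ∀ {i j} (φ : i ⟶ j), D.map φ ≫ f j = f i := fun φ ↦
    (t.naturality φ).trans (Category.comp_id _)
  let T : I ⥤ Sp S :=
    { obj := fun i ↦ pullback (f i) (f i)
      map := fun {i j} φ ↦ mapPair (f i) (f j) (D.map φ) (hf φ)
      map_id := fun i ↦ by apply pullback.hom_ext <;> simp
      map_comp := fun φ ψ ↦ by apply pullback.hom_ext <;> simp }
  have hT : ∀ i, IsAlgSpace (T.obj i) ∧ IsQuasiCompactSp (T.obj i) ∧ IsQuasiSeparatedSp (T.obj i) :=
    fun i ↦ qcqs_fibreProd_of (f i) (hD i) hY (hqc i) (hqs i) hYs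
  obtain ⟨hPsp, hPc, hPs⟩ := qcqs_fibreProd_of g hXsp hY hXc hXs hYs
  let pr : ∀ i, pullback g g ⟶ pullback (f i) (f i) := fun i ↦
    mapPair g (f i) (c.π.app i) (hg i)
  let cT : Cone T :=
    { pt := pullback g g
      π :=
        { app := pr
          naturality := fun i j φ ↦ by apply pullback.hom_ext <;> simp [T, pr] } }
  have hcw : ∀ (s : Cone T) {i j} (φ : i ⟶ j),
      (s.π.app i ≫ pullback.fst (f i) (f i)) ≫ D.map φ = s.π.app j ≫ pullback.fst (f j) (f j) ∧
      (s.π.app i ≫ pullback.snd (f i) (f i)) ≫ D.map φ = s.π.app j ≫ pullback.snd (f j) (f j) :=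
    fun s i j φ ↦ by
      constructor <;>
      · rw [← s.w φ]
        simp [T]
  let a : ∀ _ : Cone T, Cone D := fun s ↦
    { pt := s.pt, π := { app := fun i ↦ s.π.app i ≫ pullback.fst (f i) (f i)
                         naturality := fun i j φ ↦ (Category.id_comp _).trans (hcw s φ).1.symm } }
  let b : ∀ _ : Cone T, Cone D := fun s ↦
    { pt := s.pt, π := { app := fun i ↦ s.π.app i ≫ pullback.snd (f i) (f i)
                         naturality := fun i j φ ↦ (Category.id_comp _).trans (hcw s φ).2.symm } }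
  have hab : ∀ s : Cone T, hc.lift (a s) ≫ g = hc.lift (b s) ≫ g := fun s ↦ by
    rw [← hg i₀, ← Category.assoc, ← Category.assoc, hc.fac, hc.fac]
    simp only [a, b, Category.assoc]
    exact congrArg (s.π.app i₀ ≫ ·) pullback.condition
  have hcT : IsLimit cT :=
    { lift := fun s ↦ pullback.lift (hc.lift (a s)) (hc.lift (b s)) (hab s)
      fac := fun s i ↦ by
        apply pullback.hom_ext
        · simp only [cT, pr, Category.assoc, mapPair_fst, pullback.lift_fst_assoc]
          exact hc.fac (a s) i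
        · simp only [cT, pr, Category.assoc, mapPair_snd, pullback.lift_snd_assoc]
          exact hc.fac (b s) i
      uniq := fun s m hm ↦ by
        apply pullback.hom_ext
        · rw [pullback.lift_fst]
          exact hc.uniq (a s) _ fun i ↦ by simp [a, ← hm i, cT, pr]
        · rw [pullback.lift_snd]
          exact hc.uniq (b s) _ fun i ↦ by simp [b, ← hm i, cT, pr] }
  -- the pullbacks of the diagonals to an affine chart of the limit
  haveI := QC.compactSpace_points hPc
  obtain ⟨W, w, hW, hwe, hws⟩ := QC.exists_affine_atlas hPsp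
  haveI : IsAffine W.left := hW
  have hr : ∀ i, AlgSp.Representable (pullback.diagonal (f i)) := fun i ↦
    (Sep.diagonal_props (f i) (hD i)).1
  let E : I ⥤ Over S :=
    { obj := fun i ↦ (hr i).pullback (w ≫ pr i)
      map := fun {i k} φ ↦ (hr k).lift ((hr i).fst (w ≫ pr i) ≫ D.map φ) ((hr i).snd (w ≫ pr i))
        (by
          rw [Category.assoc, ← diagonal_mapPair (f i) (f k) (D.map φ) (hf φ), ← Category.assoc,
            (hr i).w, Category.assoc, Category.assoc]
          exact congrArg (_ ≫ ·) (congrArg (w ≫ ·) (cT.w φ)))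
      map_id := fun i ↦ (hr i).hom_ext (by simp) (by simp)
      map_comp := fun {i k l} φ ψ ↦ (hr l).hom_ext (by simp) (by simp) }
  have hfst : ∀ {i k} (φ : i ⟶ k), (yon S).map (E.map φ) ≫ (hr k).fst (w ≫ pr k) =
      (hr i).fst (w ≫ pr i) ≫ D.map φ := fun φ ↦
    Functor.relativelyRepresentable.lift_fst _ _ _ _
  have hsnd : ∀ {i k} (φ : i ⟶ k), E.map φ ≫ (hr k).snd (w ≫ pr k) = (hr i).snd (w ≫ pr i) :=
    fun φ ↦ Functor.relativelyRepresentable.lift_snd _ _ _ _
  -- transitions are closed immersions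
  have hclosed : ∀ {i k} (φ : i ⟶ k), IsClosedImmersion (E.map φ).left := by
    intro i k φ
    have hgr := graph_closedImm (f i) (f k) (D.map φ) (hf φ)
      (isSeparatedMor_of_isAffineMor (hD i) (hDa _ _ φ))
    let θ : (yon S).obj (E.obj k) ⟶
        pullback (pullback.diagonal (f k)) (mapPair (f i) (f k) (D.map φ) (hf φ)) :=
      pullback.lift ((hr k).fst (w ≫ pr k)) ((yon S).map ((hr k).snd (w ≫ pr k)) ≫ w ≫ pr i) (by
        rw [(hr k).w, Category.assoc, Category.assoc]
        exact congrArg (_ ≫ ·) (congrArg (w ≫ ·) (cT.w φ)).symm)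
    have low : IsPullback θ ((yon S).map ((hr k).snd (w ≫ pr k)))
        (pullback.snd (pullback.diagonal (f k)) (mapPair (f i) (f k) (D.map φ) (hf φ)))
        (w ≫ pr i) := by
      refine IsPullback.of_right (h₁₂ := pullback.fst _ _)
        (h₂₂ := mapPair (f i) (f k) (D.map φ) (hf φ)) ?_ (pullback.lift_snd _ _ _)
        (IsPullback.of_hasPullback _ _)
      rw [pullback.lift_fst, Category.assoc,
        show pr i ≫ mapPair (f i) (f k) (D.map φ) (hf φ) = pr k from cT.w φ]
      exact (hr k).isPullback _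
    have sq : IsPullback ((hr i).fst (w ≫ pr i)) ((yon S).map (E.map φ))
        (pullback.lift (D.map φ) (pullback.diagonal (f i))
          (diagonal_mapPair (f i) (f k) (D.map φ) (hf φ)).symm) θ := by
      refine IsPullback.of_bot ?_ ?_ low
      · rw [← Functor.map_comp, hsnd, pullback.lift_snd]
        exact (hr i).isPullback _
      · apply pullback.hom_ext
        · rw [Category.assoc, Category.assoc, pullback.lift_fst, pullback.lift_fst, hfst]
        · simp only [θ, Category.assoc, pullback.lift_snd]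
          rw [← Functor.map_comp_assoc, hsnd]
          exact (hr i).w _
    exact (AlgSp.repWith_yon_map_iff _ _).1 (repWith_baseChange sq hgr)
  -- the limit
  have hrg : AlgSp.Representable (pullback.diagonal g) := hX.rep
  let L := hrg.pullback w
  let e : Cone E :=
    { pt := L
      π :=
        { app := fun i ↦ (hr i).lift (hrg.fst w ≫ c.π.app i) (hrg.snd w) (by
            rw [Category.assoc, ← diagonal_mapPair g (f i) (c.π.app i) (hg i), ← Category.assoc,
              hrg.w, Category.assoc])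
          naturality := fun i k φ ↦ (hr k).hom_ext (by simp [E, c.w]) (by simp [E]) } }
  have hefst : ∀ i, (yon S).map (e.π.app i) ≫ (hr i).fst (w ≫ pr i) = hrg.fst w ≫ c.π.app i :=
    fun i ↦ Functor.relativelyRepresentable.lift_fst _ _ _ _
  have hesnd : ∀ i, e.π.app i ≫ (hr i).snd (w ≫ pr i) = hrg.snd w :=
    fun i ↦ Functor.relativelyRepresentable.lift_snd _ _ _ _
  have he : IsLimit e := by
    let sD : Cone E → Cone D := fun s ↦
      { pt := (yon S).obj s.pt
        π :=
          { app := fun i ↦ (yon S).map (s.π.app i) ≫ (hr i).fst (w ≫ pr i)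
            naturality := fun i k φ ↦ by
              refine (Category.id_comp _).trans ?_
              rw [Category.assoc, ← hfst φ, ← Category.assoc, ← Functor.map_comp, s.w φ] } }
    have hconst : ∀ (s : Cone E) (i : I), s.π.app i ≫ (hr i).snd (w ≫ pr i) =
        s.π.app i₀ ≫ (hr i₀).snd (w ≫ pr i₀) := by
      intro s i
      obtain ⟨k, p, q, -⟩ := IsCofilteredOrEmpty.cone_objs i i₀
      rw [← s.w p, ← s.w q, Category.assoc, Category.assoc, hsnd, hsnd]
    have hl : ∀ s : Cone E, hc.lift (sD s) ≫ pullback.diagonal g =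
        (yon S).map (s.π.app i₀ ≫ (hr i₀).snd (w ≫ pr i₀)) ≫ w := fun s ↦ by
      refine hcT.hom_ext fun i ↦ ?_
      show (_ ≫ pullback.diagonal g) ≫ pr i = (_ ≫ w) ≫ pr i
      rw [Category.assoc, Category.assoc]
      simp only [pr, diagonal_mapPair]
      rw [← Category.assoc, hc.fac]
      simp only [sD, Category.assoc]
      rw [(hr i).w, ← Functor.map_comp_assoc, hconst]
    refine ⟨fun s ↦ hrg.lift (hc.lift (sD s)) (s.π.app i₀ ≫ (hr i₀).snd (w ≫ pr i₀)) (hl s),
      fun s i ↦ ?_, fun s m hm ↦ ?_⟩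
    · refine (hr i).hom_ext ?_ ?_
      · rw [Functor.map_comp, Category.assoc, hefst,
          Functor.relativelyRepresentable.lift_fst_assoc, hc.fac]
      · rw [Category.assoc, hesnd, Functor.relativelyRepresentable.lift_snd]
        exact (hconst s i).symm
    · refine hrg.hom_ext (hc.hom_ext fun i ↦ ?_) ?_
      · rw [Functor.relativelyRepresentable.lift_fst, hc.fac, Category.assoc, ← hefst,
          ← Functor.map_comp_assoc, hm]
      · rw [Functor.relativelyRepresentable.lift_snd, ← hm i₀, Category.assoc, hesnd]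
  obtain ⟨hef⟩ := isLimit_forget he
  let τ : E ⋙ CategoryTheory.Over.forget S ⟶ (Functor.const I).obj W.left :=
    { app := fun i ↦ ((hr i).snd (w ≫ pr i)).left
      naturality := fun i k φ ↦ by
        refine Eq.trans ?_ (Category.comp_id _).symm
        exact congr($(hsnd φ).left) }
  haveI : ∀ (i k : I) (φ : i ⟶ k),
      IsClosedImmersion ((E ⋙ CategoryTheory.Over.forget S).map φ) := fun i k φ ↦ hclosed φ
  haveI : ∀ {i k : I} (φ : i ⟶ k),
      IsAffineHom ((E ⋙ CategoryTheory.Over.forget S).map φ) := fun φ ↦ inferInstance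
  haveI : ∀ i, LocallyOfFiniteType (τ.app i) := fun i ↦
    (Sep.diagonal_props (f i) (hD i)).2.1.property_snd _
  haveI : ∀ i, CompactSpace ↥(((Functor.const I).obj W.left).obj i) := fun _ ↦
    inferInstanceAs (CompactSpace ↥W.left)
  haveI : ∀ i, QuasiSeparatedSpace ↥(((Functor.const I).obj W.left).obj i) := fun _ ↦
    inferInstanceAs (QuasiSeparatedSpace ↥W.left)
  haveI : ∀ i, CompactSpace ↥((E ⋙ CategoryTheory.Over.forget S).obj i) := fun i ↦ by
    haveI : QuasiCompact (τ.app i) :=
      (Sep.repWith_diagonal_of_diag _ (f i) (hqs i)).property_snd _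
    exact QuasiCompact.compactSpace_of_compactSpace (τ.app i)
  haveI : ∀ i, QuasiSeparatedSpace ↥((E ⋙ CategoryTheory.Over.forget S).obj i) := fun i ↦ by
    haveI : IsSeparated (τ.app i) := (Sep.diagonal_props (f i) (hD i)).2.2.2.1.property_snd _
    exact quasiSeparatedSpace_of_quasiSeparated (τ.app i)
  haveI : IsClosedImmersion (((CategoryTheory.Over.forget S).mapCone e).π.app i₀ ≫ τ.app i₀) := by
    show IsClosedImmersion ((e.π.app i₀).left ≫ ((hr i₀).snd (w ≫ pr i₀)).left)
    rw [← CategoryTheory.Over.comp_left, hesnd]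
    exact hX.property_snd w
  obtain ⟨i₁, hi₁⟩ := Lib.Lim.Eventual.exists_isClosedImmersion τ
    (c := (CategoryTheory.Over.forget S).mapCone e) hef i₀
  have h1 : IsClosedImmersion ((hr i₁).snd (w ≫ pr i₁)).left := hi₁ i₁ (𝟙 i₁)
  haveI := Sep.isLocalAtTarget_fppf_isClosedImmersion.{u}
  have sqX := IsPullback.of_hasPullback (pullback.diagonal (f i₁)) (pr i₁)
  let k := sqX.lift ((hr i₁).fst (w ≫ pr i₁)) ((yon S).map ((hr i₁).snd (w ≫ pr i₁)) ≫ w)
    (by rw [(hr i₁).w, Category.assoc])
  have hf₁ : RepWith @IsClosedImmersion (pullback.snd (pullback.diagonal (f i₁)) (pr i₁)) :=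
    RepDescent.repWith_of_cover _ RepDescent.effective_isClosedImmersion hPsp.diag hwe hws
      (IsPullback.of_right (h₁₁ := k) (by rw [sqX.lift_fst]; exact (hr i₁).isPullback _)
        (sqX.lift_snd _ _ _) sqX)
      ((AlgSp.repWith_yon_map_iff _ _).2 h1)
  let σ : Setup T i₁ (pullback.diagonal (f i₁)) (𝟙 (T.obj i₁)) :=
    { hD := fun i ↦ (hT i).1
      hDa := fun i j φ ↦ isAffineMor_mapPair (f i) (f j) (D.map φ) (hf φ) (hDa _ _ φ)
      c := cT, hc := hcT, hX₀ := hD i₁, hY₀ := (hT i₁).1, hXc := hqc i₁, hXs := hqs i₁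
      hYc := (hT i₁).2.1, hYs := (hT i₁).2.2
      X := pullback (pullback.diagonal (f i₁)) (pr i₁), Y := pullback g g
      f := pullback.snd _ _, pY := pr i₁, qY := 𝟙 _
      hY := IsPullback.of_vert_isIso ⟨(Category.comp_id _).trans (Category.id_comp _).symm⟩
      pX := pullback.fst _ _, hX := sqX }
  obtain ⟨j, φ, hj⟩ := σ.eventually_closedImm
    (LocP.locP_of_repWith locallyOfFiniteType (Sep.diagonal_props (f i₁) (hD i₁)).2.1) hf₁
  have hj' : RepWith @IsClosedImmersion
      (pullback.snd (pullback.diagonal (f i₁)) (mapPair (f j) (f i₁) (D.map φ) (hf φ))) :=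
    hj _ _ _ (T.map φ) (𝟙 _)
      (IsPullback.of_vert_isIso ⟨(Category.comp_id _).trans (Category.id_comp _).symm⟩) _
      (IsPullback.of_hasPullback _ _)
  have hsep : IsSeparatedMor (f j) := by
    have h := repWith_comp (graph_closedImm (f j) (f i₁) (D.map φ) (hf φ)
      (isSeparatedMor_of_isAffineMor (hD j) (hDa _ _ φ))) hj'
    rwa [pullback.lift_snd] at h
  refine ⟨j, fun i ψ ↦ ?_⟩
  show IsSeparatedMor (f i)
  rw [← hf ψ]
  exact Proper.repWith_diagonal_comp _ (isSeparatedMor_of_isAffineMor (hD i) (hDa _ _ ψ)) hsep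

end Groth.Agent.Lib.AlgSpLimit
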