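import Groth.Agent.Lib.AlgSpLimit.EtaleModel
import Groth.Agent.Lib.AlgSpLimit.Separated
import Groth.Agent.Lib.AlgSpLimit.Points
import Groth.Agent.Lib.AlgSpMor.QuasiAffineDescent

/-!
# A limit which is an affine scheme is an affine scheme at some stage
-/

set_option autoImplicit false
set_option linter.style.haveILetI false

universe u

open CategoryTheory CategoryTheory.Limits AlgebraicGeometry

namespace Groth.Agent.Lib.AlgSpLimit

open AlgSp (Sp yon RepWith IsAlgSpace LocP IsAffineMor IsQuasiCompactSp IsQuasiSeparatedSp)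
open Groth.Agent.Lib.AlgSpace Groth.Agent.Lib.AlgSpMor Groth.Agent.Lib.SourceDescent.Scheme
open Groth.Agent.Lib.Lim.Basic

variable {S : Scheme.{u}}

attribute [local instance] containsIdentities_lfp containsIdentities_etale

/-- Morphisms from a limit to a scheme of finite presentation factor through a stage. -/
theorem exists_hom_stage [QuasiSeparatedSpace ↥S] {I : Type u} [SmallCategory I] [IsCofiltered I]
    {D : I ⥤ Sp S} (hD : ∀ i, IsAlgSpace (D.obj i))
    (hDa : ∀ (i j : I) (φ : i ⟶ j), IsAffineMor (D.map φ)) {c : Cone D} (hc : IsLimit c)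
    (hqc : ∀ i, IsQuasiCompactSp (D.obj i)) (hqs : ∀ i, IsQuasiSeparatedSp (D.obj i))
    {Z : Over S} [LocallyOfFinitePresentation Z.hom] (z : c.pt ⟶ (yon S).obj Z) :
    ∃ (k : I) (φ : D.obj k ⟶ (yon S).obj Z), c.π.app k ≫ φ = z := by
  have i₀ : I := IsCofiltered.nonempty.some
  obtain ⟨E, e, α, π, ⟨hlim⟩, hA, hea, sqE, sqπ, hα, hπe, hπs⟩ :=
    exists_atlas_system hDa hc i₀ (hD i₀) (hqc i₀)
  let F := E ⋙ CategoryTheory.Over.forget S
  haveI : ∀ k, IsAffine (F.obj k) := hA
  haveI : ∀ {j k} (f : j ⟶ k), IsAffineHom (F.map f) := fun f ↦ inferInstance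
  let c' := (CategoryTheory.Over.forget S).mapCone e
  obtain ⟨a, ha⟩ := (yon S).map_surjective (π ≫ z)
  -- a morphism from the chart at some stage
  obtain ⟨k, g, hg, hgf⟩ := Scheme.exists_π_app_comp_eq_of_locallyOfFinitePresentation F
    { app := fun j ↦ (E.obj j).hom
      naturality := fun j l f ↦ (CategoryTheory.Over.w (E.map f)).trans (Category.comp_id _).symm }
    Z.hom c' hlim a.left (by
      ext j : 2
      show (e.π.app j).left ≫ (E.obj j).hom = a.left ≫ Z.hom
      rw [CategoryTheory.Over.w, CategoryTheory.Over.w]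
      rfl)
  let g' : E.obj k ⟶ Z := CategoryTheory.Over.homMk g hgf
  have hg' : e.π.app k ≫ g' = a := CategoryTheory.Over.OverMorphism.ext hg
  -- the two composites to `Z` agree at some stage
  obtain ⟨R, s, t, sqR⟩ := exists_isPullback_yon (hD k.left).diag (α k) (α k)
  haveI : CompactSpace ↥R.left := DiagCharts.compactSpace_of_isQuasiSeparatedSp (hqs k.left) sqR
  haveI : QuasiSeparatedSpace ↥R.left := by
    obtain ⟨-, -, hs'⟩ := qcqs_of_isPullback (IsAlgSpace.yon_obj (E.obj k)) (hD k.left)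
      QC.isQuasiCompactSp_yon (by
        show RepWith @QuasiCompact _
        rw [AlgSp.repWith_diag_yon_iff]
        haveI : QuasiSeparated (E.obj k).hom := inferInstance
        infer_instance) (hqs k.left) sqR
    change RepWith @QuasiCompact _ at hs'
    rw [AlgSp.repWith_diag_yon_iff] at hs'
    haveI : QuasiSeparated R.hom := ⟨hs'⟩
    exact quasiSeparatedSpace_of_quasiSeparated R.hom
  have sqL := IsPullback.of_hasPullback s.left (c'.π.app k)
  have hlimR := isLimitBcCone hlim sqL
  let top := CategoryTheory.Over.mk (𝟙 k)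
  let p₀ : pullback s.left (F.map (𝟙 k)) ⟶ R.left := pullback.fst _ _
  let ts : bcDiagram F s.left ⟶ (Functor.const _).obj S :=
    { app := fun j ↦ pullback.fst _ _ ≫ R.hom
      naturality := fun j l f ↦ by
        refine Eq.trans ?_ (Category.comp_id _).symm
        rw [← Category.assoc]
        exact congrArg (· ≫ R.hom) (bcDiagram_map_fst F s.left f) }
  haveI : ∀ j, CompactSpace ↥((bcDiagram F s.left).obj j) := fun j ↦
    compactSpace_bcDiagram F s.left j
  haveI : ∀ j, QuasiSeparatedSpace ↥((bcDiagram F s.left).obj j) := fun j ↦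
    quasiSeparatedSpace_bcDiagram F s.left j
  haveI : LocallyOfFiniteType Z.hom := inferInstance
  obtain ⟨m, ψ, hm⟩ := Scheme.exists_hom_comp_eq_comp_of_locallyOfFiniteType (bcDiagram F s.left)
    ts Z.hom (bcCone sqL.w) hlimR (i := top) (p₀ ≫ (s ≫ g').left) (p₀ ≫ (t ≫ g').left)
    (by show pullback.fst _ _ ≫ R.hom = (p₀ ≫ (s ≫ g').left) ≫ Z.hom
        rw [Category.assoc, CategoryTheory.Over.w])
    (by show pullback.fst _ _ ≫ R.hom = (p₀ ≫ (t ≫ g').left) ≫ Z.hom
        rw [Category.assoc, CategoryTheory.Over.w])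
    (by
      have hp : (bcCone (D := F) (c := c') (i₀ := k) sqL.w).π.app top ≫ p₀ =
          pullback.fst s.left (c'.π.app k) := bcCone_π_fst sqL.w top
      rw [reassoc_of% hp, reassoc_of% hp]
      let Tl : Over S := CategoryTheory.Over.mk (pullback.fst s.left (c'.π.app k) ≫ R.hom)
      let t' : Tl ⟶ R := CategoryTheory.Over.homMk (pullback.fst _ _) rfl
      let v' : Tl ⟶ e.pt := CategoryTheory.Over.homMk (pullback.snd _ _) (by
        show _ ≫ e.pt.hom = _ ≫ R.hom
        rw [← CategoryTheory.Over.w s, ← Category.assoc, sqL.w, Category.assoc]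
        exact congrArg (pullback.snd _ _ ≫ ·) (CategoryTheory.Over.w (e.π.app k)).symm)
      have h1 : t' ≫ s = v' ≫ e.π.app k := CategoryTheory.Over.OverMorphism.ext sqL.w
      have w' : (yon S).map t' ≫ (yon S).map s = (yon S).map v' ≫ (yon S).map (e.π.app k) := by
        rw [← Functor.map_comp, h1, Functor.map_comp]
      let b' := (sqπ k).lift ((yon S).map (t' ≫ t)) ((yon S).map v' ≫ π) (by
        rw [Functor.map_comp, Category.assoc, ← sqR.w, ← Category.assoc, w', Category.assoc,
          (sqπ k).w, Category.assoc])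
      obtain ⟨b, hb⟩ := (yon S).map_surjective b'
      have hb1 : b ≫ e.π.app k = t' ≫ t := (yon S).map_injective (by
        rw [Functor.map_comp, hb]; exact (sqπ k).lift_fst _ _ _)
      have hb2 : (yon S).map b ≫ π = (yon S).map v' ≫ π := by
        rw [hb]; exact (sqπ k).lift_snd _ _ _
      have hba : b ≫ a = v' ≫ a := (yon S).map_injective (by
        rw [Functor.map_comp, Functor.map_comp, ha, reassoc_of% hb2])
      show (t' ≫ s ≫ g').left = (t' ≫ t ≫ g').left
      rw [← Category.assoc t', h1, ← Category.assoc t', ← hb1, Category.assoc, Category.assoc, hg',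
        hba])
  let k' := m.left
  let φ : k' ⟶ k := m.hom
  let gk := E.map φ ≫ g'
  obtain ⟨R', s', t', sqR'⟩ := exists_isPullback_yon (hD k'.left).diag (α k') (α k')
  have hgk : (yon S).map s' ≫ (yon S).map gk = (yon S).map t' ≫ (yon S).map gk := by
    obtain ⟨ρ, hρ⟩ := (yon S).map_surjective (sqR.lift ((yon S).map (s' ≫ E.map φ))
      ((yon S).map (t' ≫ E.map φ)) (by
        rw [Functor.map_comp, Functor.map_comp, Category.assoc, Category.assoc, (sqE φ).w,
          ← Category.assoc, sqR'.w, Category.assoc]))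
    have hρs : ρ ≫ s = s' ≫ E.map φ := (yon S).map_injective (by
      rw [Functor.map_comp, hρ, sqR.lift_fst])
    have hρt : ρ ≫ t = t' ≫ E.map φ := (yon S).map_injective (by
      rw [Functor.map_comp, hρ, sqR.lift_snd])
    let z' : R'.left ⟶ (bcDiagram F s.left).obj m := pullback.lift ρ.left s'.left (by
      show ρ.left ≫ s.left = s'.left ≫ (E.map φ).left
      rw [← CategoryTheory.Over.comp_left, hρs, CategoryTheory.Over.comp_left])
    have e2 : z' ≫ (bcDiagram F s.left).map ψ ≫ p₀ = ρ.left := by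
      simp only [p₀]
      erw [bcDiagram_map_fst]
      exact pullback.lift_fst _ _ _
    have hz := congrArg (z' ≫ ·) hm
    simp only [reassoc_of% e2] at hz
    rw [← Functor.map_comp, ← Functor.map_comp]
    refine congrArg (yon S).map (CategoryTheory.Over.OverMorphism.ext ?_)
    show (s' ≫ E.map φ ≫ g').left = (t' ≫ E.map φ ≫ g').left
    rw [← Category.assoc, ← hρs, ← Category.assoc t', ← hρt, Category.assoc, Category.assoc]
    exact hz
  haveI := isLocallySurjective_of_etale (hα k').1 (hα k').2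
  obtain ⟨l, hl⟩ := exists_desc (α k') sqR' ((yon S).map gk) hgk
  refine ⟨k'.left, l, ?_⟩
  haveI := isLocallySurjective_of_etale hπe hπs
  rw [← cancel_epi π, ← Category.assoc, ← (sqπ k').w, Category.assoc, hl, ← ha, ← Functor.map_comp]
  simp only [gk]
  rw [← Category.assoc, e.w, hg']

/-- A morphism from an affine scheme to a scheme quasi-separated is quasi-affine. -/
theorem qaHom_of_affine_source {X Y : Scheme.{u}} [IsAffine X] [QuasiSeparatedSpace ↥Y]
    (f : X ⟶ Y) : QuasiAffineDescent.qaHom f := by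
  haveI : QuasiCompact f := inferInstance
  refine ⟨inferInstance, fun V hV ↦ ?_⟩
  haveI : CompactSpace (f ⁻¹ᵁ V : Scheme.{u}) :=
    isCompact_iff_compactSpace.1 (f.isCompact_preimage hV.isCompact)
  exact Scheme.IsQuasiAffine.of_isImmersion (f ⁻¹ᵁ V).ι

/-- A limit which is an affine scheme is a scheme at some stage. -/
theorem exists_scheme_stage [QuasiSeparatedSpace ↥S] {I : Type u} [SmallCategory I] [IsCofiltered I]
    {D : I ⥤ Sp S} (hD : ∀ i, IsAlgSpace (D.obj i))
    (hDa : ∀ (i j : I) (φ : i ⟶ j), IsAffineMor (D.map φ)) {c : Cone D} (hc : IsLimit c)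
    (hqc : ∀ i, IsQuasiCompactSp (D.obj i)) (hqs : ∀ i, IsQuasiSeparatedSp (D.obj i))
    {T : Over S} [IsAffine T.left] (eT : (yon S).obj T ≅ c.pt) :
    ∃ (i : I) (M : Over S), Nonempty ((yon S).obj M ≅ D.obj i) := by
  have i₀ : I := IsCofiltered.nonempty.some
  obtain ⟨E, e, α, π, ⟨hlim⟩, hA, hea, sqE, sqπ, hα, hπe, -⟩ :=
    exists_atlas_system hDa hc i₀ (hD i₀) (hqc i₀)
  obtain ⟨h, hh⟩ := (yon S).map_surjective (π ≫ eT.inv)
  haveI : IsAffine e.pt.left := hea
  haveI : Etale h.left := (AlgSp.repWith_yon_map_iff _ _).1 (by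
    rw [hh]; exact repWith_comp hπe (repWith_of_isIso _ _))
  obtain ⟨Z, V, v, z, u, hZ, hZa, hve, hva, sqU⟩ := exists_etale_model h
  haveI := hZ
  haveI := hZa
  haveI := hve
  haveI := hva
  obtain ⟨k₀, φ₀, hφ₀⟩ := exists_hom_stage hD hDa hc hqc hqs (eT.inv ≫ (yon S).map z)
  obtain ⟨l₀, p, q, -⟩ := IsCofilteredOrEmpty.cone_objs i₀ k₀
  let k : CategoryTheory.Over i₀ := CategoryTheory.Over.mk p
  let φ : D.obj k.left ⟶ (yon S).obj Z := D.map q ≫ φ₀
  have hφ : c.π.app k.left ≫ φ = eT.inv ≫ (yon S).map z := by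
    simp only [φ, ← Category.assoc]
    rw [show c.π.app k.left ≫ D.map q = c.π.app k₀ from c.w q]
    exact hφ₀
  obtain ⟨gz, hgz⟩ := (yon S).map_surjective (α k ≫ φ)
  -- lift to `V` at a later stage
  let F := CategoryTheory.Over.forget k ⋙ E ⋙ CategoryTheory.Over.forget S
  haveI : ∀ j, IsAffine (F.obj j) := fun j ↦ hA j.left
  haveI : ∀ {j l} (f : j ⟶ l), IsAffineHom (F.map f) := fun f ↦ inferInstance
  let cF := ((CategoryTheory.Over.forget S).mapCone e).whisker (CategoryTheory.Over.forget k)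
  have hcF : IsLimit cF :=
    (Functor.Initial.isLimitWhiskerEquiv (CategoryTheory.Over.forget k) _).symm hlim
  have hhz : e.π.app k ≫ gz = h ≫ z := (yon S).map_injective (by
    rw [Functor.map_comp, Functor.map_comp, hgz, reassoc_of% (sqπ k).w, hφ, ← Category.assoc, hh])
  have huv : u ≫ v = h ≫ z := CategoryTheory.Over.OverMorphism.ext sqU.w
  obtain ⟨m, g, hg, hgv⟩ := Scheme.exists_π_app_comp_eq_of_locallyOfFinitePresentation F
    { app := fun j ↦ (E.map j.hom ≫ gz).left
      naturality := fun j l f ↦ by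
        refine Eq.trans ?_ (Category.comp_id _).symm
        exact congr($(show E.map f.left ≫ E.map l.hom ≫ gz = E.map j.hom ≫ gz by
          rw [← Category.assoc, ← E.map_comp, CategoryTheory.Over.w f]).left) }
    v.left cF hcF u.left (by
      ext j : 2
      exact congr($(show e.π.app j.left ≫ E.map j.hom ≫ gz = u ≫ v by
        rw [← Category.assoc, e.w, hhz, huv]).left))
  let g' : E.obj m.left ⟶ V := CategoryTheory.Over.homMk g
    ((congrArg (g ≫ ·) (CategoryTheory.Over.w v).symm).trans ((Category.assoc _ _ _).symm.trans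
      ((congrArg (· ≫ Z.hom) hgv).trans (CategoryTheory.Over.w (E.map m.hom ≫ gz)))))
  have hgv' : g' ≫ v = E.map m.hom ≫ gz := CategoryTheory.Over.OverMorphism.ext hgv
  have hgu : e.π.app m.left ≫ g' = u := CategoryTheory.Over.OverMorphism.ext hg
  let i := m.left.left
  let ψ : D.obj i ⟶ (yon S).obj Z := D.map m.hom.left ≫ φ
  have hψ : c.π.app i ≫ ψ = eT.inv ≫ (yon S).map z := by
    simp only [ψ, ← Category.assoc]
    rw [show c.π.app i ≫ D.map m.hom.left = c.π.app k.left from c.w m.hom.left]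
    exact hφ
  have hαψ : α m.left ≫ ψ = (yon S).map g' ≫ (yon S).map v := by
    rw [← Functor.map_comp, hgv', Functor.map_comp, hgz, ← Category.assoc]
    exact (congrArg (· ≫ φ) (sqE m.hom).w.symm).trans (Category.assoc _ _ _)
  have sqW := IsPullback.of_hasPullback ψ ((yon S).map v)
  let f₀ := sqW.lift (α m.left) ((yon S).map g') hαψ
  have hf₀ : f₀ ≫ pullback.fst ψ ((yon S).map v) = α m.left := sqW.lift_fst _ _ _
  have hv₁ : RepWith @IsAffineHom ((yon S).map v) := (AlgSp.repWith_yon_map_iff _ _).2 hva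
  have hfst : IsAffineMor (pullback.fst ψ ((yon S).map v)) :=
    AffineDescent.isAffineMor_iff.2 (repWith_baseChange sqW.flip hv₁)
  obtain ⟨hWsp, hWc, hWs⟩ := qcqs_of_affine (hD i) hfst (hqc i) (hqs i)
  have sqY := IsPullback.of_hasPullback (c.π.app i ≫ ψ) ((yon S).map v)
  let pY := sqW.lift (pullback.fst (c.π.app i ≫ ψ) ((yon S).map v) ≫ c.π.app i)
    (pullback.snd _ _) (by rw [Category.assoc]; exact sqY.w)
  have hY : IsPullback pY (pullback.fst (c.π.app i ≫ ψ) ((yon S).map v))
      (pullback.fst ψ ((yon S).map v)) (c.π.app i) :=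
    IsPullback.of_right (h₁₂ := pullback.snd ψ ((yon S).map v)) (h₂₂ := ψ)
      (by rw [sqW.lift_snd]; exact sqY.flip) (sqW.lift_fst _ _ _) sqW.flip
  have sqU' : IsPullback π ((yon S).map u) (c.π.app i ≫ ψ) ((yon S).map v) := by
    rw [hψ]
    have h1 : IsPullback u h v z := IsPullback.of_map (CategoryTheory.Over.forget S)
      (CategoryTheory.Over.OverMorphism.ext sqU.w) sqU
    refine (isPullback_yon h1.flip).of_iso (Iso.refl _) eT (Iso.refl _) (Iso.refl _) ?_ (by simp)
      (by simp) (by simp)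
    simp [hh]
  let f := sqY.lift π ((yon S).map u) sqU'.w
  haveI : IsIso f := by
    have : f = (sqU'.isoIsPullback _ _ sqY).hom := sqY.hom_ext (by simp [f]) (by simp [f])
    rw [this]; infer_instance
  have hXsq : IsPullback ((yon S).map (e.π.app m.left)) f f₀ pY := by
    refine IsPullback.of_bot ?_ (sqW.hom_ext ?_ ?_) hY
    · rw [hf₀, sqY.lift_fst]; exact sqπ m.left
    · rw [Category.assoc, hf₀, Category.assoc, hY.w, ← Category.assoc, sqY.lift_fst]
      exact (sqπ m.left).w
    · simp only [Category.assoc, pY, f₀, f]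
      rw [sqW.lift_snd, sqW.lift_snd, sqY.lift_snd, ← Functor.map_comp, hgu]
  let σ : Setup D i f₀ (pullback.fst ψ ((yon S).map v)) :=
    { hD := hD, hDa := hDa, c := c, hc := hc, hX₀ := IsAlgSpace.yon_obj _, hY₀ := hWsp
      hXc := QC.isQuasiCompactSp_yon
      hXs := by
        show RepWith @QuasiCompact _
        rw [AlgSp.repWith_diag_yon_iff]
        haveI : IsAffine (E.obj m.left).left := hA _
        haveI : QuasiSeparated (E.obj m.left).hom := inferInstance
        infer_instance
      hYc := hWc, hYs := hWs, X := (yon S).obj e.pt, Y := _, f := f, pY := pY, qY := _, hY := hY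
      pX := (yon S).map (e.π.app m.left), hX := hXsq }
  haveI : IsIso σ.f := ‹IsIso f›
  have hl : LocP @LocallyOfFinitePresentation f₀ := by
    refine LocP.locP_of_comp (P := @LocallyOfFinitePresentation) (R := @LocallyOfFiniteType)
      locallyOfFinitePresentation (fun f g h hg ↦ Cancel.locallyOfFinitePresentation_of_comp h hg)
      (IsAlgSpace.yon_obj _) hWsp (hD i) (g := pullback.fst ψ ((yon S).map v)) ?_
      (LocP.locP_of_repWith locallyOfFiniteType (repWith_baseChange sqW.flip
        ((AlgSp.repWith_yon_map_iff _ _).2 (inferInstanceAs (LocallyOfFiniteType v.left)))))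
    rw [hf₀]
    exact LocP.locP_of_repWith locallyOfFinitePresentation
      (repWith_mono (hα _).1 fun _ _ g (_ : Etale g) ↦ inferInstance)
  obtain ⟨l, χ, hlχ⟩ := σ.eventually_isIso hl
  have sqYl := IsPullback.of_hasPullback (pullback.fst ψ ((yon S).map v)) (D.map χ)
  have sqXl := IsPullback.of_hasPullback f₀ (pullback.fst (pullback.fst ψ ((yon S).map v)) (D.map χ))
  haveI hisoX : IsIso (pullback.snd f₀ (pullback.fst (pullback.fst ψ ((yon S).map v)) (D.map χ))) :=
    hlχ _ _ _ _ _ sqYl _ sqXl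
  let n : CategoryTheory.Over i₀ := CategoryTheory.Over.mk (χ ≫ m.left.hom)
  let δ : n ⟶ m.left := CategoryTheory.Over.homMk χ rfl
  have sqn := sqXl.paste_vert sqYl
  rw [hf₀] at sqn
  let j := (sqE δ).isoIsPullback _ _ sqn
  let jY : (yon S).obj (E.obj n) ≅ _ := j ≪≫
    asIso (pullback.snd f₀ (pullback.fst (pullback.fst ψ ((yon S).map v)) (D.map χ)))
  obtain ⟨b, hb⟩ := (yon S).map_surjective
    (jY.hom ≫ pullback.fst _ (D.map χ) ≫ pullback.snd ψ ((yon S).map v))
  have hjY : jY.hom ≫ pullback.snd (pullback.fst ψ ((yon S).map v)) (D.map χ) = α n := by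
    simp only [jY, Iso.trans_hom, asIso_hom, Category.assoc]
    exact IsPullback.isoIsPullback_hom_snd _ _ _ _
  have sqB : IsPullback (α n) ((yon S).map b) (D.map χ ≫ ψ) ((yon S).map v) :=
    (sqYl.flip.paste_vert sqW).of_iso jY.symm (Iso.refl _) (Iso.refl _) (Iso.refl _)
      (by simp [← hjY]) (by simp [hb]) (by simp) (by simp)
  -- the open image of `V`
  let O : Z.left.Opens := ⟨Set.range v.left, v.left.isOpenMap.isOpen_range⟩
  let Oz : Over S := Topo.opensOver O
  let jO : Oz ⟶ Z := Topo.opensOverι O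
  have hjO : RepWith @IsOpenImmersion ((yon S).map jO) :=
    (AlgSp.repWith_yon_map_iff _ _).2 (inferInstanceAs (IsOpenImmersion O.ι))
  haveI : Mono ((yon S).map jO) :=
    mono_of_repWith (fun _ _ g (_ : IsOpenImmersion g) ↦ (inferInstance : Mono g)) hjO
  have hpt : ∀ {A B : Over S} (f : A ⟶ B) (w : A.left),
      AlgSp.Points.map ((yon S).map f) (AlgSp.Points.ofScheme A w) =
        AlgSp.Points.ofScheme B (f.left w) := fun {A B} f w ↦ by
    rw [← AlgSp.Points.ofPt_eq_map_ofScheme, ← Category.comp_id ((yon S).map f),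
      ofPt_yon_map_comp, AlgSp.Points.ofPt_eq_map_ofScheme, AlgSp.Points.map_id]
  have hry : ∀ {A B : Over S} (f : A ⟶ B), Set.range (AlgSp.Points.map ((yon S).map f)) =
      AlgSp.Points.ofScheme B '' Set.range f.left := fun {A B} f ↦ by
    ext x
    constructor
    · rintro ⟨y, rfl⟩
      obtain ⟨w, rfl⟩ := (AlgSp.Points.schemeHomeo A).surjective y
      exact ⟨f.left w, ⟨w, rfl⟩, (hpt f w).symm⟩
    · rintro ⟨_, ⟨w, rfl⟩, rfl⟩
      exact ⟨_, hpt f w⟩
  have hrO : Set.range (AlgSp.Points.map ((yon S).map jO)) =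
      AlgSp.Points.ofScheme Z '' (O : Set ↥Z.left) := by
    rw [hry, show Set.range jO.left = (O : Set ↥Z.left) from O.range_ι]
  obtain ⟨v', hv'⟩ := (exists_lift_iff_range_subset hjO ((yon S).map v)).2 (by
    rw [hrO, hry]; rfl)
  obtain ⟨v', rfl⟩ := (yon S).map_surjective v'
  obtain ⟨ψ', hψ'⟩ := (exists_lift_iff_range_subset hjO (D.map χ ≫ ψ)).2 (by
    rw [hrO]
    rintro _ ⟨x, rfl⟩
    obtain ⟨w, rfl⟩ := surjective_ofPt (hα n).2 x
    refine ⟨v.left (b.left w), ⟨_, rfl⟩, ?_⟩
    rw [AlgSp.Points.map_ofPt, sqB.w, ← Functor.map_comp, AlgSp.Points.ofPt_eq_map_ofScheme,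
      hpt]
    rfl)
  have sqB' : IsPullback (α n) ((yon S).map b) ψ' ((yon S).map v') :=
    isPullback_of_yon (by rw [← cancel_mono ((yon S).map jO), Category.assoc, Category.assoc, hψ',
        hv', sqB.w])
      (fun T p p' h₁ h₂ ↦ sqB.hom_ext h₁ h₂) fun T p p' w ↦
        ⟨sqB.lift p p' (by rw [← hψ', reassoc_of% w, hv']), sqB.lift_fst _ _ _, sqB.lift_snd _ _ _⟩
  have hv'l : v'.left ≫ O.ι = v.left := congr($((yon S).map_injective (by
    rw [Functor.map_comp, hv'] : (yon S).map (v' ≫ jO) = (yon S).map v)).left)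
  haveI : Etale v'.left := by
    haveI : Etale (v'.left ≫ O.ι) := by rw [hv'l]; exact hve
    exact MorphismProperty.of_postcomp (W := @Etale) (W' := @IsOpenImmersion) v'.left O.ι
      inferInstance ‹_›
  haveI : Surjective v'.left := ⟨fun x ↦ by
    obtain ⟨y, hy⟩ := x.2
    exact ⟨y, Subtype.ext ((congr($hv'l y)).trans hy)⟩⟩
  haveI : QuasiSeparatedSpace ↥V.left := by
    haveI : IsAffineHom (v.left ≫ Z.hom) := inferInstance
    exact quasiSeparatedSpace_of_quasiSeparated (v.left ≫ Z.hom)
  haveI : IsAffine (E.obj n).left := hA n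
  haveI := QuasiAffineDescent.isLocalAtTarget_qaHom.{u}
  have hqa : RepWith QuasiAffineDescent.qaHom ψ' :=
    RepDescent.repWith_of_cover _ QuasiAffineDescent.effective_qaHom (IsAlgSpace.yon_obj Oz).diag
      ((AlgSp.repWith_yon_map_iff _ _).2 ‹Etale v'.left›)
      ((AlgSp.repWith_yon_map_iff _ _).2 ‹Surjective v'.left›) sqB'
      ((AlgSp.repWith_yon_map_iff _ _).2 (qaHom_of_affine_source b.left))
  obtain ⟨M, r, a, sqM, -⟩ := repWith_exists hqa (𝟙 _)
  haveI : IsIso a := sqM.isIso_fst_of_isIso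
  exact ⟨l, M, ⟨asIso a⟩⟩

/-- A limit which is an affine scheme is an affine scheme at some stage. -/
theorem exists_affine_stage [QuasiSeparatedSpace ↥S] {I : Type u} [SmallCategory I] [IsCofiltered I]
    {D : I ⥤ Sp S} (hD : ∀ i, IsAlgSpace (D.obj i))
    (hDa : ∀ (i j : I) (φ : i ⟶ j), IsAffineMor (D.map φ)) {c : Cone D} (hc : IsLimit c)
    (hqc : ∀ i, IsQuasiCompactSp (D.obj i)) (hqs : ∀ i, IsQuasiSeparatedSp (D.obj i))
    {T : Over S} [IsAffine T.left] (eT : (yon S).obj T ≅ c.pt) :
    ∃ (i : I) (T' : Over S), IsAffine T'.left ∧ Nonempty ((yon S).obj T' ≅ D.obj i) := by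
  obtain ⟨i, M, ⟨eM⟩⟩ := exists_scheme_stage hD hDa hc hqc hqs eT
  have hM : ∀ j : CategoryTheory.Over i, ∃ (N : Over S), Nonempty ((yon S).obj N ≅ D.obj j.left) :=
    fun j ↦ by
      obtain ⟨N, r, a, sq, -⟩ :=
        repWith_exists (AffineDescent.repWith_of_isAffineMor (hDa _ _ j.hom)) eM.hom
      haveI : IsIso a := sq.isIso_fst_of_isIso
      exact ⟨N, ⟨asIso a⟩⟩
  choose N hN using hM
  let ε := fun j ↦ (hN j).some
  let E : CategoryTheory.Over i ⥤ Over S :=
    { obj := N
      map := fun {j l} f ↦ (yon S).preimage ((ε j).hom ≫ D.map f.left ≫ (ε l).inv)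
      map_id := fun j ↦ (yon S).map_injective (by simp)
      map_comp := fun f g ↦ (yon S).map_injective (by simp) }
  have hE : ∀ {j l} (f : j ⟶ l), (yon S).map (E.map f) = (ε j).hom ≫ D.map f.left ≫ (ε l).inv :=
    fun f ↦ (yon S).map_preimage _
  have hc' := (Functor.Initial.isLimitWhiskerEquiv (CategoryTheory.Over.forget i) c).symm hc
  let e : Cone E :=
    { pt := T
      π :=
        { app := fun j ↦ (yon S).preimage (eT.hom ≫ c.π.app j.left ≫ (ε j).inv)
          naturality := fun j l f ↦ (yon S).map_injective (by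
            simp [hE, reassoc_of% (c.w f.left)]) } }
  let sD : Cone E → Cone (CategoryTheory.Over.forget i ⋙ D) := fun s ↦
    { pt := (yon S).obj s.pt
      π :=
        { app := fun j ↦ (yon S).map (s.π.app j) ≫ (ε j).hom
          naturality := fun j l f ↦ by
            refine (Category.id_comp _).trans ?_
            show _ = _ ≫ D.map f.left
            rw [← s.w f, Functor.map_comp, hE]
            simp } }
  have he : IsLimit e :=
    { lift := fun s ↦ (yon S).preimage (hc'.lift (sD s) ≫ eT.inv)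
      fac := fun s j ↦ (yon S).map_injective (by
        simp only [e, Functor.map_comp, Functor.map_preimage, Category.assoc, Iso.inv_hom_id_assoc]
        rw [← Category.assoc (hc'.lift (sD s))]
        erw [hc'.fac (sD s) j]
        simp [sD])
      uniq := fun s m hm ↦ (yon S).map_injective (by
        simp only [Functor.map_preimage]
        rw [← cancel_mono eT.hom, Category.assoc, Iso.inv_hom_id, Category.comp_id]
        refine hc'.hom_ext fun j ↦ ?_
        erw [hc'.fac (sD s) j]
        show _ = (yon S).map (s.π.app j) ≫ (ε j).hom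
        rw [← hm j]
        simp [e]) }
  obtain ⟨hef⟩ := isLimit_forget he
  haveI : IsAffine ((CategoryTheory.Over.forget S).mapCone e).pt := ‹IsAffine T.left›
  haveI : ∀ {j l} (f : j ⟶ l), IsAffineHom ((E ⋙ CategoryTheory.Over.forget S).map f) := fun f ↦ by
    refine (AlgSp.repWith_yon_map_iff _ _).1 ?_
    rw [hE]
    exact (repWith_iso_comp_iff _ _ _).2 (repWith_comp
      (AffineDescent.repWith_of_isAffineMor (hDa _ _ f.left)) (repWith_of_isIso _ _))
  haveI : ∀ j, CompactSpace ↥((E ⋙ CategoryTheory.Over.forget S).obj j) := fun j ↦ by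
    haveI := QC.compactSpace_points (hqc j.left)
    haveI := (Topo.homeoOfIso (ε j)).symm.compactSpace
    exact (AlgSp.Points.schemeHomeo (N j)).symm.compactSpace
  haveI : ∀ j, QuasiSeparatedSpace ↥((E ⋙ CategoryTheory.Over.forget S).obj j) := fun j ↦ by
    haveI : MorphismProperty.ContainsIdentities (@QuasiCompact : MorphismProperty Scheme.{u}) :=
      ⟨fun X ↦ inferInstanceAs (QuasiCompact (𝟙 X))⟩
    have h2 : RepWith @QuasiCompact (Limits.diag ((yon S).obj (N j))) :=
      Perm.repWith_diag_of_mor @QuasiCompact (ε j).hom (repWith_of_isIso _ _) (hqs j.left)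
    rw [AlgSp.repWith_diag_yon_iff] at h2
    haveI : QuasiSeparated (N j).hom := ⟨h2⟩
    have h3 : QuasiSeparatedSpace ↥(N j).left := quasiSeparatedSpace_of_quasiSeparated (N j).hom
    exact h3
  obtain ⟨j, hj⟩ := Scheme.exists_isAffine_of_isLimit (E ⋙ CategoryTheory.Over.forget S)
    ((CategoryTheory.Over.forget S).mapCone e) hef
  exact ⟨j.left, N j, hj, ⟨ε j⟩⟩

end Groth.Agent.Lib.AlgSpLimit
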