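import Groth.Agent.Lib.AlgSpLimit.Affine

/-!
# Affine morphisms along limits
-/

set_option autoImplicit false
set_option linter.style.haveILetI false

universe u

open CategoryTheory CategoryTheory.Limits AlgebraicGeometry

namespace Groth.Agent.Lib.AlgSpLimit

open AlgSp (Sp yon RepWith IsAlgSpace IsAffineMor IsQuasiCompactSp IsQuasiSeparatedSp)
open Groth.Agent.Lib.AlgSpace Groth.Agent.Lib.AlgSpMor

variable {S : Scheme.{u}}

/-- A pullback of a map of spaces along another, with a map of the second legs. -/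
theorem exists_bc_map {X Y T T' : Sp S} (f : X ⟶ Y) (a : T ⟶ Y) (a' : T' ⟶ Y) (h : T ⟶ T')
    (w : h ≫ a' = a) :
    ∃ k : pullback f a ⟶ pullback f a', k ≫ pullback.fst f a' = pullback.fst f a ∧
      IsPullback k (pullback.snd f a) (pullback.snd f a') h := by
  refine ⟨pullback.lift (pullback.fst _ _) (pullback.snd _ _ ≫ h)
    (by rw [Category.assoc, w, pullback.condition]), pullback.lift_fst _ _ _, ?_⟩
  refine IsPullback.of_right (h₁₂ := pullback.fst f a') (h₂₂ := a') ?_ (pullback.lift_snd _ _ _)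
    (IsPullback.of_hasPullback f a')
  rw [pullback.lift_fst, w]
  exact IsPullback.of_hasPullback f a

/-- A space with an affine morphism to an affine scheme is an affine scheme. -/
theorem exists_iso_of_isAffineMor {X : Sp S} {W : Over S} [IsAffine W.left]
    {f : X ⟶ (yon S).obj W} (hf : IsAffineMor f) :
    ∃ (T : Over S), IsAffine T.left ∧ Nonempty ((yon S).obj T ≅ X) := by
  obtain ⟨T, t, a, sq, hT⟩ := hf ‹IsAffine W.left› (𝟙 _)
  haveI : IsIso a := sq.isIso_fst_of_isIso
  exact ⟨T, hT, ⟨asIso a⟩⟩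

/-- Affineness from an affine chart. -/
theorem isAffineMor_of_chart {X Y P : Sp S} {f : X ⟶ Y} (hY : AlgSp.Representable (Limits.diag Y))
    {W : Over S} [IsAffine W.left] {w : (yon S).obj W ⟶ Y} (hwe : RepWith @Etale w)
    (hws : RepWith @Surjective w) {fst : P ⟶ X} {snd : P ⟶ (yon S).obj W}
    (sq : IsPullback fst snd f w) {T : Over S} [IsAffine T.left] (e : (yon S).obj T ≅ P) :
    IsAffineMor f := by
  obtain ⟨b, hb⟩ := (yon S).map_surjective (e.hom ≫ snd)
  haveI := AffineDescent.isLocalAtTarget_isAffineHom.{u}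
  refine AffineDescent.isAffineMor_iff.2 (RepDescent.repWith_of_cover _
    RepDescent.effective_isAffineHom hY hwe hws (fst := e.hom ≫ fst) (snd := (yon S).map b) ?_
    ((AlgSp.repWith_yon_map_iff _ _).2 (isAffineHom_of_isAffine b.left)))
  rw [hb]
  exact sq.of_iso e.symm (Iso.refl _) (Iso.refl _) (Iso.refl _) (by simp) (by simp) (by simp)
    (by simp)

/-- An affine morphism from a limit is affine at some stage. -/
theorem eventually_isAffineMor_of_limit [QuasiSeparatedSpace ↥S] {I : Type u} [SmallCategory I]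
    [IsCofiltered I] {Y : Sp S} (hY : IsAlgSpace Y) {D : I ⥤ Sp S}
    (hD : ∀ i, IsAlgSpace (D.obj i)) (t : D ⟶ (Functor.const I).obj Y)
    (hDa : ∀ (i j : I) (φ : i ⟶ j), IsAffineMor (D.map φ)) {c : Cone D} (hc : IsLimit c)
    (g : c.pt ⟶ Y) (hg : ∀ i, c.π.app i ≫ t.app i = g) (hqc : ∀ i, IsQuasiCompactSp (D.obj i))
    (hqs : ∀ i, IsQuasiSeparatedSp (D.obj i)) (hYc : IsQuasiCompactSp Y)
    (hYs : IsQuasiSeparatedSp Y) (hX : IsAffineMor g) :
    ∃ i₀ : I, ∀ (i : I) (_ : i ⟶ i₀), IsAffineMor (t.app i) := by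
  let f : ∀ i, D.obj i ⟶ Y := fun i ↦ t.app i
  have hf : ∀ {i j} (φ : i ⟶ j), D.map φ ≫ f j = f i := fun φ ↦
    (t.naturality φ).trans (Category.comp_id _)
  haveI := QC.compactSpace_points hYc
  obtain ⟨W, w, hW, hwe, hws⟩ := QC.exists_affine_atlas hY
  haveI : IsAffine W.left := hW
  choose m hm hsq using fun (i j : I) (φ : i ⟶ j) ↦ exists_bc_map w (f i) (f j) (D.map φ) (hf φ)
  let P : I ⥤ Sp S :=
    { obj := fun i ↦ pullback w (f i)
      map := fun {i j} φ ↦ m i j φ
      map_id := fun i ↦ by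
        apply pullback.hom_ext
        · rw [hm, Category.id_comp]
        · rw [(hsq _ _ _).w, D.map_id, Category.id_comp, Category.comp_id]
      map_comp := fun φ ψ ↦ by
        apply pullback.hom_ext
        · rw [hm, Category.assoc, hm, hm]
        · rw [(hsq _ _ _).w, Category.assoc, (hsq _ _ _).w, reassoc_of% (hsq _ _ _).w, D.map_comp] }
  choose π' hπ' hsq' using fun i ↦ exists_bc_map w g (f i) (c.π.app i) (hg i)
  let cP : Cone P :=
    { pt := pullback w g
      π :=
        { app := π'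
          naturality := fun i j φ ↦ by
            refine (Category.id_comp _).trans ?_
            apply pullback.hom_ext
            · rw [hπ', Category.assoc, hm, hπ']
            · rw [(hsq' _).w, Category.assoc, (hsq _ _ _).w, reassoc_of% (hsq' _).w, c.w] } }
  let β : P ⟶ D :=
    { app := fun i ↦ pullback.snd w (f i)
      naturality := fun i j φ ↦ (hsq _ _ φ).w }
  haveI : IsConnected I := IsCofiltered.isConnected I
  have hcP : IsLimit cP := isLimitOfIsPullbackOfIsConnected β cP c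
    { hom := pullback.snd w g, w := fun i ↦ (hsq' i).w.symm } hsq' hc
  have hP : ∀ i, IsAlgSpace (P.obj i) ∧ IsQuasiCompactSp (P.obj i) ∧ IsQuasiSeparatedSp (P.obj i) :=
    fun i ↦ qcqs_of_isPullback (hD i) hY (hqc i) (hqs i) hYs (IsPullback.of_hasPullback w (f i)).flip
  obtain ⟨T, hT, ⟨eT⟩⟩ := exists_iso_of_isAffineMor
    (Perm.isAffineMor_baseChange (IsPullback.of_hasPullback w g).flip hX)
  haveI := hT
  obtain ⟨i, T', hT', ⟨e'⟩⟩ := exists_affine_stage (fun i ↦ (hP i).1)
    (fun i j φ ↦ Perm.isAffineMor_baseChange (hsq i j φ).flip (hDa i j φ)) hcP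
    (fun i ↦ (hP i).2.1) (fun i ↦ (hP i).2.2) eT
  haveI := hT'
  refine ⟨i, fun j φ ↦ ?_⟩
  show IsAffineMor (f j)
  rw [← hf φ]
  exact Perm.isAffineMor_comp (hDa _ _ φ)
    (isAffineMor_of_chart hY.diag hwe hws (IsPullback.of_hasPullback w (f i)).flip e')

/-- Affine morphisms descend along limits. -/
theorem eventually_isAffineMor [QuasiSeparatedSpace ↥S] {I : Type u} [SmallCategory I]
    [IsCofiltered I] {D : I ⥤ Sp S} {i₀ : I} {X₀ Y₀ : Sp S} {f₀ : X₀ ⟶ Y₀} {b₀ : Y₀ ⟶ D.obj i₀}
    (σ : Setup D i₀ f₀ b₀) (hf : IsAffineMor σ.f) : Eventually D f₀ b₀ IsAffineMor := by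
  haveI := QC.compactSpace_points σ.hYc
  obtain ⟨W, w, hW, hwe, hws⟩ := QC.exists_affine_atlas σ.hY₀
  obtain ⟨E, e, r, α, π, hr, ⟨hlim⟩, hA, hea, sqE, hα₀, sqπ⟩ :=
    exists_system σ.hDa σ.hc i₀ hW (w ≫ b₀)
  haveI := hr
  let j₀ := CategoryTheory.Over.mk (𝟙 i₀)
  let τ : ∀ j : CategoryTheory.Over i₀, j ⟶ j₀ := fun j ↦
    CategoryTheory.Over.homMk j.hom (Category.comp_id _)
  let q : ∀ j, (yon S).obj (E.obj j) ⟶ Y₀ := fun j ↦ (yon S).map (E.map (τ j) ≫ r) ≫ w
  have hq : ∀ {j k} (φ : j ⟶ k), (yon S).map (E.map φ) ≫ q k = q j := fun {j k} φ ↦ by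
    simp only [q]
    rw [← Category.assoc, ← Functor.map_comp, ← Category.assoc, ← E.map_comp, show φ ≫ τ k = τ j from CategoryTheory.Over.OverMorphism.ext (CategoryTheory.Over.w φ)]
  let qI := (yon S).map (e.π.app j₀ ≫ r) ≫ w
  have hqI : ∀ j, (yon S).map (e.π.app j) ≫ q j = qI := fun j ↦ by
    simp only [q, qI]
    rw [← Category.assoc, ← Functor.map_comp, ← Category.assoc, e.w]
  choose m hm hsq using fun (j k : CategoryTheory.Over i₀) (φ : j ⟶ k) ↦
    exists_bc_map f₀ (q j) (q k) ((yon S).map (E.map φ)) (hq φ)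
  let P : CategoryTheory.Over i₀ ⥤ Sp S :=
    { obj := fun j ↦ pullback f₀ (q j)
      map := fun {j k} φ ↦ m j k φ
      map_id := fun j ↦ by
        apply pullback.hom_ext
        · rw [hm, Category.id_comp]
        · rw [(hsq _ _ _).w, E.map_id, CategoryTheory.Functor.map_id, Category.id_comp, Category.comp_id]
      map_comp := fun φ ψ ↦ by
        apply pullback.hom_ext
        · rw [hm, Category.assoc, hm, hm]
        · rw [(hsq _ _ _).w, Category.assoc, (hsq _ _ _).w, reassoc_of% (hsq _ _ _).w, E.map_comp,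
            Functor.map_comp] }
  choose π' hπ' hsq' using fun j ↦
    exists_bc_map f₀ qI (q j) ((yon S).map (e.π.app j)) (hqI j)
  let cP : Cone P :=
    { pt := pullback f₀ qI
      π :=
        { app := π'
          naturality := fun j k φ ↦ by
            refine (Category.id_comp _).trans ?_
            apply pullback.hom_ext
            · rw [hπ', Category.assoc, hm, hπ']
            · rw [(hsq' _).w, Category.assoc, (hsq _ _ _).w, reassoc_of% (hsq' _).w,
                ← Functor.map_comp, e.w] } }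
  let β : P ⟶ E ⋙ yon S :=
    { app := fun j ↦ pullback.snd f₀ (q j)
      naturality := fun j k φ ↦ (hsq _ _ φ).w }
  haveI : IsConnected (CategoryTheory.Over i₀) := IsCofiltered.isConnected _
  haveI := preservesLimit_yon E
  have he : IsLimit e := isLimitOfReflects (CategoryTheory.Over.forget S) hlim
  have hcP : IsLimit cP := isLimitOfIsPullbackOfIsConnected β cP ((yon S).mapCone e)
    { hom := pullback.snd f₀ qI, w := fun j ↦ (hsq' j).w.symm } hsq' (isLimitOfPreserves (yon S) he)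
  have hP : ∀ j, IsAlgSpace (P.obj j) ∧ IsQuasiCompactSp (P.obj j) ∧ IsQuasiSeparatedSp (P.obj j) :=
    fun j ↦ by
      haveI := hA j
      exact qcqs_of_isPullback σ.hX₀ σ.hY₀ σ.hXc σ.hXs σ.hYs (IsPullback.of_hasPullback f₀ (q j))
  -- the limit is affine
  have hα₀' : (yon S).map r ≫ w ≫ b₀ = α j₀ := hα₀.symm
  let l := σ.hY.lift qI π (by
    simp only [qI, Category.assoc, Functor.map_comp]
    rw [hα₀']
    exact (sqπ j₀).w)
  have hl : l ≫ σ.pY = qI := σ.hY.lift_fst _ _ _
  have sqA := (IsPullback.of_hasPullback σ.f l).paste_horiz σ.hX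
  rw [hl] at sqA
  haveI : IsAffine e.pt.left := hea
  obtain ⟨T, hT, ⟨eT⟩⟩ := exists_iso_of_isAffineMor (W := e.pt)
    (Perm.isAffineMor_baseChange (IsPullback.of_hasPullback σ.f l) hf)
  haveI := hT
  let eI : pullback σ.f l ≅ cP.pt := sqA.isoIsPullback _ _ (IsPullback.of_hasPullback f₀ qI)
  obtain ⟨j, T', hT', ⟨e'⟩⟩ := exists_affine_stage (fun j ↦ (hP j).1)
    (fun j k φ ↦ Perm.isAffineMor_baseChange (hsq j k φ).flip (AffineDescent.isAffineMor_iff.2
      ((AlgSp.repWith_yon_map_iff _ _).2 (by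
        haveI := hA j; haveI := hA k; exact isAffineHom_of_isAffine _)))) hcP
    (fun j ↦ (hP j).2.1) (fun j ↦ (hP j).2.2) (eT ≪≫ eI)
  haveI := hT'
  refine ⟨j.left, j.hom, fun Xi Yi fi pYi qYi hYi pXi hXi ↦ ?_⟩
  have hj : α j ≫ D.map j.hom = (yon S).map (E.map (τ j) ≫ r) ≫ w ≫ b₀ := by
    rw [Functor.map_comp, Category.assoc, hα₀']
    exact (sqE (τ j)).w.symm
  have hqb : q j ≫ b₀ = α j ≫ D.map j.hom := by
    rw [hj, Category.assoc]
  let v := hYi.lift (q j) (α j) hqb
  have sqv : IsPullback ((yon S).map (E.map (τ j) ≫ r)) v w pYi := by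
    refine IsPullback.of_bot ?_ (hYi.lift_fst _ _ _).symm hYi
    rw [hYi.lift_snd, Functor.map_comp]
    exact (sqE (τ j)).of_iso (Iso.refl _) (asIso ((yon S).map r)) (Iso.refl _) (Iso.refl _)
      (by simp) (by simp) (by simp [hα₀, j₀]) (by simp [τ])
  haveI := hA j
  let k := hXi.lift (pullback.fst f₀ (q j)) (pullback.snd f₀ (q j) ≫ v)
    (by rw [Category.assoc, hYi.lift_fst]; exact pullback.condition)
  have sqk : IsPullback k (pullback.snd f₀ (q j)) fi v := by
    refine IsPullback.of_right (h₁₂ := pXi) (h₂₂ := pYi) ?_ (hXi.lift_snd _ _ _) hXi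
    rw [hXi.lift_fst, hYi.lift_fst]
    exact IsPullback.of_hasPullback f₀ (q j)
  exact isAffineMor_of_chart (σ.isAlgSpace_stage hYi hXi).2.diag (repWith_baseChange sqv hwe)
    (repWith_baseChange sqv hws) sqk e'

end Groth.Agent.Lib.AlgSpLimit
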