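import Groth.Agent.Lib.AlgSpLimit.Descend
import Groth.Agent.Lib.AlgSpMor.Topo
import Groth.Agent.Lib.Lim.Descend

/-!
# Descent along limits of properties read on etale charts

Etale local properties and surjectivity descend along limits of algebraic spaces when they do for
schemes.
-/

set_option autoImplicit false
set_option linter.style.haveILetI false

universe u

open CategoryTheory CategoryTheory.Limits AlgebraicGeometry

namespace Groth.Agent.Lib.AlgSpLimit

open AlgSp (Sp yon Representable RepWith IsAlgSpace LocP IsSurjectiveMor IsAffineMor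
  IsQuasiCompactSp IsQuasiSeparatedSp)
open Groth.Agent.Lib.AlgSpace Groth.Agent.Lib.AlgSpMor Groth.Agent.Lib.SourceDescent.Scheme
  Groth.Agent.Lib.Lim.Descend

variable {S : Scheme.{u}}

/-- Charts base change. -/
theorem exists_chart_bc {P₀ P' : Sp S} {T₀ T Z₀ : Over S} {p : P₀ ⟶ (yon S).obj T₀} {h : T ⟶ T₀}
    {fst : P' ⟶ P₀} {snd : P' ⟶ (yon S).obj T} (sq : IsPullback fst snd p ((yon S).map h))
    {z : (yon S).obj Z₀ ⟶ P₀} (he : RepWith @Etale z) (hs : RepWith @Surjective z) {g₀ : Z₀ ⟶ T₀}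
    (hg : z ≫ p = (yon S).map g₀) :
    ∃ z' : (yon S).obj (pullback g₀ h) ⟶ P', RepWith @Etale z' ∧ RepWith @Surjective z' ∧
      z' ≫ snd = (yon S).map (pullback.snd g₀ h) := by
  have sqZ := isPullback_yon (IsPullback.of_hasPullback g₀ h)
  let z' := sq.lift ((yon S).map (pullback.fst g₀ h) ≫ z) ((yon S).map (pullback.snd g₀ h))
    (by rw [Category.assoc, hg, sqZ.w])
  have sqz : IsPullback ((yon S).map (pullback.fst g₀ h)) z' z fst := by
    refine IsPullback.of_bot ?_ (sq.lift_fst _ _ _).symm sq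
    rw [sq.lift_snd, hg]
    exact sqZ
  exact ⟨z', repWith_baseChange sqz he, repWith_baseChange sqz hs, sq.lift_snd _ _ _⟩

/-- Scheme theoretic descent for an affine scheme over a system of affine schemes over `S`. -/
theorem exists_stage {P Q : MorphismProperty Scheme.{u}} [P.RespectsIso] (H : Descends P Q)
    {J : Type u} [SmallCategory J] [IsCofiltered J] (E : J ⥤ Over S) (e : Cone E)
    (he : IsLimit ((Over.forget S).mapCone e)) (hA : ∀ j, IsAffine (E.obj j).left) (j₀ : J)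
    {Z₀ : Over S} [CompactSpace ↥Z₀.left] [QuasiSeparatedSpace ↥Z₀.left] (g₀ : Z₀ ⟶ E.obj j₀)
    (hQ : Q g₀.left) (hP : P (pullback.snd g₀ (e.π.app j₀)).left) :
    ∃ (j : J) (φ : j ⟶ j₀), P (pullback.snd g₀ (E.map φ)).left := by
  haveI : ∀ j, IsAffine ((E ⋙ Over.forget S).obj j) := hA
  obtain ⟨j, φ, hj⟩ := H (E ⋙ Over.forget S) ((Over.forget S).mapCone e) he
    (fun i k f ↦ inferInstance) j₀ inferInstance inferInstance g₀.left ‹_› ‹_› hQ
    (pullback.snd g₀ (e.π.app j₀)).left (pullback.fst g₀ (e.π.app j₀)).left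
    ((IsPullback.of_hasPullback g₀ (e.π.app j₀)).map (Over.forget S)) hP
  refine ⟨j, φ, ?_⟩
  have sq := (IsPullback.of_hasPullback g₀ (E.map φ)).map (Over.forget S)
  rw [show (pullback.snd g₀ (E.map φ)).left = _ from sq.isoPullback_hom_snd.symm]
  exact (MorphismProperty.cancel_left_of_respectsIso P _ _).2 hj

/-- Etale local properties descend. -/
theorem spDescends_locP {P Q : MorphismProperty Scheme.{u}} (hP : EtaleLocalST P)
    (H : Descends P Q) : SpDescends (S := S) (LocP P) (LocP Q) := by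
  intro J _ _ E e he hA hea j₀ P₀ hP₀ hc hqs p hQp P₁ fst snd sq hPs
  haveI := hP.baseChange
  haveI := QC.compactSpace_points hc
  obtain ⟨Z₀, z, hZ, hze, hzs⟩ := QC.exists_affine_atlas hP₀
  haveI := hZ
  obtain ⟨g₀, hg⟩ := (yon S).map_surjective (z ≫ p)
  obtain ⟨z₁, hz₁, -, w₁⟩ := exists_chart_bc sq hze hzs hg.symm
  obtain ⟨j, φ, hj⟩ := exists_stage H E e he hA j₀ g₀
    (hQp z (𝟙 _) g₀ hze (AlgSp.repWith_id _ _) (by rw [Category.comp_id, hg]))
    (hPs z₁ (𝟙 _) _ hz₁ (AlgSp.repWith_id _ _) (by rw [Category.comp_id, w₁]))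
  refine ⟨j, φ, fun P' fst' snd' sq' ↦ ?_⟩
  obtain ⟨z', hz', hzs', w'⟩ := exists_chart_bc sq' hze hzs hg.symm
  exact LocP.locP_of_chart hP
    (isAlgSpace_of_isPullback sq' (IsAlgSpace.yon_obj _).diag hP₀ (IsAlgSpace.yon_obj _)).diag
    (IsAlgSpace.yon_obj _).diag hz' hzs' (AlgSp.repWith_id _ _) (by rw [Category.comp_id, w']) hj

/-- Surjectivity descends for morphisms locally of finite presentation. -/
theorem spDescends_surjective {Q : MorphismProperty Scheme.{u}} (H : Descends @Surjective Q) :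
    SpDescends (S := S) IsSurjectiveMor (LocP Q) := by
  intro J _ _ E e he hA hea j₀ P₀ hP₀ hc hqs p hQp P₁ fst snd sq hPs
  haveI := QC.compactSpace_points hc
  obtain ⟨Z₀, z, hZ, hze, hzs⟩ := QC.exists_affine_atlas hP₀
  haveI := hZ
  obtain ⟨g₀, hg⟩ := (yon S).map_surjective (z ≫ p)
  obtain ⟨z₁, -, hz₁, w₁⟩ := exists_chart_bc sq hze hzs hg.symm
  obtain ⟨j, φ, hj⟩ := exists_stage H E e he hA j₀ g₀
    (hQp z (𝟙 _) g₀ hze (AlgSp.repWith_id _ _) (by rw [Category.comp_id, hg]))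
    ⟨(Topo.surjective_yon_map_iff _).1 (by
      rw [← w₁]
      intro x
      obtain ⟨y, rfl⟩ := hPs x
      obtain ⟨t, rfl⟩ := surjective_map hz₁ y
      exact ⟨t, AlgSp.Points.map_comp z₁ snd t⟩)⟩
  refine ⟨j, φ, fun P' fst' snd' sq' x ↦ ?_⟩
  obtain ⟨z', -, hzs', w'⟩ := exists_chart_bc sq' hze hzs hg.symm
  obtain ⟨y, hy⟩ := (Topo.surjective_yon_map_iff _).2 hj.surj x
  refine ⟨AlgSp.Points.map z' y, ?_⟩
  rw [← AlgSp.Points.map_comp, w', hy]

theorem chartLocal_locP {P : MorphismProperty Scheme.{u}} (hP : EtaleLocalST P) :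
    ChartLocal (S := S) (LocP P) :=
  fun _ _ _ _ _ _ _ _ hX hY he hs sq h ↦ LocP.locP_of_isPullback_of_cover hP hX hY he hs sq h

theorem chartLocal_surjective : ChartLocal (S := S) IsSurjectiveMor := by
  intro X Y X' f V p fst snd hX hY he hs sq h y
  obtain ⟨v, rfl⟩ := surjective_map hs y
  obtain ⟨x, rfl⟩ := h v
  exact ⟨AlgSp.Points.map fst x, by rw [← AlgSp.Points.map_comp, ← AlgSp.Points.map_comp, sq.w]⟩

end Groth.Agent.Lib.AlgSpLimit
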