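import Groth.Agent.Lib.AlgSpLimit.System
import Groth.Agent.Lib.AlgSpMor.QC
import Groth.Agent.Lib.AlgSpMor.DiagCharts
import Groth.Agent.Lib.AlgSpMor.Perm
import Groth.Agent.Lib.AlgSpMor.LocP

/-!
# Descent of properties of morphisms of algebraic spaces along limits: the reduction

`SpDescends P Q` is descent of `P` for an algebraic space over a system of affine schemes;
`descend` reduces the general statement to it for a property local on etale charts of the target.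
-/

set_option autoImplicit false
set_option linter.style.haveILetI false

universe u

open CategoryTheory CategoryTheory.Limits AlgebraicGeometry

namespace Groth.Agent.Lib.AlgSpLimit

open AlgSp (Sp yon Representable RepWith IsAlgSpace IsAffineMor IsQuasiCompactSp IsQuasiSeparatedSp)
open Groth.Agent.Lib.AlgSpace Groth.Agent.Lib.AlgSpMor

variable {S : Scheme.{u}}

/-- `P` descends for algebraic spaces over a cofiltered system of affine schemes. -/
def SpDescends (P Q : MorphismProperty (Sp S)) : Prop :=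
  ∀ {J : Type u} [SmallCategory J] [IsCofiltered J] (E : J ⥤ Over S) (e : Cone E),
    IsLimit ((Over.forget S).mapCone e) → (∀ j, IsAffine (E.obj j).left) → IsAffine e.pt.left →
    ∀ (j₀ : J) (P₀ : Sp S), IsAlgSpace P₀ → IsQuasiCompactSp P₀ → IsQuasiSeparatedSp P₀ →
      ∀ (p : P₀ ⟶ (yon S).obj (E.obj j₀)), Q p →
      ∀ (P₁ : Sp S) (fst : P₁ ⟶ P₀) (snd : P₁ ⟶ (yon S).obj e.pt),
        IsPullback fst snd p ((yon S).map (e.π.app j₀)) → P snd →
        ∃ (j : J) (φ : j ⟶ j₀), ∀ (P' : Sp S) (fst' : P' ⟶ P₀) (snd' : P' ⟶ (yon S).obj (E.obj j)),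
          IsPullback fst' snd' p ((yon S).map (E.map φ)) → P snd'

/-- `P` is local on etale charts of the target. -/
def ChartLocal (P : MorphismProperty (Sp S)) : Prop :=
  ∀ ⦃X Y X' : Sp S⦄ ⦃f : X ⟶ Y⦄ ⦃V : Over S⦄ ⦃p : (yon S).obj V ⟶ Y⦄ ⦃fst : X' ⟶ X⦄
    ⦃snd : X' ⟶ (yon S).obj V⦄, IsAlgSpace X → IsAlgSpace Y → RepWith @Etale p →
    RepWith @Surjective p → IsPullback fst snd f p → P snd → P f

/-- The fibre product of a qcqs space with an affine scheme over a quasi-separated space is qcqs. -/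
theorem qcqs_of_isPullback [QuasiSeparatedSpace ↥S] {X Y Q : Sp S} (hX : IsAlgSpace X)
    (hY : IsAlgSpace Y) (hXc : IsQuasiCompactSp X) (hXs : IsQuasiSeparatedSp X)
    (hYs : IsQuasiSeparatedSp Y) {W : Over S} [IsAffine W.left] {f : X ⟶ Y}
    {a : (yon S).obj W ⟶ Y} {fst : Q ⟶ X} {snd : Q ⟶ (yon S).obj W}
    (sq : IsPullback fst snd f a) :
    IsAlgSpace Q ∧ IsQuasiCompactSp Q ∧ IsQuasiSeparatedSp Q := by
  have hQ : IsAlgSpace Q := isAlgSpace_of_isPullback sq hY.diag hX (IsAlgSpace.yon_obj W)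
  refine ⟨hQ, (QC.isQuasiCompactSp_iff hQ).2 ?_, ?_⟩
  · haveI := QC.compactSpace_points hXc
    obtain ⟨Z, z, hZ, -, hzs⟩ := QC.exists_affine_atlas hX
    haveI := hZ
    obtain ⟨T, t₁, t₂, sqT⟩ := exists_isPullback_yon hY.diag (z ≫ f) a
    haveI : CompactSpace ↥T.left := DiagCharts.compactSpace_of_isQuasiSeparatedSp hYs sqT
    let q := sq.lift ((yon S).map t₁ ≫ z) ((yon S).map t₂) (by rw [Category.assoc, sqT.w])
    have sqq : IsPullback ((yon S).map t₁) q z fst :=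
      IsPullback.of_bot (by rw [sq.lift_snd]; exact sqT) (sq.lift_fst _ _ _).symm sq
    haveI := QC.compactSpace_yon (T := T)
    exact QC.compactSpace_of_surjective (QC.surjective_of_isPullback sqq (surjective_map hzs))
  · have hW : RepWith @QuasiCompact (Limits.diag ((yon S).obj W)) := by
      rw [AlgSp.repWith_diag_yon_iff]
      haveI : QuasiSeparated W.hom := inferInstance
      infer_instance
    exact Perm.repWith_diag_of_mor @QuasiCompact fst
      (Sep.repWith_diagonal_baseChange sq.flip (Sep.repWith_diagonal_of_diag _ a hW)) hXs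

/-- The reduction of descent along limits to `SpDescends`. -/
theorem descend [QuasiSeparatedSpace ↥S] {P Q : MorphismProperty (Sp S)} (H : SpDescends P Q)
    (hloc : ChartLocal P)
    (hP : ∀ ⦃X Y X' Y' : Sp S⦄ ⦃f : X ⟶ Y⦄ ⦃g : Y' ⟶ Y⦄ ⦃fst : X' ⟶ X⦄ ⦃snd : X' ⟶ Y'⦄,
      IsAlgSpace X → IsAlgSpace Y → IsAlgSpace Y' → IsPullback fst snd f g → P f → P snd)
    (hQ : ∀ ⦃X Y X' Y' : Sp S⦄ ⦃f : X ⟶ Y⦄ ⦃g : Y' ⟶ Y⦄ ⦃fst : X' ⟶ X⦄ ⦃snd : X' ⟶ Y'⦄,
      IsAlgSpace X → IsAlgSpace Y → IsAlgSpace Y' → IsPullback fst snd f g → Q f → Q snd)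
    {I : Type u} [SmallCategory I] [IsCofiltered I] (D : I ⥤ Sp S) (hD : ∀ i, IsAlgSpace (D.obj i))
    (hDa : ∀ (i j : I) (φ : i ⟶ j), IsAffineMor (D.map φ)) (c : Cone D) (hc : IsLimit c) (i₀ : I)
    (X₀ Y₀ : AlgSp.Space S) (f₀ : X₀.obj ⟶ Y₀.obj) (b₀ : Y₀.obj ⟶ D.obj i₀)
    (hXqc : IsQuasiCompactSp X₀.obj) (hXqs : IsQuasiSeparatedSp X₀.obj)
    (hYqc : IsQuasiCompactSp Y₀.obj) (hYqs : IsQuasiSeparatedSp Y₀.obj)
    (X Y : Sp S) (f : X ⟶ Y) (pY : Y ⟶ Y₀.obj) (qY : Y ⟶ c.pt)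
    (hY : IsPullback pY qY b₀ (c.π.app i₀)) (pX : X ⟶ X₀.obj) (hX : IsPullback pX f f₀ pY)
    (hQ₀ : Q f₀) (hf : IsAlgSpace Y → P f) :
    ∃ (i : I) (φ : i ⟶ i₀), ∀ (Xi Yi : Sp S) (fi : Xi ⟶ Yi) (pYi : Yi ⟶ Y₀.obj)
      (qYi : Yi ⟶ D.obj i) (_ : IsPullback pYi qYi b₀ (D.map φ)) (pXi : Xi ⟶ X₀.obj)
      (_ : IsPullback pXi fi f₀ pYi), P fi := by
  haveI := QC.compactSpace_points hYqc
  obtain ⟨W₀, a, hW₀, he, hs⟩ := QC.exists_affine_atlas Y₀.property
  obtain ⟨E, e, r, α, π, hr, ⟨hlim⟩, hA, hea, sqE, hα₀, sqπ⟩ :=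
    exists_system hDa hc i₀ hW₀ (a ≫ b₀)
  let j₀ := CategoryTheory.Over.mk (𝟙 i₀)
  haveI := hr
  haveI : IsAffine (E.obj j₀).left := hA _
  let a₀ : (yon S).obj (E.obj j₀) ⟶ Y₀.obj := (yon S).map r ≫ a
  have he₀ : RepWith @Etale a₀ :=
    (repWith_iso_comp_iff _ ((yon S).map r) a).2 he
  have hs₀ : RepWith @Surjective a₀ :=
    (repWith_iso_comp_iff _ ((yon S).map r) a).2 hs
  have hα₀' : α j₀ = a₀ ≫ b₀ := by rw [hα₀, Category.assoc]
  have sqY : IsPullback ((yon S).map (e.π.app j₀)) π (a₀ ≫ b₀) (c.π.app i₀) := hα₀' ▸ sqπ j₀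
  have hc' : IsAlgSpace Y :=
    isAlgSpace_of_representable (representable_baseChange hY.flip (representable_π hDa hc i₀))
      Y₀.property
  obtain ⟨hP₀, hP₀c, hP₀s⟩ := qcqs_of_isPullback X₀.property Y₀.property hXqc hXqs hYqs
    (IsPullback.of_hasPullback f₀ a₀)
  let t := hY.lift ((yon S).map (e.π.app j₀) ≫ a₀) π (by rw [Category.assoc]; exact sqY.w)
  have sqt : IsPullback ((yon S).map (e.π.app j₀)) t a₀ pY :=
    IsPullback.of_bot (by rw [hY.lift_snd]; exact sqY) (hY.lift_fst _ _ _).symm hY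
  have sq₁ := IsPullback.of_hasPullback f t
  let u := (IsPullback.of_hasPullback f₀ a₀).lift (pullback.fst f t ≫ pX)
    (pullback.snd f t ≫ (yon S).map (e.π.app j₀))
    (by rw [Category.assoc, hX.w, pullback.condition_assoc, Category.assoc, sqt.w])
  have squ : IsPullback u (pullback.snd f t) (pullback.snd f₀ a₀) ((yon S).map (e.π.app j₀)) := by
    refine IsPullback.of_right (h₁₂ := pullback.fst f₀ a₀) (h₂₂ := a₀) ?_ (IsPullback.lift_snd _ _ _ _)
      (IsPullback.of_hasPullback f₀ a₀)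
    rw [IsPullback.lift_fst, sqt.w]
    exact sq₁.paste_horiz hX
  have hX' : IsAlgSpace X := isAlgSpace_of_isPullback hX Y₀.property.diag X₀.property hc'
  obtain ⟨j, φ, hj⟩ := H E e hlim hA hea j₀ _ hP₀ hP₀c hP₀s (pullback.snd f₀ a₀)
    (hQ X₀.property Y₀.property (IsAlgSpace.yon_obj _) (IsPullback.of_hasPullback f₀ a₀) hQ₀) _ u
    (pullback.snd f t) squ (hP hX' hc' (IsAlgSpace.yon_obj _) sq₁ (hf hc'))
  refine ⟨j.left, j.hom, fun Xi Yi fi pYi qYi hYi pXi hXi ↦ ?_⟩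
  have hφ : φ.left = j.hom := (Category.comp_id _).symm.trans (CategoryTheory.Over.w φ)
  have sqj : IsPullback ((yon S).map (E.map φ)) (α j) (a₀ ≫ b₀) (D.map j.hom) := by
    rw [← hα₀', ← hφ]
    exact sqE φ
  let β := hYi.lift ((yon S).map (E.map φ) ≫ a₀) (α j) (by rw [Category.assoc]; exact sqj.w)
  have sqβ : IsPullback ((yon S).map (E.map φ)) β a₀ pYi :=
    IsPullback.of_bot (by rw [hYi.lift_snd]; exact sqj) (hYi.lift_fst _ _ _).symm hYi
  have hYi' : IsAlgSpace Yi := by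
    exact isAlgSpace_of_isPullback hYi (hD i₀).diag Y₀.property (hD _)
  have hXi' : IsAlgSpace Xi := isAlgSpace_of_isPullback hXi Y₀.property.diag X₀.property hYi'
  have sq₂ := IsPullback.of_hasPullback fi β
  let v := (IsPullback.of_hasPullback f₀ a₀).lift (pullback.fst fi β ≫ pXi)
    (pullback.snd fi β ≫ (yon S).map (E.map φ))
    (by rw [Category.assoc, hXi.w, pullback.condition_assoc, Category.assoc, sqβ.w])
  refine hloc hXi' hYi' (repWith_baseChange sqβ he₀) (repWith_baseChange sqβ hs₀) sq₂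
    (hj _ v _ ?_)
  refine IsPullback.of_right (h₁₂ := pullback.fst f₀ a₀) (h₂₂ := a₀) ?_ (IsPullback.lift_snd _ _ _ _)
    (IsPullback.of_hasPullback f₀ a₀)
  rw [IsPullback.lift_fst, sqβ.w]
  exact sq₂.paste_horiz hXi

end Groth.Agent.Lib.AlgSpLimit
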