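import Groth.Agent.Lib.Lim.Existence
import Mathlib.RingTheory.Smooth.NoetherianDescent
import Mathlib.AlgebraicGeometry.Morphisms.Etale
import Mathlib.AlgebraicGeometry.Morphisms.FinitePresentation
import Mathlib.AlgebraicGeometry.Morphisms.Affine

/-!
# An etale morphism of affine schemes comes from one between schemes of finite presentation
-/

set_option autoImplicit false
set_option linter.style.haveILetI false

universe u

open CategoryTheory CategoryTheory.Limits AlgebraicGeometry
open scoped TensorProduct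

namespace Groth.Agent.Lib.AlgSpLimit

variable {S : Scheme.{u}}

/-- An etale morphism of affine schemes over `S` is the base change of an etale morphism of schemes
affine and of finite presentation over `S`. -/
theorem exists_etale_model {T U : Over S} [IsAffine T.left] [IsAffine U.left] (h : U ⟶ T)
    [Etale h.left] :
    ∃ (Z V : Over S) (v : V ⟶ Z) (z : T ⟶ Z) (u : U ⟶ V),
      LocallyOfFinitePresentation Z.hom ∧ IsAffineHom Z.hom ∧ Etale v.left ∧ IsAffineHom v.left ∧
        IsPullback u.left h.left v.left z.left := by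
  algebraize [h.left.appTop.hom]
  haveI : Algebra.Etale Γ(T.left, ⊤) Γ(U.left, ⊤) :=
    RingHom.etale_algebraMap.mp ((HasRingHomProperty.iff_of_isAffine (P := @Etale)).mp
      (inferInstanceAs (Etale h.left)))
  obtain ⟨A₀, B₀, _, _, hfg, het, ⟨eB⟩⟩ :=
    Algebra.Etale.exists_subalgebra_fg ℤ Γ(T.left, ⊤) Γ(U.left, ⊤)
  let φ : ULift.{u} ℤ →+* A₀ := (algebraMap ℤ A₀).comp ULift.ringEquiv.toRingHom
  have hφ : φ.FinitePresentation := by
    haveI : IsNoetherianRing (ULift.{u} ℤ) :=
      isNoetherianRing_of_ringEquiv ℤ ULift.ringEquiv.symm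
    haveI : Algebra.FiniteType ℤ A₀ := (Subalgebra.fg_iff_finiteType A₀).mp hfg
    exact RingHom.FinitePresentation.of_finiteType.mp
      ((RingHom.finiteType_algebraMap.mpr ‹_›).comp
        (RingHom.FiniteType.of_surjective _ ULift.ringEquiv.surjective))
  let q : Spec (.of A₀) ⟶ Spec (.of (ULift.{u} ℤ)) := Spec.map (CommRingCat.ofHom φ)
  let σ : S ⟶ Spec (.of (ULift.{u} ℤ)) := specULiftZIsTerminal.from S
  haveI : LocallyOfFinitePresentation q :=
    (HasRingHomProperty.Spec_iff (P := @LocallyOfFinitePresentation)).mpr hφ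
  let a : Spec Γ(T.left, ⊤) ⟶ Spec (.of A₀) :=
    Spec.map (CommRingCat.ofHom (algebraMap A₀ Γ(T.left, ⊤)))
  let b : Spec (.of B₀) ⟶ Spec (.of A₀) := Spec.map (CommRingCat.ofHom (algebraMap A₀ B₀))
  haveI : Etale b :=
    (HasRingHomProperty.Spec_iff (P := @Etale)).mpr (RingHom.etale_algebraMap.mpr het)
  let Z : Over S := Over.mk (pullback.fst σ q)
  let V : Over S := Over.mk (pullback.fst (pullback.snd σ q) b ≫ pullback.fst σ q)
  let v : V ⟶ Z := Over.homMk (pullback.fst (pullback.snd σ q) b) rfl
  let z : T ⟶ Z := Over.homMk (pullback.lift T.hom (T.left.isoSpec.hom ≫ a)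
    (specULiftZIsTerminal.hom_ext _ _)) (pullback.lift_fst _ _ _)
  let e : U.left ≅ pullback a b :=
    U.left.isoSpec ≪≫ Scheme.Spec.mapIso (eB.symm.toRingEquiv.toCommRingCatIso).op ≪≫
      (pullbackSpecIso A₀ Γ(T.left, ⊤) B₀).symm
  have he : e.hom ≫ pullback.fst a b = h.left ≫ T.left.isoSpec.hom := by
    simp only [e, Iso.trans_hom, Iso.symm_hom, Category.assoc, a, b]
    erw [pullbackSpecIso_inv_fst]
    simp only [Functor.mapIso_hom, Iso.op_hom, Scheme.Spec_map, Quiver.Hom.unop_op,
      ← Spec.map_comp]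
    refine Eq.trans ?_ (Scheme.isoSpec_hom_naturality h.left)
    refine congrArg (U.left.isoSpec.hom ≫ ·) (congrArg Spec.map ?_)
    ext x
    exact eB.symm.commutes x
  have sqS : IsPullback (e.hom ≫ pullback.snd a b) h.left b (T.left.isoSpec.hom ≫ a) :=
    (IsPullback.of_hasPullback a b).flip.of_iso e.symm (Iso.refl _) T.left.isoSpec.symm (Iso.refl _)
      (by simp) (by
        show pullback.fst a b ≫ T.left.isoSpec.inv = e.inv ≫ h.left
        rw [Iso.eq_inv_comp, ← Category.assoc, he, Category.assoc, Iso.hom_inv_id,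
          Category.comp_id]) (by simp) (by simp)
  have hz : z.left ≫ pullback.snd σ q = T.left.isoSpec.hom ≫ a := pullback.lift_snd _ _ _
  let uL : U.left ⟶ pullback (pullback.snd σ q) b :=
    pullback.lift (h.left ≫ z.left) (e.hom ≫ pullback.snd a b)
      (by rw [Category.assoc, hz]; exact sqS.w.symm)
  let u : U ⟶ V := Over.homMk uL (by
    show uL ≫ pullback.fst (pullback.snd σ q) b ≫ pullback.fst σ q = U.hom
    rw [pullback.lift_fst_assoc, Category.assoc]
    show h.left ≫ z.left ≫ Z.hom = U.hom
    rw [Over.w z, Over.w h])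
  refine ⟨Z, V, v, z, u, ?_, ?_, ?_, ?_, ?_⟩
  · exact MorphismProperty.pullback_fst (P := @LocallyOfFinitePresentation) _ _ ‹_›
  · exact MorphismProperty.pullback_fst (P := @IsAffineHom) _ _ inferInstance
  · exact MorphismProperty.pullback_fst (P := @Etale) _ _ ‹_›
  · exact MorphismProperty.pullback_fst (P := @IsAffineHom) _ _ inferInstance
  · show IsPullback uL h.left (pullback.fst (pullback.snd σ q) b) z.left
    refine IsPullback.of_right (h₁₂ := pullback.snd (pullback.snd σ q) b)
      (h₂₂ := pullback.snd σ q) ?_ (pullback.lift_fst _ _ _)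
      (IsPullback.of_hasPullback _ _).flip
    rw [pullback.lift_snd, hz]
    exact sqS

end Groth.Agent.Lib.AlgSpLimit
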