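import Groth.Agent.Lib.AlgSpLimit.AffineMor
import Mathlib.Algebra.Category.Ring.FilteredColimits
import Mathlib.FieldTheory.IsAlgClosed.AlgebraicClosure

/-!
# An algebraic space which becomes affine over an algebraic closure is affine
-/

set_option autoImplicit false
set_option linter.style.haveILetI false

universe u

open CategoryTheory CategoryTheory.Limits AlgebraicGeometry Opposite

namespace Groth.Agent.Lib.AlgSpLimit

open AlgSp (Sp yon RepWith IsAlgSpace IsAffineMor IsQuasiCompactSp IsQuasiSeparatedSp)
open Groth.Agent.Lib.AlgSpace Groth.Agent.Lib.AlgSpMor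

/-- The finite subextensions. -/
abbrev FinSub (k K : Type u) [Field k] [Field K] [Algebra k K] : Type u :=
  {L : IntermediateField k K // FiniteDimensional k L}

instance isDirectedOrder_finSub (k K : Type u) [Field k] [Field K] [Algebra k K] :
    IsDirectedOrder (FinSub k K) :=
  ⟨fun a b ↦ by
    haveI := a.2
    haveI := b.2
    exact ⟨⟨a.1 ⊔ b.1, inferInstance⟩, Subtype.coe_le_coe.1 le_sup_left,
      Subtype.coe_le_coe.1 le_sup_right⟩⟩

instance nonempty_finSub (k K : Type u) [Field k] [Field K] [Algebra k K] :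
    Nonempty (FinSub k K) :=
  ⟨⟨⊥, inferInstance⟩⟩

variable (k K : Type u) [Field k] [Field K] [Algebra k K]

/-- The system of finite subextensions. -/
def subFunctor : FinSub k K ⥤ CommRingCat.{u} where
  obj L := CommRingCat.of L.1
  map f := CommRingCat.ofHom (IntermediateField.inclusion (Subtype.coe_le_coe.2 f.le)).toRingHom
  map_id _ := by ext x; rfl
  map_comp _ _ := by ext x; rfl

/-- The field is the union of its finite subextensions. -/
def subCocone : Cocone (subFunctor k K) where
  pt := CommRingCat.of K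
  ι := { app := fun L ↦ CommRingCat.ofHom (IntermediateField.val L.1).toRingHom
         naturality := fun _ _ _ ↦ by ext x; rfl }

/-- The union of the finite subextensions is a colimit. -/
theorem nonempty_isColimit_subCocone [Algebra.IsAlgebraic k K] :
    Nonempty (IsColimit (subCocone k K)) := by
  haveI : IsFiltered (FinSub k K) := isFiltered_of_directed_le_nonempty (FinSub k K)
  haveI : HasColimit (subFunctor k K) := inferInstance
  haveI : ReflectsColimit (subFunctor k K) (forget CommRingCat.{u}) :=
    reflectsColimit_of_reflectsIsomorphisms _ _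
  refine ⟨isColimitOfReflects (forget CommRingCat.{u})
    (Types.FilteredColimit.isColimitOf _ _ (fun x ↦ ?_) fun i j xi xj h ↦ ?_)⟩
  · let x' : K := x
    haveI : FiniteDimensional k (IntermediateField.adjoin k {x'}) :=
      IntermediateField.adjoin.finiteDimensional (Algebra.IsIntegral.isIntegral x')
    exact ⟨⟨IntermediateField.adjoin k {x'}, inferInstance⟩,
      ⟨x', IntermediateField.mem_adjoin_simple_self k x'⟩, rfl⟩
  · obtain ⟨m, him, hjm⟩ := exists_ge_ge i j
    exact ⟨m, homOfLE him, homOfLE hjm, Subtype.ext h⟩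

variable {k K}

/-- An algebraic space which becomes an affine scheme over an algebraic extension is affine. -/
theorem exists_affine_of_field_ext [Algebra.IsAlgebraic k K]
    (X : Sp (Spec (CommRingCat.of k))) (hX : IsAlgSpace X) (hqs : IsQuasiSeparatedSp X)
    (T : Over (Spec (CommRingCat.of k))) [IsAffine T.left]
    (e : X ⨯ (yon (Spec (CommRingCat.of k))).obj
        (Over.mk (Spec.map (CommRingCat.ofHom (algebraMap k K)))) ≅
      (yon (Spec (CommRingCat.of k))).obj T) :
    ∃ (U : Over (Spec (CommRingCat.of k))), IsAffine U.left ∧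
      Nonempty (X ≅ (yon (Spec (CommRingCat.of k))).obj U) := by
  haveI : IsFiltered (FinSub k K) := isFiltered_of_directed_le_nonempty (FinSub k K)
  let B : Scheme.{u} := Spec (CommRingCat.of k)
  haveI : IsConnected (FinSub k K)ᵒᵖ := IsCofiltered.isConnected _
  let E : (FinSub k K)ᵒᵖ ⥤ Over B :=
    { obj := fun L ↦ Over.mk (Spec.map (CommRingCat.ofHom (algebraMap k L.unop.1)))
      map := fun {L M} f ↦ Over.homMk (Spec.map ((subFunctor k K).map f.unop)) (by
        dsimp only [Over.mk_hom]
        rw [← Spec.map_comp]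
        rfl)
      map_id := fun L ↦ Over.OverMorphism.ext (by
        show Spec.map ((subFunctor k K).map (𝟙 L.unop)) = 𝟙 _
        rw [CategoryTheory.Functor.map_id, Spec.map_id])
      map_comp := fun f g ↦ Over.OverMorphism.ext (by
        show Spec.map ((subFunctor k K).map (g.unop ≫ f.unop)) = _
        rw [CategoryTheory.Functor.map_comp, Spec.map_comp]; rfl) }
  let W : Over B := Over.mk (Spec.map (CommRingCat.ofHom (algebraMap k K)))
  let eW : Cone E :=
    { pt := W
      π :=
        { app := fun L ↦ Over.homMk (Spec.map ((subCocone k K).ι.app L.unop)) (by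
            show _ ≫ Spec.map _ = Spec.map _
            rw [← Spec.map_comp]
            rfl)
          naturality := fun L M f ↦ Over.OverMorphism.ext (by
            show 𝟙 _ ≫ Spec.map _ = Spec.map _ ≫ Spec.map _
            rw [Category.id_comp, ← Spec.map_comp]
            exact congrArg Spec.map ((subCocone k K).w f.unop).symm) } }
  have hsch : IsLimit ((Over.forget B).mapCone eW) :=
    isLimitOfPreserves Scheme.Spec (nonempty_isColimit_subCocone k K).some.op
  have he : IsLimit eW := isLimitOfReflects (Over.forget B) hsch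
  haveI := preservesLimit_yon E
  -- the system of base changes of `X`
  let D : (FinSub k K)ᵒᵖ ⥤ Sp B :=
    { obj := fun L ↦ X ⨯ (yon B).obj (E.obj L)
      map := fun f ↦ prod.map (𝟙 X) ((yon B).map (E.map f))
      map_id := fun L ↦ by rw [E.map_id, CategoryTheory.Functor.map_id, prod.map_id_id]
      map_comp := fun f g ↦ by
        rw [E.map_comp, Functor.map_comp, prod.map_map, Category.id_comp] }
  let cD : Cone D :=
    { pt := X ⨯ (yon B).obj W
      π :=
        { app := fun L ↦ prod.map (𝟙 X) ((yon B).map (eW.π.app L))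
          naturality := fun L M f ↦ by
            refine (Category.id_comp _).trans ?_
            show _ = _ ≫ prod.map _ _
            rw [prod.map_map, Category.id_comp, ← Functor.map_comp, eW.w] } }
  let L₀ : (FinSub k K)ᵒᵖ := op ⟨⊥, inferInstance⟩
  have hfst : ∀ (s : Cone D) (L : (FinSub k K)ᵒᵖ),
      s.π.app L ≫ prod.fst = s.π.app L₀ ≫ prod.fst := by
    intro s L
    obtain ⟨M, a, b, -⟩ := IsCofilteredOrEmpty.cone_objs L L₀
    rw [← s.w a, ← s.w b]
    simp [D]
  let sE : Cone D → Cone (E ⋙ yon B) := fun s ↦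
    { pt := s.pt
      π :=
        { app := fun L ↦ s.π.app L ≫ prod.snd
          naturality := fun L M f ↦ by
            refine (Category.id_comp _).trans ?_
            rw [← s.w f]
            simp [D] } }
  let hEy := isLimitOfPreserves (yon B) he
  have hcD : IsLimit cD :=
    { lift := fun s ↦ prod.lift (s.π.app L₀ ≫ prod.fst) (hEy.lift (sE s))
      fac := fun s L ↦ by
        show _ ≫ prod.map _ _ = _
        apply prod.hom_ext
        · rw [Category.assoc, prod.map_fst, Category.comp_id, prod.lift_fst]
          exact (hfst s L).symm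
        · rw [Category.assoc, prod.map_snd, prod.lift_snd_assoc]
          exact hEy.fac (sE s) L
      uniq := fun s m hm ↦ by
        apply prod.hom_ext
        · rw [prod.lift_fst, ← hm L₀]
          simp [cD]
        · rw [prod.lift_snd]
          exact hEy.uniq (sE s) _ fun L ↦ by simp [sE, ← hm L, cD] }
  let b := Over.mk (𝟙 B)
  have hb : IsTerminal ((yon B).obj b) := Over.mkIdTerminal.isTerminalObj (yon B)
  have sqb : ∀ Z : Over B, IsPullback (prod.fst : X ⨯ (yon B).obj Z ⟶ X) prod.snd (hb.from X)
      (hb.from ((yon B).obj Z)) := fun Z ↦ isPullback_of_yon (hb.hom_ext _ _)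
    (fun U p q h1 h2 ↦ prod.hom_ext h1 h2)
    fun U p q _ ↦ ⟨prod.lift p q, prod.lift_fst _ _, prod.lift_snd _ _⟩
  have hD : ∀ L, IsAlgSpace (D.obj L) := fun L ↦
    isAlgSpace_of_isPullback (sqb _) (IsAlgSpace.yon_obj b).diag hX (IsAlgSpace.yon_obj _)
  have hyaff : ∀ {L M : Over B} (g : L ⟶ M), IsAffine L.left → IsAffine M.left →
      IsAffineMor ((yon B).map g) := fun g hL hM ↦
    AffineDescent.isAffineMor_iff.2 ((AlgSp.repWith_yon_map_iff _ _).2 (by
      haveI := hL; haveI := hM; exact isAffineHom_of_isAffine g.left))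
  have hEaff : ∀ L, IsAffine (E.obj L).left := fun L ↦
    inferInstanceAs (IsAffine (Spec (CommRingCat.of L.unop.1)))
  have hDa : ∀ L M (f : L ⟶ M), IsAffineMor (D.map f) := fun L M f ↦ by
    refine Perm.isAffineMor_baseChange (fst := (prod.snd : D.obj L ⟶ _)) (g := (prod.snd : D.obj M ⟶ _))
      ?_ (hyaff (E.map f) (hEaff L) (hEaff M))
    exact isPullback_of_yon (by simp [D])
      (fun U p q h1 h2 ↦ prod.hom_ext (by simpa [D] using congrArg (· ≫ prod.fst) h2) h1)
      fun U p q w ↦ ⟨prod.lift (q ≫ prod.fst) p, prod.lift_snd _ _, prod.hom_ext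
        (by show (_ ≫ prod.map _ _) ≫ _ = _
            rw [Category.assoc, prod.map_fst, Category.comp_id, prod.lift_fst])
        (by show (_ ≫ prod.map _ _) ≫ _ = _
            rw [Category.assoc, prod.map_snd, prod.lift_snd_assoc]; exact w)⟩
  -- quasi-compactness
  haveI : Subsingleton ↥b.left := inferInstanceAs (Subsingleton (PrimeSpectrum k))
  haveI : Nonempty ↥W.left := inferInstanceAs (Nonempty (PrimeSpectrum K))
  have hsurj : RepWith @Surjective (prod.fst : X ⨯ (yon B).obj W ⟶ X) := by
    refine repWith_baseChange (sqb W).flip ?_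
    rw [show hb.from ((yon B).obj W) = (yon B).map (Over.homMk W.hom (Category.comp_id _) : W ⟶ b) from
      hb.hom_ext _ _]
    exact (AlgSp.repWith_yon_map_iff _ _).2
      ⟨fun _ ↦ ⟨Classical.arbitrary _, Subsingleton.elim _ _⟩⟩
  haveI : CompactSpace (AlgSp.Points X) := by
    haveI := QC.compactSpace_yon (T := T)
    haveI : CompactSpace (AlgSp.Points (X ⨯ (yon B).obj W)) := (Topo.homeoOfIso e).symm.compactSpace
    exact QC.compactSpace_of_surjective (surjective_map hsurj)
  have hqc : IsQuasiCompactSp X := (QC.isQuasiCompactSp_iff hX).2 inferInstance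
  have hfaff : ∀ L, IsAffineMor (prod.fst : D.obj L ⟶ X) := fun L ↦ by
    refine Perm.isAffineMor_baseChange (sqb (E.obj L)).flip ?_
    rw [show hb.from ((yon B).obj (E.obj L)) =
      (yon B).map (Over.homMk (E.obj L).hom (Category.comp_id _) : E.obj L ⟶ b) from hb.hom_ext _ _]
    exact hyaff _ (hEaff L) (inferInstanceAs (IsAffine (Spec (CommRingCat.of k))))
  obtain ⟨L, T', hT', ⟨e'⟩⟩ := exists_affine_stage hD hDa hcD
    (fun L ↦ (qcqs_of_affine hX (hfaff L) hqc hqs).2.1)
    (fun L ↦ (qcqs_of_affine hX (hfaff L) hqc hqs).2.2) e.symm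
  haveI := hT'
  haveI := hEaff L
  haveI : FiniteDimensional k L.unop.1 := L.unop.2
  haveI : Nonempty ↥(E.obj L).left := inferInstanceAs (Nonempty (PrimeSpectrum L.unop.1))
  let t : E.obj L ⟶ b := Over.homMk (E.obj L).hom (Category.comp_id _)
  have ht : fppfCover t.left := by
    refine ⟨⟨⟨fun _ ↦ ⟨Classical.arbitrary _, Subsingleton.elim _ _⟩⟩, ?_⟩, ?_⟩
    · exact (HasRingHomProperty.Spec_iff (P := @Flat)).2
        (RingHom.flat_algebraMap_iff.2 inferInstance)
    · exact (HasRingHomProperty.Spec_iff (P := @LocallyOfFinitePresentation)).2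
        (RingHom.finitePresentation_algebraMap.2
          (Algebra.FinitePresentation.of_finiteType.1 inferInstance))
  obtain ⟨g, hg⟩ := (yon B).map_surjective (e'.hom ≫ (prod.snd : D.obj L ⟶ _))
  haveI : IsAffineHom g.left := isAffineHom_of_isAffine _
  have sq : IsPullback (e'.hom ≫ prod.fst) ((yon B).map g) (hb.from X)
      ((yon B).map t ≫ 𝟙 _) := by
    rw [hg, show (yon B).map t ≫ 𝟙 _ = hb.from _ from hb.hom_ext _ _]
    exact (sqb (E.obj L)).of_iso e'.symm (Iso.refl _) (Iso.refl _) (Iso.refl _) (by simp) (by simp)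
      (by simp) (by simp)
  obtain ⟨U, w, fst, l, sqU, sqw⟩ := RepDescent.exists_pullback_of_cover ht sq
    (fun Dd hDd ↦ RepDescent.effective_isAffineHom _ ht Dd (by rw [hDd]; exact ‹IsAffineHom g.left›))
  haveI := AffineDescent.isLocalAtTarget_isAffineHom.{u}
  haveI : IsAffineHom w.left := RepDescent.property_of_cover @IsAffineHom sqw ht ‹_›
  haveI : IsAffine b.left := inferInstanceAs (IsAffine (Spec (CommRingCat.of k)))
  haveI : IsIso fst := sqU.isIso_fst_of_isIso
  exact ⟨U, isAffine_of_isAffineHom w.left, ⟨(asIso fst).symm⟩⟩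

end Groth.Agent.Lib.AlgSpLimit
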