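import Groth.Agent.Lib.AlgSpLimit.ClosedTransitions
import Groth.Agent.Lib.AlgSpLimit.LimQf

/-!
# Limits along finite morphisms, integral over a base
-/

set_option autoImplicit false
set_option linter.style.haveILetI false

universe u

open CategoryTheory CategoryTheory.Limits AlgebraicGeometry

namespace Groth.Agent.Lib.AlgSpLimit

open AlgSp (Sp yon RepWith IsAlgSpace LocP IsAffineMor IsQuasiCompactSp IsQuasiSeparatedSp)
open Groth.Agent.Lib.AlgSpace Groth.Agent.Lib.AlgSpMor Groth.Agent.Lib.SourceDescent.Scheme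

variable {S : Scheme.{u}}

attribute [local instance] containsIdentities_etale

/-- A limit along finite morphisms of representable morphisms, integral over a base, is finite at some stage. -/
theorem eventually_finite_of_rep [QuasiSeparatedSpace ↥S] {I : Type u} [SmallCategory I]
    [IsCofiltered I] {Y : Sp S} (hY : IsAlgSpace Y) {D : I ⥤ Sp S}
    (hD : ∀ i, IsAlgSpace (D.obj i)) (t : D ⟶ (Functor.const I).obj Y)
    (hDf : ∀ (i j : I) (φ : i ⟶ j), RepWith @IsFinite (D.map φ)) {c : Cone D}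
    (hc : IsLimit c) (g : c.pt ⟶ Y) (hg : ∀ i, c.π.app i ≫ t.app i = g)
    (hqc : ∀ i, IsQuasiCompactSp (D.obj i)) (hqs : ∀ i, IsQuasiSeparatedSp (D.obj i))
    (hYc : IsQuasiCompactSp Y) (hYs : IsQuasiSeparatedSp Y)
    (hft : ∀ i, LocP @LocallyOfFiniteType (t.app i)) (hX : RepWith @IsIntegralHom g)
    (hr : ∀ i, RepWith sepLqf (t.app i)) :
    ∃ m : I, RepWith @IsFinite (t.app m) := by
  have k₀ : I := IsCofiltered.nonempty.some
  let f : ∀ i, D.obj i ⟶ Y := fun i ↦ t.app i
  have hf : ∀ {i j} (φ : i ⟶ j), D.map φ ≫ f j = f i := fun φ ↦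
    (t.naturality φ).trans (Category.comp_id _)
  haveI := QC.compactSpace_points hYc
  obtain ⟨W, w, hW, hwe, hws⟩ := QC.exists_affine_atlas hY
  haveI : IsAffine W.left := hW
  let E : I ⥤ Over S :=
    { obj := fun k ↦ (hr k).rep.pullback w
      map := fun {k l} χ ↦ (hr l).rep.lift ((hr k).rep.fst w ≫ D.map χ) ((hr k).rep.snd w)
        (by rw [Category.assoc, hf, (hr k).rep.w])
      map_id := fun k ↦ (hr k).rep.hom_ext (by simp) (by simp)
      map_comp := fun {k l m} χ ψ ↦ (hr m).rep.hom_ext (by simp) (by simp) }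
  have hsnd : ∀ {k l} (χ : k ⟶ l), E.map χ ≫ (hr l).rep.snd w = (hr k).rep.snd w := fun χ ↦
    Functor.relativelyRepresentable.lift_snd _ _ _ _
  have hfst : ∀ {k l} (χ : k ⟶ l), (yon S).map (E.map χ) ≫ (hr l).rep.fst w =
      (hr k).rep.fst w ≫ D.map χ := fun χ ↦
    Functor.relativelyRepresentable.lift_fst _ _ _ _
  have hfinite : ∀ {k l} (χ : k ⟶ l), IsFinite (E.map χ).left := fun {k l} χ ↦ by
    refine (AlgSp.repWith_yon_map_iff _ _).1 (repWith_baseChange (f := D.map χ)
      (g := (hr l).rep.fst w) (fst := (hr k).rep.fst w) ?_ (hDf _ _ χ))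
    refine IsPullback.of_bot ?_ (hfst χ).symm ((hr l).rep.isPullback w)
    rw [← Functor.map_comp, hsnd, hf]
    exact (hr k).rep.isPullback w
  let L := hX.rep.pullback w
  let e : Cone E :=
    { pt := L
      π :=
        { app := fun k ↦ (hr k).rep.lift (hX.rep.fst w ≫ c.π.app k) (hX.rep.snd w) (by
            rw [Category.assoc, show c.π.app k ≫ f k = g from hg _, hX.rep.w])
          naturality := fun k l χ ↦ (hr l).rep.hom_ext (by simp [E, c.w]) (by simp [E]) } }
  have hefst : ∀ k, (yon S).map (e.π.app k) ≫ (hr k).rep.fst w = hX.rep.fst w ≫ c.π.app k :=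
    fun k ↦ Functor.relativelyRepresentable.lift_fst _ _ _ _
  have hesnd : ∀ k, e.π.app k ≫ (hr k).rep.snd w = hX.rep.snd w :=
    fun k ↦ Functor.relativelyRepresentable.lift_snd _ _ _ _
  have he : IsLimit e := by
    let sD : Cone E → Cone D := fun s ↦
      { pt := (yon S).obj s.pt
        π :=
          { app := fun k ↦ (yon S).map (s.π.app k) ≫ (hr k).rep.fst w
            naturality := fun k l χ ↦ by
              refine (Category.id_comp _).trans ?_
              rw [Category.assoc, ← hfst χ, ← Category.assoc, ← Functor.map_comp, s.w χ] } }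
    have hconst : ∀ (s : Cone E) (k : I),
        s.π.app k ≫ (hr k).rep.snd w = s.π.app k₀ ≫ (hr k₀).rep.snd w := fun s k ↦ by
      obtain ⟨l, p, q, -⟩ := IsCofilteredOrEmpty.cone_objs k k₀
      rw [← s.w p, ← s.w q, Category.assoc, Category.assoc, hsnd, hsnd]
    have hl : ∀ s : Cone E, hc.lift (sD s) ≫ g =
        (yon S).map (s.π.app k₀ ≫ (hr k₀).rep.snd w) ≫ w := fun s ↦ by
      rw [← hg k₀, ← Category.assoc, hc.fac]
      simp only [sD, Category.assoc]
      erw [(hr k₀).rep.w]
      rw [Functor.map_comp_assoc]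
    refine ⟨fun s ↦ hX.rep.lift (hc.lift (sD s)) (s.π.app k₀ ≫ (hr k₀).rep.snd w) (hl s),
      fun s k ↦ ?_, fun s m hm ↦ ?_⟩
    · refine (hr k).rep.hom_ext ?_ ?_
      · rw [Functor.map_comp, Category.assoc, hefst,
          Functor.relativelyRepresentable.lift_fst_assoc, hc.fac]
      · rw [Category.assoc, hesnd, Functor.relativelyRepresentable.lift_snd]
        exact (hconst s k).symm
    · refine hX.rep.hom_ext (hc.hom_ext fun k ↦ ?_) ?_
      · rw [Functor.relativelyRepresentable.lift_fst, hc.fac, Category.assoc, ← hefst,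
          ← Functor.map_comp_assoc, hm]
      · rw [Functor.relativelyRepresentable.lift_snd, ← hm k₀, Category.assoc, hesnd]
  obtain ⟨hef⟩ := isLimit_forget he
  let τ : E ⋙ CategoryTheory.Over.forget S ⟶ (Functor.const _).obj W.left :=
    { app := fun k ↦ ((hr k).rep.snd w).left
      naturality := fun k l χ ↦ by
        refine Eq.trans ?_ (Category.comp_id _).symm
        exact congr($(hsnd χ).left) }
  haveI : ∀ (k l : I) (χ : k ⟶ l),
      IsFinite ((E ⋙ CategoryTheory.Over.forget S).map χ) := fun k l χ ↦ hfinite χ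
  haveI : ∀ {k l : I} (χ : k ⟶ l),
      IsAffineHom ((E ⋙ CategoryTheory.Over.forget S).map χ) := fun χ ↦ inferInstance
  haveI : ∀ k, LocallyOfFiniteType (τ.app k) := fun k ↦
    (LocP.repWith_of_locP locallyOfFiniteType hY (hr k).rep (hft k)).property_snd _
  haveI : ∀ k, CompactSpace ↥((E ⋙ CategoryTheory.Over.forget S).obj k) := fun k ↦ by
    obtain ⟨-, hQc, -⟩ := qcqs_of_isPullback (hD k) hY (hqc _) (hqs _) hYs
      ((hr k).rep.isPullback w)
    haveI := QC.compactSpace_points hQc
    exact (AlgSp.Points.schemeHomeo (E.obj k)).symm.compactSpace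
  haveI : ∀ k, QuasiSeparatedSpace ↥((E ⋙ CategoryTheory.Over.forget S).obj k) := fun k ↦ by
    haveI : IsSeparated (τ.app k) := ((hr k).property_snd w).1.1
    haveI : QuasiSeparatedSpace ↥(((Functor.const _).obj W.left).obj k) :=
      inferInstanceAs (QuasiSeparatedSpace ↥W.left)
    exact quasiSeparatedSpace_of_quasiSeparated (τ.app k)
  haveI : IsIntegralHom (((CategoryTheory.Over.forget S).mapCone e).π.app k₀ ≫ τ.app k₀) := by
    show IsIntegralHom ((e.π.app k₀).left ≫ ((hr k₀).rep.snd w).left)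
    rw [← CategoryTheory.Over.comp_left, hesnd]
    exact hX.property_snd w
  obtain ⟨m, hm'⟩ := Lib.Lim.Eventual.exists_isFinite τ
    (c := (CategoryTheory.Over.forget S).mapCone e) hef k₀
  have h1 : IsFinite ((hr m).rep.snd w).left := hm' m (𝟙 m)
  haveI := AffineDescent.isLocalAtTarget_isFinite.{u}
  exact ⟨m, RepDescent.repWith_of_cover _ AffineDescent.effective_isFinite hY.diag hwe hws
    ((hr m).rep.isPullback w) ((AlgSp.repWith_yon_map_iff _ _).2 h1)⟩

/-- A limit along finite morphisms, integral over a base, is finite at some stage. -/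
theorem eventually_finite_to_base [QuasiSeparatedSpace ↥S] {I : Type u} [SmallCategory I]
    [IsCofiltered I] {Y : Sp S} (hY : IsAlgSpace Y) {D : I ⥤ Sp S}
    (hD : ∀ i, IsAlgSpace (D.obj i)) (t : D ⟶ (Functor.const I).obj Y)
    (hDf : ∀ (i j : I) (φ : i ⟶ j), RepWith @IsFinite (D.map φ)) {c : Cone D}
    (hc : IsLimit c) (g : c.pt ⟶ Y) (hg : ∀ i, c.π.app i ≫ t.app i = g)
    (hqc : ∀ i, IsQuasiCompactSp (D.obj i)) (hqs : ∀ i, IsQuasiSeparatedSp (D.obj i))
    (hYc : IsQuasiCompactSp Y) (hYs : IsQuasiSeparatedSp Y)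
    (hft : ∀ i, LocP @LocallyOfFiniteType (t.app i)) (hX : RepWith @IsIntegralHom g) :
    ∃ i₀ : I, ∀ (i : I) (_ : i ⟶ i₀), RepWith @IsFinite (t.app i) := by
  have hDa : ∀ (i j : I) (φ : i ⟶ j), IsAffineMor (D.map φ) := fun i j φ ↦
    Perm.isAffineMor_of_repWith (fun _ _ g (_ : IsFinite g) ↦ inferInstance) (hDf i j φ)
  have hXsp : IsAlgSpace c.pt := isAlgSpace_of_representable hX.rep hY
  have hsepX : AlgSp.IsSeparatedMor g := isSeparatedMor_of_isAffineMor hXsp
    (Perm.isAffineMor_of_repWith (fun _ _ g (_ : IsIntegralHom g) ↦ inferInstance) hX)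
  obtain ⟨i₁, hsep⟩ := eventually_separated_of_limit hY hD t hDa hc g hg hqc hqs hYs hsepX
  let f : ∀ i, D.obj i ⟶ Y := fun i ↦ t.app i
  have hf : ∀ {i j} (φ : i ⟶ j), D.map φ ≫ f j = f i := fun φ ↦
    (t.naturality φ).trans (Category.comp_id _)
  -- quasi-finiteness on charts
  haveI := QC.compactSpace_points hYc
  obtain ⟨W, w, hW, hwe, hws⟩ := QC.exists_affine_atlas hY
  haveI : IsAffine W.left := hW
  have sqA := IsPullback.of_hasPullback (f i₁) w
  obtain ⟨hP, hPc, -⟩ := qcqs_of_isPullback (hD i₁) hY (hqc _) (hqs _) hYs sqA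
  haveI := QC.compactSpace_points hPc
  obtain ⟨U, u, hU, hue, hus⟩ := QC.exists_affine_atlas hP
  let a := u ≫ pullback.fst (f i₁) w
  have hae : RepWith @Etale a := repWith_comp hue (repWith_baseChange sqA.flip hwe)
  have has : RepWith @Surjective a := repWith_comp hus (repWith_baseChange sqA.flip hws)
  obtain ⟨g₀, hg₀⟩ := (yon S).map_surjective (u ≫ pullback.snd (f i₁) w)
  obtain ⟨E, e, r, α, π, hr, ⟨hlim⟩, hA, hea, sqE, hα₀, sqπ⟩ := exists_system hDa hc i₁ hU a
  let j₀ := CategoryTheory.Over.mk (𝟙 i₁)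
  haveI := hr
  let τ : ∀ j : CategoryTheory.Over i₁, j ⟶ j₀ := fun j ↦
    CategoryTheory.Over.homMk j.hom (Category.comp_id _)
  have he₀ : RepWith @Etale (α j₀) := by
    rw [hα₀]; exact (repWith_iso_comp_iff _ ((yon S).map r) _).2 hae
  have hs₀ : RepWith @Surjective (α j₀) := by
    rw [hα₀]; exact (repWith_iso_comp_iff _ ((yon S).map r) _).2 has
  let T : ∀ j, E.obj j ⟶ W := fun j ↦ E.map (τ j) ≫ r ≫ g₀
  have hT : ∀ j, α j ≫ f j.left = (yon S).map (T j) ≫ w := fun j ↦ by
    rw [← hf j.hom, ← Category.assoc,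
      show α j ≫ D.map j.hom = (yon S).map (E.map (τ j)) ≫ α j₀ from (sqE (τ j)).w.symm,
      Category.assoc, hα₀]
    simp only [T, Functor.map_comp, hg₀, Category.assoc, a, pullback.condition]
  haveI : ∀ j, IsAffine ((E ⋙ CategoryTheory.Over.forget S).obj j) := hA
  haveI : ∀ (j k : CategoryTheory.Over i₁) (φ : j ⟶ k),
      IsFinite ((E ⋙ CategoryTheory.Over.forget S).map φ) := fun j k φ ↦
    (AlgSp.repWith_yon_map_iff _ _).1 (repWith_baseChange (sqE φ).flip (hDf _ _ φ.left))
  let τ' : E ⋙ CategoryTheory.Over.forget S ⟶ (Functor.const _).obj W.left :=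
    { app := fun j ↦ (T j).left
      naturality := fun j k φ ↦ by
        refine Eq.trans ?_ (Category.comp_id _).symm
        exact congr($(show E.map φ ≫ T k = T j by
          show E.map φ ≫ E.map (τ k) ≫ _ = _
          rw [← Category.assoc, ← E.map_comp, show φ ≫ τ k = τ j from
            CategoryTheory.Over.OverMorphism.ext (CategoryTheory.Over.w φ)]).left) }
  have hαe : ∀ j, RepWith @Etale (α j) := fun j ↦ repWith_baseChange (sqE (τ j)) he₀
  haveI : ∀ j, LocallyOfFiniteType (τ'.app j) := fun j ↦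
    hft j.left (α j) w (T j) (hαe j) hwe (hT j)
  -- fibres of the limit have no specializations
  let hInf := e.π.app j₀ ≫ T j₀
  have hπw : π ≫ g = (yon S).map hInf ≫ w := by
    rw [← hg i₁, Functor.map_comp, Category.assoc, ← hT j₀, ← Category.assoc,
      ← Category.assoc, show (yon S).map (e.π.app j₀) ≫ α j₀ = π ≫ c.π.app i₁ from (sqπ j₀).w]
    rfl
  let l := hX.rep.lift π hInf hπw
  have hl1 : (yon S).map l ≫ hX.rep.fst w = π := Functor.relativelyRepresentable.lift_fst _ _ _ _
  have hl2 : l ≫ hX.rep.snd w = hInf := Functor.relativelyRepresentable.lift_snd _ _ _ _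
  haveI : Etale l.left := (LocP.locP_of_repWith etale (repWith_baseChange (sqπ j₀) he₀))
    (𝟙 _) (hX.rep.fst w) l (repWith_of_isIso _ _)
    (repWith_baseChange (hX.rep.isPullback w).flip hwe) (by rw [Category.id_comp]; exact hl1.symm)
  haveI : IsIntegralHom (hX.rep.snd w).left := hX.property_snd w
  have hd : ∀ x x' : ((CategoryTheory.Over.forget S).mapCone e).pt, x ⤳ x' →
      (((CategoryTheory.Over.forget S).mapCone e).π.app j₀ ≫ τ'.app j₀) x =
        (((CategoryTheory.Over.forget S).mapCone e).π.app j₀ ≫ τ'.app j₀) x' → x = x' := by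
    intro x x' hs hxx
    change (hInf).left x = (hInf).left x' at hxx
    rw [← hl2, CategoryTheory.Over.comp_left, Scheme.Hom.comp_apply, Scheme.Hom.comp_apply] at hxx
    have heq := eq_of_specializes_of_isIntegralHom _ (hs.map l.left.continuous) hxx
    exact (l.left.isDiscrete_preimage_singleton (l.left x')).eq_of_specializes hs heq rfl
  obtain ⟨m, hm⟩ := exists_locallyQuasiFinite τ' hlim j₀ hd
  have hqf : LocP (@LocallyQuasiFinite ⊓ @LocallyOfFiniteType) (f m.left) :=
    LocP.locP_of_chart LocP.lqfLft (hD _).diag hY.diag (hαe m)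
      (repWith_baseChange (sqE (τ m)) hs₀) hwe (hT m)
      ⟨hm, hft m.left (α m) w (T m) (hαe m) hwe (hT m)⟩
  let D' := CategoryTheory.Over.forget m.left ⋙ D
  let t' : D' ⟶ (Functor.const _).obj Y :=
    { app := fun k ↦ t.app k.left
      naturality := fun k l χ ↦ (t.naturality χ.left).trans rfl }
  have hrep : ∀ k : CategoryTheory.Over m.left, RepWith sepLqf (f k.left) := fun k ↦ by
    have hs' : AlgSp.IsSeparatedMor (f k.left) := hsep k.left (k.hom ≫ m.hom)
    have hk : LocP (@LocallyQuasiFinite ⊓ @LocallyOfFiniteType) (D.map k.hom) :=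
      LocP.locP_of_repWith LocP.lqfLft
        (repWith_mono (hDf _ _ k.hom) fun _ _ g (_ : IsFinite g) ↦ ⟨inferInstance, inferInstance⟩)
    have hq : LocP (@LocallyQuasiFinite ⊓ @LocallyOfFiniteType) (f k.left) := by
      rw [← hf k.hom]
      exact LocP.locP_comp LocP.lqfLft (hD _) (hD _) hY hk hqf
    have hr := LqfRep.representable (hD _) hY hq hs'
    have hq' := LocP.repWith_of_locP LocP.lqfLft hY hr hq
    refine ⟨hr, fun T V ξ fst v sq ↦ ?_⟩
    haveI : IsSeparated v.left :=
      ⟨(AlgSp.repWith_diagonal_yon_map_iff @IsClosedImmersion v).1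
        (Sep.repWith_diagonal_baseChange sq hs')⟩
    exact ⟨⟨‹IsSeparated v.left›, (repWith_property hq' sq).1⟩, (repWith_property hq' sq).2⟩
  obtain ⟨n, hn⟩ := eventually_finite_of_rep hY (D := D') (fun k ↦ hD k.left) t'
    (fun k l χ ↦ hDf _ _ χ.left) (c := c.whisker (CategoryTheory.Over.forget m.left))
    ((Functor.Initial.isLimitWhiskerEquiv (CategoryTheory.Over.forget m.left) c).symm hc) g
    (fun k ↦ hg k.left) (fun k ↦ hqc k.left) (fun k ↦ hqs k.left) hYc hYs (fun k ↦ hft k.left) hX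
    hrep
  refine ⟨n.left, fun i ψ ↦ ?_⟩
  show RepWith @IsFinite (f i)
  rw [← hf ψ]
  exact repWith_comp (hDf _ _ ψ) hn

end Groth.Agent.Lib.AlgSpLimit
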