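import Groth.Agent.Lib.AlgSpLimit.Lifting
import Groth.Agent.Lib.AlgSpRelLP.AffCover
import Groth.Agent.Lib.AlgSpMor.LocP
import Groth.Agent.Lib.AlgSpMor.Cancel
import Groth.Agent.Lib.AlgSpMor.Sep
import Groth.Agent.Lib.AlgSpMor.Proper

/-!
# Morphisms locally of finite presentation are limit preserving
-/

set_option autoImplicit false
set_option linter.style.haveILetI false
set_option backward.isDefEq.respectTransparency false
set_option backward.isDefEq.respectTransparency.types false

universe u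

open CategoryTheory CategoryTheory.Limits AlgebraicGeometry

namespace Groth.Agent.Lib.AlgSpLimit

open AlgSp (Sp yon RepWith IsAlgSpace LocP)
open Groth.Agent.Lib.AlgSpace Groth.Agent.Lib.AlgSpMor Groth.Agent.Lib.AlgSpRelLP
open Groth.Agent.Lib.SourceDescent.Scheme

variable {S : Scheme.{u}} {I : Type u} [SmallCategory I] [IsCofiltered I] (E : I ⥤ Over S)
  {e : Cone E}

/-- The diagonal of a morphism locally of finite type is locally of finite presentation. -/
theorem repWith_lfp_diagonal {X Y : Sp S} (hX : IsAlgSpace X) (hY : IsAlgSpace Y) {f : X ⟶ Y}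
    (hf : LocP @LocallyOfFiniteType f) :
    RepWith @LocallyOfFinitePresentation (pullback.diagonal f) := by
  have sq := IsPullback.of_hasPullback f f
  have hP := isAlgSpace_of_isPullback sq hY.diag hX hX
  refine LocP.repWith_of_locP locallyOfFinitePresentation hP (Sep.representable_diagonal f hX.diag) ?_
  refine LocP.locP_of_comp (P := @LocallyOfFinitePresentation) (R := @LocallyOfFiniteType)
    locallyOfFinitePresentation (fun _ _ ↦ Cancel.locallyOfFinitePresentation_of_comp)
    hX hP hX (g := pullback.fst f f) ?_ (LocP.locP_of_isPullback locallyOfFiniteType hX hY hX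
      sq.flip hf)
  rw [pullback.diagonal_fst]
  refine LocP.locP_of_repWith locallyOfFinitePresentation (repWith_of_exists fun T ξ ↦
    ⟨T, 𝟙 T, ξ, by rw [CategoryTheory.Functor.map_id]; exact IsPullback.of_vert_isIso ⟨by simp⟩,
      (inferInstance : LocallyOfFinitePresentation (𝟙 T.left))⟩)

/-- Two maps from a stage with the same image, which agree on the limit, agree at a later stage. -/
theorem exists_hom_eq_stage_qcqs {X Y : Sp S} (hX : IsAlgSpace X) (hY : IsAlgSpace Y) {f : X ⟶ Y}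
    (hf : LocP @LocallyOfFiniteType f) (he : IsLimit ((Over.forget S).mapCone e))
    (hK : ∀ i, CompactSpace ↥(E.obj i).left) (hQ : ∀ i, QuasiSeparatedSpace ↥(E.obj i).left)
    (hH : ∀ {i j : I} (φ : i ⟶ j), IsAffineHom (E.map φ).left) {i : I} {u v : (yon S).obj (E.obj i) ⟶ X}
    (huv : u ≫ f = v ≫ f) (h : (yon S).map (e.π.app i) ≫ u = (yon S).map (e.π.app i) ≫ v) :
    ∃ (j : I) (χ : j ⟶ i), (yon S).map (E.map χ) ≫ u = (yon S).map (E.map χ) ≫ v := by
  have hd := repWith_lfp_diagonal hX hY hf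
  let ξ := pullback.lift u v huv
  haveI : LocallyOfFinitePresentation (hd.rep.snd ξ).left :=
    repWith_property hd (hd.rep.isPullback ξ)
  let w : e.pt ⟶ hd.rep.pullback ξ := hd.rep.lift (g := ξ) ((yon S).map (e.π.app i) ≫ u)
    (e.π.app i) (by
      refine pullback.hom_ext ?_ ?_
      · simp [ξ]
      · simp [ξ, h])
  obtain ⟨j, χ, s, hs, -⟩ := exists_lift_stage_qcqs E he hK hQ hH (hd.rep.snd ξ) w (by simp [w])
  refine ⟨j, χ, ?_⟩
  have hu : (yon S).map (hd.rep.snd ξ) ≫ u = hd.rep.fst ξ := by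
    simpa [ξ] using congr($((hd.rep.isPullback ξ).w) ≫ pullback.fst f f).symm
  have hv : (yon S).map (hd.rep.snd ξ) ≫ v = hd.rep.fst ξ := by
    simpa [ξ] using congr($((hd.rep.isPullback ξ).w) ≫ pullback.snd f f).symm
  rw [← hs, Functor.map_comp, Category.assoc, Category.assoc, hu, hv]

/-- The same over an affine system. -/
theorem exists_hom_eq_stage {X Y : Sp S} (hX : IsAlgSpace X) (hY : IsAlgSpace Y) {f : X ⟶ Y}
    (hf : LocP @LocallyOfFiniteType f) (he : IsLimit ((Over.forget S).mapCone e))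
    (hA : ∀ i, IsAffine (E.obj i).left) {i : I} {u v : (yon S).obj (E.obj i) ⟶ X}
    (huv : u ≫ f = v ≫ f) (h : (yon S).map (e.π.app i) ≫ u = (yon S).map (e.π.app i) ≫ v) :
    ∃ (j : I) (χ : j ⟶ i), (yon S).map (E.map χ) ≫ u = (yon S).map (E.map χ) ≫ v :=
  exists_hom_eq_stage_qcqs E hX hY hf he (fun i ↦ have := hA i; inferInstance)
    (fun i ↦ have := hA i; inferInstance)
    (fun {i j} φ ↦ have := hA i; have := hA j; isAffineHom_of_isAffine _) huv h

/-- A map from the limit of a base changed system to a scheme of finite presentation over a stage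
comes from a stage of the base changed system. -/
theorem exists_piece_lift {i m : I} (β : m ⟶ i) {W U : Over S} [IsAffine W.left]
    (gl : W ⟶ E.obj m) (g : U ⟶ E.obj i) [LocallyOfFinitePresentation g.left]
    (he : IsLimit ((Over.forget S).mapCone e)) (hA : ∀ i, IsAffine (E.obj i).left)
    (w₀ : pullback gl (pr e m) ⟶ U) (hw₀ : w₀ ≫ g = pullback.snd gl (pr e m) ≫ pr e i) :
    ∃ (n : CategoryTheory.Over m) (s : (bcD E gl).obj n ⟶ U),
      s ≫ g = pullback.snd gl (E.map n.hom) ≫ E.map (n.hom ≫ β) ∧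
      pr (bcC E gl e) n ≫ s = w₀ := by
  let k₀ : CategoryTheory.Over m := CategoryTheory.Over.mk (𝟙 m)
  let τ : pullback gl (E.map k₀.hom) ⟶ E.obj i :=
    pullback.snd gl (E.map k₀.hom) ≫ E.map (k₀.hom ≫ β)
  haveI : LocallyOfFinitePresentation (pullback.snd g τ).left :=
    MorphismProperty.of_isPullback (P := @LocallyOfFinitePresentation) (isPullback_left g τ) ‹_›
  let w : (bcC E gl e).pt ⟶ pullback g τ :=
    pullback.lift w₀ (pr (bcC E gl e) k₀) (by
      rw [hw₀]
      simp only [τ]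
      rw [← Category.assoc (pr (bcC E gl e) k₀), pr_bcC_snd, Category.assoc, pr_w])
  obtain ⟨hlim⟩ := nonempty_isLimit_bcC (g := gl) he
  obtain ⟨n, ψ, s', hs', hs''⟩ := exists_lift_stage (bcD E gl) hlim
    (fun o ↦ isAffine_bcD gl hA o) (i := k₀) (pullback.snd g τ) w (pullback.lift_snd _ _ _)
  refine ⟨n, s' ≫ pullback.fst g τ, ?_, ?_⟩
  · rw [Category.assoc, pullback.condition, reassoc_of% hs']
    simp only [τ]
    rw [← Category.assoc ((bcD E gl).map ψ), bcD_snd, Category.assoc, ← E.map_comp,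
      ← Category.assoc ψ.left]
    exact congrArg (fun o ↦ pullback.snd gl (E.map n.hom) ≫ E.map (o ≫ β))
      (CategoryTheory.Over.w ψ)
  · rw [← Category.assoc]
    exact (congrArg (· ≫ pullback.fst g τ) hs'').trans (pullback.lift_fst _ _ _)

omit [IsCofiltered I] in
/-- The value of a piece on a scheme over the limit. -/
theorem piece_eq {m : I} {W : Over S} (gl : W ⟶ E.obj m) {Z : Sp S} (z : (yon S).obj e.pt ⟶ Z)
    (n : CategoryTheory.Over m) (x : (yon S).obj ((bcD E gl).obj n) ⟶ Z)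
    (hx : (yon S).map (pr (bcC E gl e) n) ≫ x = (yon S).map (pullback.snd gl (pr e m)) ≫ z)
    {T : Over S} (t₁ : T ⟶ (bcD E gl).obj n) (t₂ : T ⟶ e.pt)
    (ht : t₁ ≫ pullback.snd gl (E.map n.hom) = t₂ ≫ pr e n.left) :
    (yon S).map t₁ ≫ x = (yon S).map t₂ ≫ z := by
  let G : T ⟶ (bcC E gl e).pt := pullback.lift (t₁ ≫ pullback.fst _ _) t₂ (by
    rw [Category.assoc, pullback.condition, reassoc_of% ht, pr_w])
  have hG : G ≫ pr (bcC E gl e) n = t₁ := by
    apply pullback.hom_ext
    · rw [Category.assoc, pr_bcC_fst]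
      exact pullback.lift_fst _ _ _
    · rw [Category.assoc, pr_bcC_snd, ← Category.assoc, ht]
      exact congrArg (· ≫ pr e n.left) (pullback.lift_snd _ _ _)
  rw [← hG, Functor.map_comp, Category.assoc, hx, ← Category.assoc, ← Functor.map_comp]
  exact congrArg (fun o ↦ (yon S).map o ≫ z) (pullback.lift_snd _ _ _)

/-- Two maps on a scheme over a stage which have the same image and agree over the limit agree
over a later stage. -/
theorem exists_overlap_eq {Z Y : Sp S} (hZ : IsAlgSpace Z) (hY : IsAlgSpace Y) {ρ : Z ⟶ Y}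
    (hρ : LocP @LocallyOfFiniteType ρ) (he : IsLimit ((Over.forget S).mapCone e))
    (hA : ∀ i, IsAffine (E.obj i).left) {n : I} {P : Over S} [IsAffine P.left] (d : P ⟶ E.obj n)
    (u v : (yon S).obj P ⟶ Z) (h₁ : u ≫ ρ = v ≫ ρ)
    (h₂ : (yon S).map (pullback.fst d (pr e n)) ≫ u = (yon S).map (pullback.fst d (pr e n)) ≫ v) :
    ∃ o : CategoryTheory.Over n, (yon S).map (pullback.fst d (E.map o.hom)) ≫ u =
      (yon S).map (pullback.fst d (E.map o.hom)) ≫ v := by
  let k₁ : CategoryTheory.Over n := CategoryTheory.Over.mk (𝟙 n)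
  let F : (bcD E d).obj k₁ ⟶ P := pullback.fst d (E.map k₁.hom)
  obtain ⟨hlim⟩ := nonempty_isLimit_bcC (g := d) he
  have hF : pr (bcC E d e) k₁ ≫ F = pullback.fst d (pr e n) := pr_bcC_fst E d e k₁
  obtain ⟨o, χ, ho⟩ := exists_hom_eq_stage (bcD E d) hZ hY hρ hlim
    (fun o ↦ isAffine_bcD d hA o) (i := k₁) (u := (yon S).map F ≫ u) (v := (yon S).map F ≫ v)
    (by rw [Category.assoc, Category.assoc, h₁])
    (by
      rw [← Category.assoc, ← Category.assoc, ← Functor.map_comp]
      erw [hF]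
      exact h₂)
  refine ⟨o, ?_⟩
  have hχ : (bcD E d).map χ ≫ F = pullback.fst d (E.map o.hom) := bcD_fst E d χ
  rw [← Category.assoc, ← Category.assoc, ← Functor.map_comp, hχ] at ho
  exact ho

/-- Pieces at a stage compatible over the limit glue at a later stage. -/
theorem exists_glue_stage {Z Y : Sp S} (hZ : IsAlgSpace Z) (hY : IsAlgSpace Y) {ρ : Z ⟶ Y}
    (hρ : LocP @LocallyOfFiniteType ρ) (he : IsLimit ((Over.forget S).mapCone e))
    (hA : ∀ i, IsAffine (E.obj i).left) (hT : IsAffine e.pt.left) {n : I} {κ : Type u}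
    {P : κ → Over S} {h : ∀ l, P l ⟶ E.obj n} (hcov : AffCover P h)
    (x : ∀ l, (yon S).obj (P l) ⟶ Z) (y : (yon S).obj (E.obj n) ⟶ Y)
    (hx : ∀ l, x l ≫ ρ = (yon S).map (h l) ≫ y) (z : (yon S).obj e.pt ⟶ Z)
    (hxz : ∀ l {T : Over S} (t₁ : T ⟶ P l) (t₂ : T ⟶ e.pt), t₁ ≫ h l = t₂ ≫ pr e n →
      (yon S).map t₁ ≫ x l = (yon S).map t₂ ≫ z) :
    ∃ (j : I) (v : j ⟶ n) (z' : (yon S).obj (E.obj j) ⟶ Z),
      z' ≫ ρ = (yon S).map (E.map v) ≫ y ∧ (yon S).map (e.π.app j) ≫ z' = z := by
  classical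
  haveI := hT
  haveI := hA n
  have overlap : ∀ c : κ × κ, ∃ o : CategoryTheory.Over n,
      (yon S).map (pullback.fst (pullback.fst (h c.1) (h c.2) ≫ h c.1) (E.map o.hom)) ≫
          (yon S).map (pullback.fst (h c.1) (h c.2)) ≫ x c.1 =
        (yon S).map (pullback.fst (pullback.fst (h c.1) (h c.2) ≫ h c.1) (E.map o.hom)) ≫
          (yon S).map (pullback.snd (h c.1) (h c.2)) ≫ x c.2 := by
    rintro ⟨l, l'⟩
    haveI := hcov.2.1 l
    haveI := hcov.2.1 l'
    haveI : IsAffine (pullback (h l) (h l')).left := isAffine_pullback _ _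
    refine exists_overlap_eq E hZ hY hρ he hA _ _ _ ?_ ?_
    · simp only [Category.assoc, hx, ← Functor.map_comp_assoc, pullback.condition]
    · rw [← Category.assoc, ← Category.assoc, ← Functor.map_comp, ← Functor.map_comp]
      refine (hxz l _ (pullback.snd _ _) ?_).trans (hxz l' _ _ ?_).symm
      · rw [Category.assoc]
        exact pullback.condition
      · rw [Category.assoc, ← pullback.condition (f := h l) (g := h l')]
        exact pullback.condition
  choose oo hoo using overlap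
  haveI := hcov.1
  cases nonempty_fintype κ
  obtain ⟨o, ho⟩ := IsCofiltered.inf_objs_exists (Finset.univ.image oo)
  haveI := hA o.left
  let rl : ∀ l, pullback (h l) (E.map o.hom) ⟶ E.obj o.left := fun l ↦ pullback.snd _ _
  have hcov3 : AffCover (fun l ↦ pullback (h l) (E.map o.hom)) rl :=
    hcov.baseChange (E.map o.hom)
  have hcompat : ∀ (l l' : κ) (T : Over S) (gi : T ⟶ pullback (h l) (E.map o.hom))
      (gj : T ⟶ pullback (h l') (E.map o.hom)), gi ≫ rl l = gj ≫ rl l' →
      (yon S).map gi ≫ (yon S).map (pullback.fst (h l) (E.map o.hom)) ≫ x l =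
        (yon S).map gj ≫ (yon S).map (pullback.fst (h l') (E.map o.hom)) ≫ x l' := by
    intro l l' T gi gj hgij
    let ψ : o ⟶ oo (l, l') :=
      (ho (Finset.mem_image_of_mem oo (Finset.mem_univ (l, l')))).some
    let t₀ : T ⟶ pullback (h l) (h l') :=
      pullback.lift (gi ≫ pullback.fst _ _) (gj ≫ pullback.fst _ _) (by
        rw [Category.assoc, Category.assoc, pullback.condition, pullback.condition,
          reassoc_of% hgij])
    let t : T ⟶ pullback (pullback.fst (h l) (h l') ≫ h l) (E.map (oo (l, l')).hom) :=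
      pullback.lift t₀ (gi ≫ rl l ≫ E.map ψ.left) (by
        simp only [t₀, pullback.lift_fst_assoc, Category.assoc, ← E.map_comp,
          CategoryTheory.Over.w ψ]
        exact congrArg (gi ≫ ·) pullback.condition)
    have := congrArg ((yon S).map t ≫ ·) (hoo (l, l'))
    simp only [← Category.assoc, ← Functor.map_comp] at this ⊢
    simpa [t, t₀, pullback.lift_fst_assoc] using this
  obtain ⟨z', hz', -⟩ := exists_desc_of_family _ rl hcov3.mem_J
    (fun l ↦ (yon S).map (pullback.fst (h l) (E.map o.hom)) ≫ x l) hcompat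
  refine ⟨o.left, o.hom, z', ?_, ?_⟩
  · refine hom_ext_of_family _ rl hcov3.mem_J fun l ↦ ?_
    rw [← Category.assoc, hz', Category.assoc, hx, ← Functor.map_comp_assoc, pullback.condition,
      Functor.map_comp_assoc]
  · refine hom_ext_of_family _ _ (hcov3.baseChange (pr e o.left)).mem_J fun l ↦ ?_
    rw [← Category.assoc, ← Functor.map_comp, ← pullback.condition, Functor.map_comp,
      Category.assoc, hz', ← Category.assoc, ← Functor.map_comp]
    refine hxz l _ _ ?_
    rw [Category.assoc]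
    refine Eq.trans (congrArg (pullback.fst (rl l) (e.π.app o.left) ≫ ·) pullback.condition) ?_
    rw [← Category.assoc, pullback.condition, Category.assoc]
    exact congrArg (_ ≫ ·) (e.w o.hom)

/-- A section over the limit of a space of finite presentation over a stage comes from a stage. -/
theorem exists_section_stage {i : I} {Z : Sp S} (hZ : IsAlgSpace Z)
    {ρ : Z ⟶ (yon S).obj (E.obj i)} (hρ : LocP @LocallyOfFinitePresentation ρ)
    (he : IsLimit ((Over.forget S).mapCone e)) (hA : ∀ i, IsAffine (E.obj i).left)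
    (hT : IsAffine e.pt.left) (z : (yon S).obj e.pt ⟶ Z)
    (hz : z ≫ ρ = (yon S).map (e.π.app i)) :
    ∃ (j : I) (v : j ⟶ i) (z' : (yon S).obj (E.obj j) ⟶ Z),
      z' ≫ ρ = (yon S).map (E.map v) ∧ (yon S).map (e.π.app j) ≫ z' = z := by
  classical
  haveI := hT
  obtain ⟨U, a, ha, has⟩ := hZ.atlas
  obtain ⟨g, hg⟩ := (yon S).map_surjective (a ≫ ρ)
  haveI : LocallyOfFinitePresentation g.left :=
    hρ a (𝟙 _) g ha (AlgSp.repWith_id _ _) (by rw [Category.comp_id, hg])
  obtain ⟨W₀, p, q, sq⟩ := exists_isPullback_yon hZ.diag a z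
  haveI : Etale q.left := repWith_property ha sq
  haveI : Surjective q.left := repWith_property has sq
  have hpg : p ≫ g = q ≫ pr e i := (yon S).map_injective (by
    rw [Functor.map_comp, hg, reassoc_of% sq.w, hz, ← Functor.map_comp])
  obtain ⟨κ, R, r, hRr, hfac⟩ := exists_affCover (singleton_mem_J q (fppfCover_mk q.left))
  have hfac' : ∀ l, ∃ al : R l ⟶ W₀, al ≫ q = r l := fun l ↦ by
    obtain ⟨_, al, _, ⟨⟨⟩⟩, hal⟩ := hfac l
    exact ⟨al, hal⟩
  choose al hal using hfac'
  obtain ⟨k, Wk, gk, ql, hcov, hql⟩ := exists_descend_cover he hA hT hRr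
  let m := IsCofiltered.min k i
  let α : m ⟶ k := IsCofiltered.minToLeft k i
  let β : m ⟶ i := IsCofiltered.minToRight k i
  haveI := hA k
  haveI := hA m
  let gl : ∀ l, pullback (gk l) (E.map α) ⟶ E.obj m := fun l ↦ pullback.snd _ _
  have hcov' : AffCover _ gl := hcov.baseChange (E.map α)
  let w₀ : ∀ l, pullback (gl l) (pr e m) ⟶ W₀ := fun l ↦
    pullback.lift (pullback.fst _ _ ≫ pullback.fst (gk l) (E.map α))
      (pullback.snd (gl l) (pr e m)) (by
        rw [Category.assoc, pullback.condition, pullback.condition_assoc, pr_w]) ≫ ql l ≫ al l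
  have hw₀ : ∀ l, w₀ l ≫ q = pullback.snd (gl l) (pr e m) := fun l ↦ by
    simp only [w₀, Category.assoc, hal, hql, pullback.lift_snd]
  have piece : ∀ l, ∃ (n : CategoryTheory.Over m) (s : (bcD E (gl l)).obj n ⟶ U),
      s ≫ g = pullback.snd (gl l) (E.map n.hom) ≫ E.map (n.hom ≫ β) ∧
      pr (bcC E (gl l) e) n ≫ s = w₀ l ≫ p := fun l ↦
    haveI := hcov'.2.1 l
    exists_piece_lift E β (gl l) g he hA (w₀ l ≫ p) (by
      rw [Category.assoc, hpg, reassoc_of% hw₀ l])
  choose nn s hsg hsw using piece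
  haveI := hcov'.1
  cases nonempty_fintype κ
  obtain ⟨n, hn⟩ := IsCofiltered.inf_objs_exists (Finset.univ.image nn)
  let φ : ∀ l, n ⟶ nn l :=
    fun l ↦ (hn (Finset.mem_image_of_mem nn (Finset.mem_univ l))).some
  haveI := hA n.left
  let x : ∀ l, (yon S).obj ((bcD E (gl l)).obj n) ⟶ Z :=
    fun l ↦ (yon S).map ((bcD E (gl l)).map (φ l) ≫ s l) ≫ a
  have hxρ : ∀ l, x l ≫ ρ = (yon S).map (pullback.snd (gl l) (E.map n.hom)) ≫
      (yon S).map (E.map (n.hom ≫ β)) := fun l ↦ by
    simp only [x, Category.assoc, ← hg, ← Functor.map_comp]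
    refine congrArg (yon S).map ?_
    rw [hsg, ← Category.assoc ((bcD E (gl l)).map (φ l)), bcD_snd, Category.assoc, ← E.map_comp,
      ← Category.assoc (φ l).left, CategoryTheory.Over.w]
  have hxz : ∀ l, (yon S).map (pr (bcC E (gl l) e) n) ≫ x l =
      (yon S).map (pullback.snd (gl l) (pr e m)) ≫ z := fun l ↦ by
    simp only [x, ← Functor.map_comp_assoc]
    rw [← Category.assoc (pr (bcC E (gl l) e) n), pr_w, hsw, Functor.map_comp, Category.assoc,
      sq.w, ← Category.assoc, ← Functor.map_comp, hw₀]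
  obtain ⟨j, v, z', h₁, h₂⟩ := exists_glue_stage E hZ (IsAlgSpace.yon_obj (E.obj i))
    (fun _ _ a' b' h' ha' hb' w' ↦ by
      haveI : LocallyOfFinitePresentation h'.left := hρ a' b' h' ha' hb' w'
      exact (inferInstance : LocallyOfFiniteType h'.left))
    he hA hT (hcov'.baseChange (E.map n.hom)) x _ hxρ z
    (fun l _ t₁ t₂ ht ↦ piece_eq E (gl l) z n (x l) (hxz l) t₁ t₂ ht)
  exact ⟨j, v ≫ n.hom ≫ β, z', by rw [h₁, ← Functor.map_comp, ← E.map_comp], h₂⟩

/-- A morphism locally of finite presentation lifts maps from the limit to a stage. -/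
theorem exists_hom_lift_stage {X Y : Sp S} (hX : IsAlgSpace X) (hY : IsAlgSpace Y) {f : X ⟶ Y}
    (hf : LocP @LocallyOfFinitePresentation f) (he : IsLimit ((Over.forget S).mapCone e))
    (hA : ∀ i, IsAffine (E.obj i).left) (hT : IsAffine e.pt.left) {i : I}
    (x : (yon S).obj e.pt ⟶ X) (y : (yon S).obj (E.obj i) ⟶ Y)
    (h : x ≫ f = (yon S).map (e.π.app i) ≫ y) :
    ∃ (j : I) (v : j ⟶ i) (x' : (yon S).obj (E.obj j) ⟶ X),
      x' ≫ f = (yon S).map (E.map v) ≫ y ∧ (yon S).map (e.π.app j) ≫ x' = x := by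
  have sq := IsPullback.of_hasPullback f y
  have hYi := IsAlgSpace.yon_obj (E.obj i)
  obtain ⟨j, v, z', hz', hz''⟩ := exists_section_stage E
    (isAlgSpace_of_isPullback sq hY.diag hX hYi)
    (LocP.locP_of_isPullback locallyOfFinitePresentation hX hY hYi sq hf) he hA hT
    (pullback.lift x _ h) (pullback.lift_snd _ _ _)
  refine ⟨j, v, z' ≫ pullback.fst f y, ?_, ?_⟩
  · rw [Category.assoc, pullback.condition, reassoc_of% hz']
  · rw [← Category.assoc, hz'', pullback.lift_fst]

end Groth.Agent.Lib.AlgSpLimit
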