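import Groth.Agent.Lib.AlgSpace.Diag
import Mathlib.AlgebraicGeometry.AffineTransitionLimit
import Mathlib.AlgebraicGeometry.Morphisms.Etale

/-!
# Lifting sections of schemes locally of finite presentation along affine systems
-/

set_option autoImplicit false
set_option linter.style.haveILetI false

universe u

open CategoryTheory CategoryTheory.Limits AlgebraicGeometry

namespace Groth.Agent.Lib.AlgSpLimit

open AlgSp (Sp yon RepWith)
open Groth.Agent.Lib.AlgSpace

variable {S : Scheme.{u}} {I : Type u} [SmallCategory I] [IsCofiltered I] (E : I ⥤ Over S)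
  {e : Cone E}

/-- A section over the limit of a scheme of finite presentation over a stage comes from a later
stage. -/
theorem exists_lift_stage_qcqs (he : IsLimit ((Over.forget S).mapCone e))
    (hK : ∀ i, CompactSpace ↥(E.obj i).left) (hQ : ∀ i, QuasiSeparatedSpace ↥(E.obj i).left)
    (hH : ∀ {i j : I} (φ : i ⟶ j), IsAffineHom (E.map φ).left) {i : I} {W : Over S} (q : W ⟶ E.obj i)
    [LocallyOfFinitePresentation q.left] (w : e.pt ⟶ W) (hw : w ≫ q = e.π.app i) :
    ∃ (j : I) (ψ : j ⟶ i) (s : E.obj j ⟶ W), s ≫ q = E.map ψ ∧ e.π.app j ≫ s = w := by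
  let F : CategoryTheory.Over i ⥤ Scheme.{u} :=
    CategoryTheory.Over.forget i ⋙ E ⋙ CategoryTheory.Over.forget S
  let c' : Cone F := ((CategoryTheory.Over.forget S).mapCone e).whisker (CategoryTheory.Over.forget i)
  let hc' : IsLimit c' := (Functor.Initial.isLimitWhiskerEquiv _ _).symm he
  haveI : ∀ k, CompactSpace ↥(F.obj k) := fun k ↦ hK _
  haveI : ∀ k, QuasiSeparatedSpace ↥(F.obj k) := fun k ↦ hQ _
  haveI : ∀ {j k} (f : j ⟶ k), IsAffineHom (F.map f) := fun f ↦ hH f.left
  obtain ⟨k, g, hg, hgf⟩ := Scheme.exists_π_app_comp_eq_of_locallyOfFinitePresentation F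
    { app := fun k ↦ (E.map k.hom).left
      naturality := fun k l f ↦ by
        refine Eq.trans ?_ (Category.comp_id _).symm
        show (E.map f.left).left ≫ (E.map l.hom).left = (E.map k.hom).left
        rw [← CategoryTheory.Over.comp_left, ← E.map_comp, CategoryTheory.Over.w] }
    q.left c' hc' w.left (by
      ext k : 2
      show (e.π.app k.left).left ≫ (E.map k.hom).left = w.left ≫ q.left
      rw [← CategoryTheory.Over.comp_left, ← CategoryTheory.Over.comp_left, hw]
      exact congrArg (fun f ↦ CategoryTheory.Over.Hom.left f) (e.w k.hom))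
  refine ⟨k.left, k.hom, CategoryTheory.Over.homMk g ?_, CategoryTheory.Over.OverMorphism.ext hgf,
    CategoryTheory.Over.OverMorphism.ext hg⟩
  rw [← CategoryTheory.Over.w q, ← Category.assoc]
  exact (congrArg (· ≫ (E.obj i).hom) hgf).trans (CategoryTheory.Over.w (E.map k.hom))

/-- The same over an affine system. -/
theorem exists_lift_stage (he : IsLimit ((Over.forget S).mapCone e))
    (hA : ∀ i, IsAffine (E.obj i).left) {i : I} {W : Over S} (q : W ⟶ E.obj i)
    [LocallyOfFinitePresentation q.left] (w : e.pt ⟶ W) (hw : w ≫ q = e.π.app i) :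
    ∃ (j : I) (ψ : j ⟶ i) (s : E.obj j ⟶ W), s ≫ q = E.map ψ ∧ e.π.app j ≫ s = w :=
  exists_lift_stage_qcqs E he (fun i ↦ have := hA i; inferInstance)
    (fun i ↦ have := hA i; inferInstance)
    (fun {i j} φ ↦ have := hA i; have := hA j; isAffineHom_of_isAffine _) q w hw

/-- Two maps from a stage which agree on the limit and after composition with an etale map
agree at a later stage. -/
theorem exists_eq_stage {G : Sp S} (hG : Functor.relativelyRepresentable (yon S) (Limits.diag G))
    (he : IsLimit ((Over.forget S).mapCone e)) (hA : ∀ i, IsAffine (E.obj i).left) {i : I}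
    {V : Over S} {b : (yon S).obj V ⟶ G} (hb : RepWith @Etale b) {u v : E.obj i ⟶ V}
    (huv : (yon S).map u ≫ b = (yon S).map v ≫ b) (h : e.π.app i ≫ u = e.π.app i ≫ v) :
    ∃ (j : I) (χ : j ⟶ i), E.map χ ≫ u = E.map χ ≫ v := by
  obtain ⟨W, p, q, sq⟩ := exists_isPullback_yon hG b ((yon S).map u ≫ b)
  haveI : Etale q.left := hb.property _ _ _ sq
  let su : E.obj i ⟶ W := (yon S).preimage (sq.lift ((yon S).map u) (𝟙 _) (by simp))
  let sv : E.obj i ⟶ W := (yon S).preimage (sq.lift ((yon S).map v) (𝟙 _) (by simp [huv]))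
  have hup : su ≫ p = u := (yon S).map_injective (by simp [su])
  have huq : su ≫ q = 𝟙 _ := (yon S).map_injective (by simp [su])
  have hvp : sv ≫ p = v := (yon S).map_injective (by simp [sv])
  have hvq : sv ≫ q = 𝟙 _ := (yon S).map_injective (by simp [sv])
  have hπ : e.π.app i ≫ su = e.π.app i ≫ sv := by
    apply (yon S).map_injective
    apply sq.hom_ext
    · simp only [← Functor.map_comp, Category.assoc, hup, hvp, h]
    · simp only [← Functor.map_comp, Category.assoc, huq, hvq]
  let F : CategoryTheory.Over i ⥤ Scheme.{u} :=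
    CategoryTheory.Over.forget i ⋙ E ⋙ CategoryTheory.Over.forget S
  let c' : Cone F := ((CategoryTheory.Over.forget S).mapCone e).whisker (CategoryTheory.Over.forget i)
  let hc' : IsLimit c' := (Functor.Initial.isLimitWhiskerEquiv _ _).symm he
  haveI : ∀ k, IsAffine (F.obj k) := fun k ↦ hA _
  haveI : ∀ {j k} (f : j ⟶ k), IsAffineHom (F.map f) := fun f ↦ inferInstance
  let t : F ⟶ (Functor.const _).obj (E.obj i).left :=
    { app := fun k ↦ (E.map k.hom).left
      naturality := fun k l f ↦ by
        refine Eq.trans ?_ (Category.comp_id _).symm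
        show (E.map f.left).left ≫ (E.map l.hom).left = (E.map k.hom).left
        rw [← CategoryTheory.Over.comp_left, ← E.map_comp, CategoryTheory.Over.w] }
  let k₀ : CategoryTheory.Over i := CategoryTheory.Over.mk (𝟙 i)
  have ht : t.app k₀ = 𝟙 _ := by
    show (E.map (𝟙 i)).left = 𝟙 _
    rw [E.map_id]
    rfl
  obtain ⟨k, hik, he'⟩ := Scheme.exists_hom_comp_eq_comp_of_locallyOfFiniteType F t q.left c' hc'
    (i := k₀) su.left sv.left
    (ht.trans (congrArg (fun f ↦ CategoryTheory.Over.Hom.left f) huq).symm)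
    (ht.trans (congrArg (fun f ↦ CategoryTheory.Over.Hom.left f) hvq).symm)
    (congrArg (fun f ↦ CategoryTheory.Over.Hom.left f) hπ)
  refine ⟨k.left, hik.left, ?_⟩
  have hh : E.map hik.left ≫ su = E.map hik.left ≫ sv := CategoryTheory.Over.OverMorphism.ext he'
  have hh' := congrArg (· ≫ p) hh
  simp only [Category.assoc, hup, hvp] at hh'
  exact hh'

end Groth.Agent.Lib.AlgSpLimit
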