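import Groth.Agent.Lib.AlgSpLimit.System
import Groth.Agent.Lib.AlgSpLimit.ClosedLim
import Groth.Agent.Lib.AlgSpLimit.Reduced
import Groth.Agent.Lib.Lim.Topology
import Groth.Agent.Lib.AlgSpMor.Perm
import Groth.Agent.Lib.AlgSpMor.LocP
import Groth.Agent.Lib.AlgSpDecent.RedInduced
import Groth.Prelude.Def_AlgSpSub

/-!
# Specializations and reduced closed subspaces in limits of algebraic spaces
-/

set_option autoImplicit false

universe u

open CategoryTheory CategoryTheory.Limits AlgebraicGeometry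

namespace Groth.Agent.Lib.AlgSpLimit.LimClosure

open AlgSp (Sp yon Representable RepWith IsAlgSpace IsAffineMor Points)
open Groth.Agent.Lib.AlgSpace Groth.Agent.Lib.AlgSpMor

variable {S : Scheme.{u}} {I : Type u} [SmallCategory I] [IsCofiltered I] {D : I ⥤ Sp S}

/-- An etale chart from an affine scheme through a point. -/
theorem exists_affine_chart {F : Sp S} (hF : IsAlgSpace F) (y : Points F) :
    ∃ (W : Over S) (a : (yon S).obj W ⟶ F) (w : ↥W.left),
      IsAffine W.left ∧ RepWith @Etale a ∧ Points.ofPt a w = y := by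
  obtain ⟨V, a, ha, has⟩ := hF.atlas
  obtain ⟨v, rfl⟩ := surjective_ofPt has y
  obtain ⟨O, hO, hvO, -⟩ := exists_isAffineOpen_mem_and_subset (x := v) (U := ⊤) trivial
  let p : Over.mk (O.ι ≫ V.hom) ⟶ V := Over.homMk O.ι rfl
  haveI : Etale p.left := inferInstanceAs (Etale O.ι)
  exact ⟨_, (yon S).map p ≫ a, ⟨v, hvO⟩, hO, LocP.repWith_etale_comp p ha,
    ofPt_yon_map_comp p a _⟩

/-- In a limit, specializations are detected by the projections. -/
theorem specializes_iff (hD : ∀ i, IsAlgSpace (D.obj i))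
    (hDa : ∀ (i j : I) (φ : i ⟶ j), IsAffineMor (D.map φ)) {c : Cone D} (hc : IsLimit c)
    (x x' : Points c.pt) :
    x ⤳ x' ↔ ∀ i, Points.map (c.π.app i) x ⤳ Points.map (c.π.app i) x' := by
  refine ⟨fun h i ↦ h.map (Points.continuous_map _), fun h ↦ ?_⟩
  rw [specializes_iff_forall_open]
  intro U hU hx'
  obtain ⟨i₀⟩ := (IsCofiltered.nonempty : Nonempty I)
  obtain ⟨W, a, v, hW, ha, hv⟩ := exists_affine_chart (hD i₀) (Points.map (c.π.app i₀) x')
  obtain ⟨E, e, r, α, π, hr, ⟨hlim⟩, hA, -, sqE, hα₀, sqπ⟩ := exists_system hDa hc i₀ hW a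
  haveI := hr
  let j₀ := CategoryTheory.Over.mk (𝟙 i₀)
  have he₀ : RepWith @Etale (α j₀) := by
    rw [hα₀]; exact (repWith_iso_comp_iff _ ((yon S).map r) _).2 ha
  have hα : ∀ j, RepWith @Etale (α j) := fun j ↦ repWith_baseChange
    (sqE (CategoryTheory.Over.homMk j.hom (Category.comp_id _) : j ⟶ j₀)) he₀
  obtain ⟨w', -, hw'⟩ := exists_of_isPullback (sqπ j₀) (Points.ofScheme _ ((inv r).left v)) x' (by
    rw [← Points.ofPt_eq_map_ofScheme, hα₀, ofPt_yon_map_comp, ← Scheme.Hom.comp_apply,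
      ← Over.comp_left, IsIso.inv_hom_id]
    exact hv)
  obtain ⟨w', rfl⟩ : ∃ w, Points.ofPt π w = x' :=
    ⟨Points.toScheme _ w', by rw [Points.ofPt_eq_map_ofScheme, Points.ofScheme_toScheme, hw']⟩
  haveI : ∀ {j k} (g : j ⟶ k), IsAffineHom ((E ⋙ Over.forget S).map g) := fun {j k} g ↦ by
    haveI : IsAffine ((E ⋙ Over.forget S).obj j) := hA j
    haveI : IsAffine ((E ⋙ Over.forget S).obj k) := hA k
    exact isAffineHom_of_isAffine _
  obtain ⟨_, ⟨j, O, -, rfl⟩, hw'O, hOU⟩ := TopologicalSpace.Opens.isBasis_iff_nbhd.mp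
    (Lib.Lim.Topology.isTopologicalBasis hlim)
    (U := ⟨Points.ofPt π ⁻¹' U, hU.preimage (Points.continuous_ofPt π)⟩) hx'
  have hmem : Points.map (c.π.app j.left) (Points.ofPt π w') ∈
      Points.ofPt (α j) '' (O : Set ↥((E ⋙ Over.forget S).obj j)) := by
    refine ⟨(e.π.app j).left w', hw'O, ?_⟩
    rw [← ofPt_yon_map_comp, (sqπ j).w, ← Points.map_ofPt]
  obtain ⟨o, ho, hox⟩ := (h j.left).mem_open (isOpenMap_ofPt (hα j) _ O.2) hmem
  obtain ⟨w, hw₁, hw₂⟩ := exists_of_isPullback (sqπ j) (Points.ofScheme _ o) x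
    (by rw [← Points.ofPt_eq_map_ofScheme, hox])
  rw [← Points.ofScheme_toScheme e.pt w] at hw₁ hw₂
  rw [← Points.ofPt_eq_map_ofScheme] at hw₂
  have hwo : (e.π.app j).left (Points.toScheme e.pt w) = o := by
    have h' := congrArg (Points.toScheme (E.obj j)) hw₁
    erw [← Points.ofPt_eq_map_ofScheme, Points.toScheme_ofPt, Points.toScheme_ofScheme] at h'
    exact h'
  rw [← hw₂]
  exact hOU (show (e.π.app j).left (Points.toScheme e.pt w) ∈ O from hwo ▸ ho)

/-- The closure of a point of a limit is the limit of the closures. -/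
theorem closure_eq (hD : ∀ i, IsAlgSpace (D.obj i))
    (hDa : ∀ (i j : I) (φ : i ⟶ j), IsAffineMor (D.map φ)) {c : Cone D} (hc : IsLimit c)
    (x : Points c.pt) :
    closure {x} =
      {x' | ∀ i, Points.map (c.π.app i) x' ∈ closure {Points.map (c.π.app i) x}} := by
  ext x'
  simp only [Set.mem_setOf_eq, ← specializes_iff_mem_closure]
  exact specializes_iff hD hDa hc x x'

/-- A morphism followed by a monomorphism is affine if the composite is. -/
theorem isAffineMor_of_comp_mono {X Y Z : Sp S} {f : X ⟶ Y} (g : Y ⟶ Z) [Mono g]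
    (h : IsAffineMor (f ≫ g)) : IsAffineMor f := by
  intro W hW a
  obtain ⟨V, fst, snd, sq, hV⟩ := h hW (a ≫ g)
  refine ⟨V, fst, snd, ?_, hV⟩
  refine isPullback_of_yon ?_ (fun T c c' h₁ h₂ ↦ sq.hom_ext h₁ h₂) fun T b b' hb ↦
    ⟨sq.lift b b' (by rw [reassoc_of% hb]), sq.lift_fst _ _ _, sq.lift_snd _ _ _⟩
  rw [← cancel_mono g, Category.assoc, Category.assoc, sq.w]

/-- A surjective closed immersion into a reduced space is an isomorphism. -/
theorem isIso_of_closedImm_surjective {Z L : Sp S} {ℓ : Z ⟶ L} (hL : IsAlgSpace L)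
    (hred : AlgSp.IsReducedSp L) (hℓ : RepWith @IsClosedImmersion ℓ)
    (hs : Function.Surjective (Points.map ℓ)) : IsIso ℓ := by
  obtain ⟨V, π, hπ, hπs⟩ := hL.atlas
  obtain ⟨P, p, fst, sq, hp⟩ := repWith_exists hℓ π
  haveI : IsClosedImmersion p.left := hp
  haveI : AlgebraicGeometry.IsReduced V.left := isReduced_of_etale_chart hL hred hπ
  haveI : Surjective p.left := ⟨fun v ↦ by
    obtain ⟨z, hz⟩ := hs (Points.ofPt π v)
    obtain ⟨q, hq⟩ : v ∈ Set.range p.left := by
      have h1 := preimage_image_map sq Set.univ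
      rw [Set.preimage_univ, Set.image_univ, Set.image_univ] at h1
      rw [← h1]
      exact ⟨z, hz⟩
    exact ⟨q, hq⟩⟩
  haveI : IsIso p.left := isIso_of_isClosedImmersion_of_surjective p.left
  haveI : IsIso ((Over.forget S).map p) := inferInstanceAs (IsIso p.left)
  haveI : IsIso p := isIso_of_reflects_iso p (Over.forget S)
  have hl : ((yon S).map (inv p) ≫ fst) ≫ ℓ = π := by
    rw [Category.assoc, sq.w, ← Category.assoc, ← Functor.map_comp, IsIso.inv_hom_id,
      CategoryTheory.Functor.map_id, Category.id_comp]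
  haveI := isLocallySurjective_of_etale hπ hπs
  haveI : Epi π := Sheaf.epi_of_isLocallySurjective π
  haveI : Epi (((yon S).map (inv p) ≫ fst) ≫ ℓ) := by rw [hl]; infer_instance
  haveI : Epi ℓ := epi_of_epi ((yon S).map (inv p) ≫ fst) ℓ
  haveI : Mono ℓ := mono_of_repWith (P := @IsClosedImmersion)
    (fun _ _ g (_ : IsClosedImmersion g) ↦ (inferInstance : Mono g)) hℓ
  exact isIso_of_mono_of_epi ℓ

end Groth.Agent.Lib.AlgSpLimit.LimClosure

namespace Groth.Agent.Lib.AlgSpLimit.LimClosure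

open AlgSp (Sp yon Representable RepWith IsAlgSpace IsAffineMor Points IsRedInduced)
open Groth.Agent.Lib.AlgSpace Groth.Agent.Lib.AlgSpMor

variable {S : Scheme.{u}} {I : Type u} [SmallCategory I] [IsCofiltered I] {D : I ⥤ Sp S}

/-- The reduced closure of a point of a limit is the limit of the reduced closures. -/
theorem nonempty_isLimit_redInduced (hD : ∀ i, IsAlgSpace (D.obj i))
    (hDa : ∀ (i j : I) (φ : i ⟶ j), IsAffineMor (D.map φ)) {c : Cone D} (hc : IsLimit c)
    (x : Points c.pt) {Z : Sp S} {zι : Z ⟶ c.pt} (hz : IsRedInduced (closure {x}) zι)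
    {DZ : I ⥤ Sp S} (hDZ : ∀ i, IsAlgSpace (DZ.obj i)) (ι : DZ ⟶ D)
    (hι : ∀ i, IsRedInduced (closure {Points.map (c.π.app i) x}) (ι.app i))
    (ξ : (Functor.const I).obj Z ⟶ DZ) (hξ : ∀ i, ξ.app i ≫ ι.app i = zι ≫ c.π.app i) :
    Nonempty (IsLimit (Cone.mk Z ξ)) := by
  have hmι : ∀ i, Mono (ι.app i) := fun i ↦
    mono_of_repWith (P := @IsClosedImmersion) (fun _ _ g (_ : IsClosedImmersion g) ↦
      (inferInstance : Mono g)) (hι i).1
  have hDZa : ∀ (i j : I) (φ : i ⟶ j), IsAffineMor (DZ.map φ) := fun i j φ ↦ by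
    haveI := hmι j
    refine isAffineMor_of_comp_mono (ι.app j) ?_
    rw [ι.naturality φ]
    exact Perm.isAffineMor_comp (Perm.isAffineMor_of_repWith
      (P := @IsClosedImmersion) (fun _ _ g (_ : IsClosedImmersion g) ↦ inferInstance) (hι i).1)
      (hDa i j φ)
  haveI : HasLimit DZ := inferInstance
  let cL := limit.cone DZ
  have hcL : IsLimit cL := limit.isLimit DZ
  let g : cL.pt ⟶ c.pt := hc.lift ((Cone.postcompose ι).obj cL)
  have hg : ∀ i, g ≫ c.π.app i = cL.π.app i ≫ ι.app i := fun i ↦ hc.fac _ i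
  have hgc := closedImmersion_lim ι (fun i ↦ (hι i).1) hcL hc g hg
  haveI : Mono g := mono_of_repWith (P := @IsClosedImmersion)
    (fun _ _ g (_ : IsClosedImmersion g) ↦ (inferInstance : Mono g)) hgc
  let ℓ : Z ⟶ cL.pt := hcL.lift (Cone.mk Z ξ)
  have hℓ : ∀ i, ℓ ≫ cL.π.app i = ξ.app i := fun i ↦ hcL.fac _ i
  have hℓg : ℓ ≫ g = zι := hc.hom_ext fun i ↦ by
    rw [Category.assoc, hg, reassoc_of% hℓ, hξ]
  have hℓc : RepWith @IsClosedImmersion ℓ := by
    have sq : IsPullback ℓ (𝟙 Z) g zι := by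
      refine isPullback_of_yon (by rw [hℓg, Category.id_comp])
        (fun T a b _ h ↦ by simpa using h) fun T a b h ↦ ⟨b, ?_, Category.comp_id _⟩
      rw [← cancel_mono g, Category.assoc, hℓg, h]
    exact repWith_baseChange sq.flip hz.1
  have hL : IsAlgSpace cL.pt := isAlgSpace_pt hDZa hcL (IsCofiltered.nonempty.some) (hDZ _)
  have hs : Function.Surjective (Points.map ℓ) := by
    intro y
    have hy : Points.map g y ∈ closure {x} := by
      rw [closure_eq hD hDa hc x]
      intro i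
      rw [← Points.map_comp, hg, Points.map_comp, ← (hι i).2.1]
      exact ⟨_, rfl⟩
    rw [← hz.2.1] at hy
    obtain ⟨z, hz⟩ := hy
    refine ⟨z, injective_map_of_mono g ?_⟩
    rw [← Points.map_comp, hℓg, hz]
  haveI := isIso_of_closedImm_surjective hL
    (isReducedSp_of_limit hDZ hDZa hcL fun i ↦ (hι i).2.2) hℓc hs
  exact ⟨hcL.ofIsoLimit (Cone.ext (asIso ℓ).symm fun i ↦ by
    rw [Iso.symm_hom, asIso_inv, IsIso.eq_inv_comp]; exact hℓ i)⟩

end Groth.Agent.Lib.AlgSpLimit.LimClosure
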