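import Groth.Agent.Lib.AlgSpLimit.System
import Groth.Agent.Lib.Lim.Topology
import Groth.Agent.Lib.AlgSpace.Points
import Groth.Prelude.Def_AlgSpDec

/-!
# The points of a limit of decent algebraic spaces

Over the residual point of a point of one stage, the system is a system of affine schemes mapping
monomorphically to the stages, so its points are the compatible families of points.
-/

set_option autoImplicit false

universe u

open CategoryTheory CategoryTheory.Limits AlgebraicGeometry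

namespace Groth.Agent.Lib.AlgSpLimit.LimPoints

open AlgSp (Sp yon Representable RepWith IsAlgSpace IsAffineMor Points FieldPt)
open Groth.Agent.Lib.AlgSpace

variable {S : Scheme.{u}} {I : Type u} [SmallCategory I] [IsCofiltered I] {D : I ⥤ Sp S}

/-- The affine system over a point of a stage given by a monomorphism from a field. -/
theorem exists_mono_system (hDa : ∀ (i j : I) (φ : i ⟶ j), IsAffineMor (D.map φ)) {c : Cone D}
    (hc : IsLimit c) {i₀ : I} (hdec : AlgSp.IsDecent (D.obj i₀)) (y : Points (D.obj i₀)) :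
    ∃ (E : CategoryTheory.Over i₀ ⥤ Over S) (e : Cone E)
      (α : ∀ j : CategoryTheory.Over i₀, (yon S).obj (E.obj j) ⟶ D.obj j.left)
      (π : (yon S).obj e.pt ⟶ c.pt),
      Nonempty (IsLimit ((Over.forget S).mapCone e)) ∧ (∀ j, IsAffine (E.obj j).left) ∧
      (∀ j, Mono (α j)) ∧ Mono π ∧
      (∀ {j k} (φ : j ⟶ k), IsPullback ((yon S).map (E.map φ)) (α j) (α k) (D.map φ.left)) ∧
      (∀ j, IsPullback ((yon S).map (e.π.app j)) π (α j) (c.π.app j.left)) ∧
      ∃ z₀ : ↥(E.obj (CategoryTheory.Over.mk (𝟙 i₀))).left,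
        Points.ofPt (α (CategoryTheory.Over.mk (𝟙 i₀))) z₀ = y := by
  obtain ⟨p, hp, hm, -⟩ := hdec y
  obtain ⟨E, e, r, α, π, hr, hlim, hA, -, sqE, hα₀, sqπ⟩ := exists_system hDa hc i₀
    (W₀ := p.pt) (inferInstanceAs (IsAffine (Spec (CommRingCat.of p.K)))) p.toHom
  let j₀ := CategoryTheory.Over.mk (𝟙 i₀)
  haveI := hr
  haveI := hm
  haveI hm₀ : Mono (α j₀) := by rw [hα₀]; infer_instance
  refine ⟨E, e, α, π, hlim, hA, fun j ↦ ?_, (sqπ j₀).mono_snd_of_mono, sqE, sqπ, ?_⟩
  · exact (sqE (CategoryTheory.Over.homMk j.hom (Category.comp_id _) : j ⟶ j₀)).mono_snd_of_mono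
  · refine ⟨(inv r).left (IsLocalRing.closedPoint p.K), ?_⟩
    rw [hα₀, ofPt_yon_map_comp, ← Scheme.Hom.comp_apply, ← Over.comp_left, IsIso.inv_hom_id]
    rw [← hp]
    exact ofPt_fieldPtHom p _

/-- The points of a limit of decent spaces are separated by the projections. -/
theorem points_ext (hDa : ∀ (i j : I) (φ : i ⟶ j), IsAffineMor (D.map φ)) {c : Cone D}
    (hc : IsLimit c) (hdec : ∀ i, AlgSp.IsDecent (D.obj i)) {x x' : Points c.pt}
    (h : ∀ i, Points.map (c.π.app i) x = Points.map (c.π.app i) x') : x = x' := by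
  obtain ⟨i₀⟩ := (IsCofiltered.nonempty : Nonempty I)
  obtain ⟨E, e, α, π, ⟨hlim⟩, hA, hα, hπ, sqE, sqπ, z₀, hz₀⟩ :=
    exists_mono_system hDa hc (hdec i₀) (Points.map (c.π.app i₀) x)
  haveI : ∀ {j k} (g : j ⟶ k), IsAffineHom ((E ⋙ Over.forget S).map g) := fun {j k} g ↦ by
    haveI : IsAffine ((E ⋙ Over.forget S).obj j) := hA j
    haveI : IsAffine ((E ⋙ Over.forget S).obj k) := hA k
    exact isAffineHom_of_isAffine _
  have hlift : ∀ z : Points c.pt, Points.map (c.π.app i₀) z = Points.map (c.π.app i₀) x →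
      ∃ w : ↥e.pt.left, Points.ofPt π w = z := fun z hz ↦ by
    obtain ⟨w, -, hw⟩ := exists_of_isPullback (sqπ (CategoryTheory.Over.mk (𝟙 i₀)))
      (Points.ofScheme _ z₀) z (by
        rw [← Points.ofPt_eq_map_ofScheme, hz₀]
        exact hz.symm)
    exact ⟨Points.toScheme _ w, by rw [Points.ofPt_eq_map_ofScheme, Points.ofScheme_toScheme, hw]⟩
  obtain ⟨w, rfl⟩ := hlift x rfl
  obtain ⟨w', rfl⟩ := hlift x' (h i₀).symm
  refine congrArg _ (Lib.Lim.Topology.point_ext hlim fun j ↦ ?_)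
  haveI := hα j
  have key := h j.left
  rw [Points.map_ofPt, Points.map_ofPt, ← (sqπ j).w, ofPt_yon_map_comp, ofPt_yon_map_comp,
    Points.ofPt_eq_map_ofScheme, Points.ofPt_eq_map_ofScheme] at key
  exact (Points.schemeHomeo _).injective (injective_map_of_mono (α j) key)

/-- Compatible families of points of decent spaces come from points of the limit. -/
theorem exists_point (hDa : ∀ (i j : I) (φ : i ⟶ j), IsAffineMor (D.map φ)) {c : Cone D}
    (hc : IsLimit c) (hdec : ∀ i, AlgSp.IsDecent (D.obj i)) (s : ∀ i, Points (D.obj i))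
    (hs : ∀ (i j : I) (φ : i ⟶ j), Points.map (D.map φ) (s i) = s j) :
    ∃ x : Points c.pt, ∀ i, Points.map (c.π.app i) x = s i := by
  obtain ⟨i₀⟩ := (IsCofiltered.nonempty : Nonempty I)
  obtain ⟨E, e, α, π, ⟨hlim⟩, hA, hα, hπ, sqE, sqπ, z₀, hz₀⟩ :=
    exists_mono_system hDa hc (hdec i₀) (s i₀)
  haveI : ∀ {j k} (g : j ⟶ k), IsAffineHom ((E ⋙ Over.forget S).map g) := fun {j k} g ↦ by
    haveI : IsAffine ((E ⋙ Over.forget S).obj j) := hA j
    haveI : IsAffine ((E ⋙ Over.forget S).obj k) := hA k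
    exact isAffineHom_of_isAffine _
  let j₀ := CategoryTheory.Over.mk (𝟙 i₀)
  have hw : ∀ j, ∃ w : ↥(E.obj j).left, Points.ofPt (α j) w = s j.left := fun j ↦ by
    obtain ⟨w, -, hw⟩ := exists_of_isPullback
      (sqE (CategoryTheory.Over.homMk j.hom (Category.comp_id _) : j ⟶ j₀))
      (Points.ofScheme _ z₀) (s j.left) (by
        rw [← Points.ofPt_eq_map_ofScheme, hz₀]
        exact (hs _ _ _).symm)
    exact ⟨Points.toScheme _ w, by rw [Points.ofPt_eq_map_ofScheme, Points.ofScheme_toScheme, hw]⟩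
  choose w hw using hw
  have hcompat : ∀ {j k : CategoryTheory.Over i₀} (φ : j ⟶ k),
      (E ⋙ Over.forget S).map φ (w j) = w k := by
    intro j k φ
    haveI := hα k
    have key : Points.ofPt (α k) ((E.map φ).left (w j)) = Points.ofPt (α k) (w k) := by
      rw [← ofPt_yon_map_comp, (sqE φ).w, ← Points.map_ofPt, hw, hw, hs]
    rw [Points.ofPt_eq_map_ofScheme, Points.ofPt_eq_map_ofScheme] at key
    exact (Points.schemeHomeo _).injective (injective_map_of_mono (α k) key)
  obtain ⟨y, hy⟩ := Lib.Lim.Topology.exists_point hlim hcompat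
  refine ⟨Points.ofPt π y, fun i ↦ ?_⟩
  obtain ⟨k, φ, ψ, -⟩ := IsCofilteredOrEmpty.cone_objs i₀ i
  have hk : Points.map (c.π.app k) (Points.ofPt π y) = s k := by
    rw [Points.map_ofPt]
    refine (congrArg (fun g ↦ Points.ofPt g (y : ↥e.pt.left))
      (sqπ (CategoryTheory.Over.mk φ)).w.symm).trans ?_
    rw [ofPt_yon_map_comp]
    exact (congrArg _ (hy (CategoryTheory.Over.mk φ))).trans (hw _)
  rw [← c.w ψ, Points.map_comp, hk, hs]

end Groth.Agent.Lib.AlgSpLimit.LimPoints
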