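import Groth.Agent.Lib.AlgSpLimit.Props

/-!
# Monomorphisms to a limit are monomorphisms at some stage
-/

set_option autoImplicit false
set_option linter.style.haveILetI false

universe u

open CategoryTheory CategoryTheory.Limits AlgebraicGeometry

namespace Groth.Agent.Lib.AlgSpLimit

open AlgSp (Sp yon RepWith IsAlgSpace LocP IsAffineMor IsSeparatedMor IsQuasiCompactSp
  IsQuasiSeparatedSp)
open Groth.Agent.Lib.AlgSpace Groth.Agent.Lib.AlgSpMor Groth.Agent.Lib.SourceDescent.Scheme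

variable {S : Scheme.{u}}

attribute [local instance] containsIdentities_lfp

theorem isSeparatedMor_of_isAffineMor {X Y : Sp S} {f : X ⟶ Y} (hX : IsAlgSpace X)
    (hf : IsAffineMor f) : IsSeparatedMor f := by
  refine Sep.repWith_diagonal_of_affine hX.diag fun Z hZ g Q fst snd sq ↦ ?_
  obtain ⟨W, i, a, sqW, hW⟩ := hf hZ g
  let e := sq.isoIsPullback _ _ sqW
  haveI : IsAffine W.left := hW
  haveI : IsAffine Z.left := hZ
  have hd : RepWith @IsClosedImmersion (pullback.diagonal ((yon S).map i)) :=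
    (AlgSp.repWith_diagonal_yon_map_iff _ i).2 inferInstance
  exact Sep.repWith_diagonal_of_eq e (Iso.refl _)
    (by simp only [Iso.refl_hom, Category.comp_id, e, IsPullback.isoIsPullback_hom_snd]) hd

/-- The induced map of self fibre products. -/
noncomputable def mapSelf {Y A B : Sp S} (f : Y ⟶ A) (i : A ⟶ B) (f' : Y ⟶ B) (w : f ≫ i = f') :
    pullback f f ⟶ pullback f' f' :=
  pullback.map f f f' f' (𝟙 Y) (𝟙 Y) i (by simp [w]) (by simp [w])

@[reassoc (attr := simp)]
theorem mapSelf_fst {Y A B : Sp S} (f : Y ⟶ A) (i : A ⟶ B) (f' : Y ⟶ B) (w : f ≫ i = f') :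
    mapSelf f i f' w ≫ pullback.fst f' f' = pullback.fst f f :=
  (pullback.lift_fst _ _ _).trans (Category.comp_id _)

@[reassoc (attr := simp)]
theorem mapSelf_snd {Y A B : Sp S} (f : Y ⟶ A) (i : A ⟶ B) (f' : Y ⟶ B) (w : f ≫ i = f') :
    mapSelf f i f' w ≫ pullback.snd f' f' = pullback.snd f f :=
  (pullback.lift_snd _ _ _).trans (Category.comp_id _)

theorem closedImm_map_diag {Y A B : Sp S} (f : Y ⟶ A) (i : A ⟶ B) (f' : Y ⟶ B) (w : f ≫ i = f')
    (hi : IsSeparatedMor i) :
    RepWith @IsClosedImmersion (mapSelf f i f' w) := by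
  subst w
  exact repWith_baseChange (pullback_map_diagonal_isPullback f f i) hi

theorem qcqs_fibreProd_of [QuasiSeparatedSpace ↥S] {X Y : Sp S} (f : X ⟶ Y) (hX : IsAlgSpace X)
    (hY : IsAlgSpace Y) (hXc : IsQuasiCompactSp X) (hXs : IsQuasiSeparatedSp X)
    (hYs : IsQuasiSeparatedSp Y) :
    IsAlgSpace (pullback f f) ∧ IsQuasiCompactSp (pullback f f) ∧
      IsQuasiSeparatedSp (pullback f f) := by
  have sq := IsPullback.of_hasPullback f f
  have hP : IsAlgSpace (pullback f f) := isAlgSpace_of_isPullback sq hY.diag hX hX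
  refine ⟨hP, (QC.isQuasiCompactSp_iff hP).2 ?_, ?_⟩
  · haveI := QC.compactSpace_points hXc
    obtain ⟨Z, z, hZ, -, hzs⟩ := QC.exists_affine_atlas hX
    haveI := hZ
    have sqQ := IsPullback.of_hasPullback (pullback.snd f f) z
    obtain ⟨-, hQc, -⟩ := qcqs_of_isPullback hX hY hXc hXs hYs (sqQ.paste_horiz sq)
    haveI := QC.compactSpace_points hQc
    exact QC.compactSpace_of_surjective (QC.surjective_of_isPullback' sqQ (surjective_map hzs))
  · exact Perm.repWith_diag_of_mor @QuasiCompact (pullback.snd f f)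
      (Sep.repWith_diagonal_baseChange sq (Sep.repWith_diagonal_of_diag _ f hXs)) hXs

/-- A space with a monomorphism to a limit of quasi-separated spaces is quasi-separated. -/
theorem isQuasiSeparatedSp_of_mono {I : Type u} [SmallCategory I] [IsCofiltered I] {D : I ⥤ Sp S}
    (hD : ∀ i, IsAlgSpace (D.obj i)) (hDa : ∀ (i j : I) (φ : i ⟶ j), IsAffineMor (D.map φ))
    {c : Cone D} (hc : IsLimit c) (i : I) (hqs : IsQuasiSeparatedSp (D.obj i)) {Y : Sp S}
    (y : Y ⟶ c.pt) [Mono y] : IsQuasiSeparatedSp Y := by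
  refine Perm.repWith_diag_of_mor @QuasiCompact y ?_ (Perm.repWith_diag_of_mor @QuasiCompact
    (c.π.app i) ?_ hqs)
  · exact repWith_mono (Proper.isSeparatedMor_of_mono_repWith y)
      fun _ _ g (_ : IsClosedImmersion g) ↦ (inferInstance : QuasiCompact g)
  · exact repWith_mono (isSeparatedMor_of_isAffineMor
      (isAlgSpace_of_representable (representable_π hDa hc i) (hD i)) (isAffineMor_π hDa hc i))
      fun _ _ g (_ : IsClosedImmersion g) ↦ (inferInstance : QuasiCompact g)

theorem eventually_mono_of_limit [QuasiSeparatedSpace ↥S] {I : Type u} [SmallCategory I]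
    [IsCofiltered I] {D : I ⥤ Sp S} (hD : ∀ i, IsAlgSpace (D.obj i))
    (hDa : ∀ (i j : I) (φ : i ⟶ j), IsAffineMor (D.map φ)) {c : Cone D} (hc : IsLimit c)
    (hqs : ∀ i, IsQuasiSeparatedSp (D.obj i)) {Y : Sp S} (hY : IsAlgSpace Y)
    (hYc : IsQuasiCompactSp Y) (y : Y ⟶ c.pt) [Mono y] (i₁ : I)
    (hl : LocP @LocallyOfFiniteType (y ≫ c.π.app i₁)) :
    ∃ i₀ : I, Nonempty (i₀ ⟶ i₁) ∧ ∀ (i : I) (_ : i ⟶ i₀), Mono (y ≫ c.π.app i) := by
  have hYs := isQuasiSeparatedSp_of_mono hD hDa hc i₁ (hqs i₁) y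
  let f : ∀ j : CategoryTheory.Over i₁, Y ⟶ D.obj j.left := fun j ↦ y ≫ c.π.app j.left
  have hf : ∀ {j k : CategoryTheory.Over i₁} (φ : j ⟶ k), f j ≫ D.map φ.left = f k := fun φ ↦ by
    simp [f]
  let T : CategoryTheory.Over i₁ ⥤ Sp S :=
    { obj := fun j ↦ pullback (f j) (f j)
      map := fun {j k} φ ↦ mapSelf (f j) (D.map φ.left) (f k) (hf φ)
      map_id := fun j ↦ by apply pullback.hom_ext <;> simp
      map_comp := fun φ ψ ↦ by apply pullback.hom_ext <;> simp }
  have hT : ∀ j, IsAlgSpace (T.obj j) := fun j ↦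
    (qcqs_fibreProd_of (f j) hY (hD _) hYc hYs (hqs _)).1
  have hTa : ∀ (j k : CategoryTheory.Over i₁) (φ : j ⟶ k), IsAffineMor (T.map φ) := fun j k φ ↦
    Perm.isAffineMor_of_repWith (fun _ _ g (_ : IsClosedImmersion g) ↦ inferInstance)
      (closedImm_map_diag (f j) (D.map φ.left) (f k) (hf φ)
        (isSeparatedMor_of_isAffineMor (hD _) (hDa _ _ φ.left)))
  let cT : Cone T :=
    { pt := Y
      π :=
        { app := fun j ↦ pullback.diagonal (f j)
          naturality := fun j k φ ↦ by apply pullback.hom_ext <;> simp [T] } }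
  haveI : IsConnected (CategoryTheory.Over i₁) := IsCofiltered.isConnected _
  have hw : ∀ (s : Cone T) {j k : CategoryTheory.Over i₁} (φ : j ⟶ k),
      s.π.app j ≫ pullback.fst (f j) (f j) = s.π.app k ≫ pullback.fst (f k) (f k) ∧
      s.π.app j ≫ pullback.snd (f j) (f j) = s.π.app k ≫ pullback.snd (f k) (f k) := fun s j k φ ↦ by
    constructor <;>
    · rw [← s.w φ]
      simp [T]
  let j₀ := CategoryTheory.Over.mk (𝟙 i₁)
  let τ : ∀ j : CategoryTheory.Over i₁, j ⟶ j₀ := fun j ↦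
    CategoryTheory.Over.homMk j.hom (Category.comp_id _)
  have heq : ∀ s : Cone T,
      s.π.app j₀ ≫ pullback.fst (f j₀) (f j₀) = s.π.app j₀ ≫ pullback.snd (f j₀) (f j₀) := fun s ↦ by
    rw [← cancel_mono y]
    refine ((Functor.Initial.isLimitWhiskerEquiv (CategoryTheory.Over.forget i₁) c).symm hc).hom_ext
      fun j ↦ ?_
    show (_ ≫ y) ≫ c.π.app j.left = (_ ≫ y) ≫ c.π.app j.left
    rw [← (hw s (τ j)).1, ← (hw s (τ j)).2]
    simp only [Category.assoc]
    exact congrArg (s.π.app j ≫ ·) pullback.condition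
  have hcT : IsLimit cT :=
    { lift := fun s ↦ s.π.app j₀ ≫ pullback.fst (f j₀) (f j₀)
      fac := fun s j ↦ by
        apply pullback.hom_ext
        · simp [cT, (hw s (τ j)).1]
        · simp [cT, (hw s (τ j)).2, heq]
      uniq := fun s m hm ↦ by simp [← hm j₀, cT] }
  haveI : Mono (pullback.diagonal (f j₀)) := inferInstance
  obtain ⟨hfp, hfc, hfs⟩ := qcqs_fibreProd_of (f j₀) hY (hD _) hYc hYs (hqs _)
  let σ : Setup T j₀ (pullback.diagonal (f j₀)) (𝟙 (T.obj j₀)) :=
    { hD := hT, hDa := hTa, c := cT, hc := hcT, hX₀ := hY, hY₀ := hT j₀, hXc := hYc, hXs := hYs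
      hYc := hfc, hYs := hfs, X := Y, Y := Y, f := 𝟙 Y, pY := pullback.diagonal (f j₀), qY := 𝟙 Y
      hY := IsPullback.of_vert_isIso ⟨by simp [cT]; exact Category.comp_id _⟩
      pX := 𝟙 Y
      hX := IsKernelPair.id_of_mono _ }
  haveI : IsIso σ.f := inferInstanceAs (IsIso (𝟙 Y))
  have hlfp : LocP @LocallyOfFinitePresentation (pullback.diagonal (f j₀)) := by
    refine LocP.locP_of_comp (P := @LocallyOfFinitePresentation) (R := @LocallyOfFiniteType)
      locallyOfFinitePresentation (fun f g h hg ↦ Cancel.locallyOfFinitePresentation_of_comp h hg)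
      hY (hT j₀) hY (g := pullback.fst (f j₀) (f j₀)) ?_
      (LocP.locP_of_isPullback locallyOfFiniteType hY (hD _) hY
        (IsPullback.of_hasPullback (f j₀) (f j₀)).flip hl)
    rw [pullback.diagonal_fst]
    exact LocP.locP_of_repWith locallyOfFinitePresentation (repWith_of_isIso _ _)
  obtain ⟨j, φ, hj⟩ := σ.eventually_isIso hlfp
  have hiso : IsIso (pullback.snd (pullback.diagonal (f j₀)) (T.map φ)) :=
    hj _ _ _ (T.map φ) (𝟙 _) (IsPullback.of_vert_isIso ⟨(Category.comp_id _).trans (Category.id_comp _).symm⟩) _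
      (IsPullback.of_hasPullback _ _)
  have hmono : Mono (y ≫ c.π.app j.left) := ⟨fun {Z} a b hab ↦ by
    let l : Z ⟶ T.obj j := pullback.lift a b hab
    have h : (inv (pullback.snd (pullback.diagonal (f j₀)) (T.map φ)) ≫
        pullback.fst (pullback.diagonal (f j₀)) (T.map φ)) ≫ pullback.diagonal (f j₀) = T.map φ := by
      rw [Category.assoc, pullback.condition, IsIso.inv_hom_id_assoc]
    have h1 := congr(l ≫ $h ≫ pullback.fst _ _)
    have h2 := congr(l ≫ $h ≫ pullback.snd _ _)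
    simp [T, l] at h1 h2
    exact ((pullback.lift_fst _ _ _).symm.trans (h1.symm.trans h2)).trans (pullback.lift_snd _ _ _)⟩
  refine ⟨j.left, ⟨j.hom⟩, fun i ψ ↦ ?_⟩
  haveI : Mono ((y ≫ c.π.app i) ≫ D.map ψ) := by rwa [Category.assoc, c.w]
  exact mono_of_mono _ (D.map ψ)

end Groth.Agent.Lib.AlgSpLimit
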