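import Groth.Agent.Lib.AlgSpLimit.Stage
import Groth.Agent.Lib.AlgSpMor.MonoLft
import Groth.Agent.Lib.AlgSpMor.LqfRep
import Groth.Agent.Lib.AlgSpMor.Cancel
import Groth.Agent.Lib.AlgSpFormal.Charts
import Groth.Agent.Lib.AlgSpDecent.OpenScheme
import Groth.Agent.Lib.Lim.Props
import Groth.Agent.Lib.Lim.SmoothEtale
import Groth.Agent.Lib.Lim.QuasiFinite
import Groth.Agent.H47.LimDescend

/-!
# Descent along limits: injectivity, isomorphisms, closed immersions, finite and separated morphisms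
-/

set_option autoImplicit false
set_option linter.style.haveILetI false

universe u

open CategoryTheory CategoryTheory.Limits AlgebraicGeometry

namespace Groth.Agent.Lib.AlgSpLimit

open AlgSp (Sp yon Representable RepWith IsAlgSpace LocP)
open Groth.Agent.Lib.AlgSpace Groth.Agent.Lib.AlgSpMor Groth.Agent.Lib.SourceDescent.Scheme
  Groth.Agent.Lib.Lim.Descend

variable {S : Scheme.{u}}

/-- Properties of representable morphisms descend. -/
theorem spDescends_repWith [QuasiSeparatedSpace ↥S] {P Q : MorphismProperty Scheme.{u}}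
    [P.IsStableUnderBaseChange] (H : Descends P Q) :
    SpDescends (S := S) (RepWith P) (RepWith Q) := by
  intro J _ _ E e he hA hea j₀ P₀ hP₀ hc hqs p hQp P₁ fst snd sq hPs
  obtain ⟨Z, g, a, sqZ, hg⟩ := repWith_exists hQp (𝟙 _)
  haveI : IsIso a := sqZ.isIso_fst_of_isIso
  have w : a ≫ p = (yon S).map g := by rw [sqZ.w, Category.comp_id]
  haveI := QC.compactSpace_points hc
  haveI : CompactSpace (AlgSp.Points ((yon S).obj Z)) :=
    (Topo.homeoOfIso (asIso a)).symm.compactSpace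
  haveI : CompactSpace ↥Z.left := (AlgSp.Points.schemeHomeo Z).symm.compactSpace
  haveI : QuasiSeparatedSpace ↥Z.left := by
    haveI : MorphismProperty.ContainsIdentities (@QuasiCompact : MorphismProperty Scheme.{u}) :=
      ⟨fun X ↦ inferInstanceAs (QuasiCompact (𝟙 X))⟩
    have h2 : RepWith @QuasiCompact (Limits.diag ((yon S).obj Z)) :=
      Perm.repWith_diag_of_mor @QuasiCompact a (repWith_of_isIso _ _) hqs
    rw [AlgSp.repWith_diag_yon_iff] at h2
    haveI : QuasiSeparated Z.hom := ⟨h2⟩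
    exact quasiSeparatedSpace_of_quasiSeparated Z.hom
  have bc : ∀ {P' : Sp S} {T : Over S} {h : T ⟶ E.obj j₀} {f' : P' ⟶ P₀}
      {s : P' ⟶ (yon S).obj T}, IsPullback f' s p ((yon S).map h) →
      ∃ k : (yon S).obj (pullback g h) ⟶ P', IsIso k ∧ k ≫ s = (yon S).map (pullback.snd g h) := by
    intro P' T h f' s sq'
    have sqg : IsPullback ((yon S).map (pullback.fst g h) ≫ a) ((yon S).map (pullback.snd g h)) p
        ((yon S).map h) := by
      have := (isPullback_yon (IsPullback.of_hasPullback g h)).paste_horiz sqZ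
      rwa [Category.comp_id] at this
    exact ⟨(sqg.isoIsPullback _ _ sq').hom, inferInstance, IsPullback.isoIsPullback_hom_snd _ _ _ _⟩
  obtain ⟨k₁, hk₁, w₁⟩ := bc sq
  obtain ⟨j, φ, hj⟩ := exists_stage H E e he hA j₀ g hg ((AlgSp.repWith_yon_map_iff _ _).1 (by
    rw [← w₁]
    exact (repWith_iso_comp_iff _ k₁ snd).2 hPs))
  refine ⟨j, φ, fun P' fst' snd' sq' ↦ ?_⟩
  obtain ⟨k, hk, w'⟩ := bc sq'
  rw [← repWith_iso_comp_iff _ k snd', w']
  exact (AlgSp.repWith_yon_map_iff _ _).2 hj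

theorem chartLocal_repWith {P : MorphismProperty Scheme.{u}} [P.IsStableUnderBaseChange]
    [P.IsLocalAtTarget Scheme.fppfPrecoverage]
    (heff : ∀ ⦃A B : Scheme.{u}⦄ (p : A ⟶ B), AlgSpace.fppfCover p → ∀ D : Desc.SchDD p, P D.obj.hom →
      ∃ (U : CategoryTheory.Over B) (q : D.obj.left ⟶ U.left), Lib.FFDesc.IsDescended D U q) :
    ChartLocal (S := S) (RepWith P) :=
  fun _ _ _ _ _ _ _ _ _ hY he hs sq h ↦ RepDescent.repWith_of_cover P heff hY.diag he hs sq h

theorem containsIdentities_lfp :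
    MorphismProperty.ContainsIdentities (@LocallyOfFinitePresentation : MorphismProperty Scheme.{u}) :=
  ⟨fun X ↦ inferInstanceAs (LocallyOfFinitePresentation (𝟙 X))⟩

theorem containsIdentities_etale :
    MorphismProperty.ContainsIdentities (@Etale : MorphismProperty Scheme.{u}) :=
  ⟨fun X ↦ inferInstanceAs (Etale (𝟙 X))⟩

attribute [local instance] containsIdentities_lfp containsIdentities_etale

namespace Setup

variable [QuasiSeparatedSpace ↥S] {I : Type u} [SmallCategory I] [IsCofiltered I] {D : I ⥤ Sp S}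
  {i₀ : I} {X₀ Y₀ : Sp S} {f₀ : X₀ ⟶ Y₀} {b₀ : Y₀ ⟶ D.obj i₀} (σ : Setup D i₀ f₀ b₀)
include σ

theorem eventually_locP {P Q : MorphismProperty Scheme.{u}} (hP : EtaleLocalST P)
    (hQ : EtaleLocalST Q) (H : Descends P Q) (h₀ : LocP Q f₀) (hf : LocP P σ.f) :
    Eventually D f₀ b₀ (LocP P) :=
  σ.descend (spDescends_locP hP H) (chartLocal_locP hP)
    (fun _ _ _ _ _ _ _ _ hX hY hY' sq h ↦ LocP.locP_of_isPullback hP hX hY hY' sq h)
    (fun _ _ _ _ _ _ _ _ hX hY hY' sq h ↦ LocP.locP_of_isPullback hQ hX hY hY' sq h) h₀ hf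

theorem eventually_surjective (h₀ : LocP @LocallyOfFinitePresentation f₀)
    (hf : AlgSp.IsSurjectiveMor σ.f) : Eventually D f₀ b₀ AlgSp.IsSurjectiveMor :=
  σ.descend (spDescends_surjective H47.LimDescend.surjective_descends) chartLocal_surjective
    (fun _ _ _ _ _ _ _ _ _ _ _ sq h ↦ QC.surjective_of_isPullback sq h)
    (fun _ _ _ _ _ _ _ _ hX hY hY' sq h ↦
      LocP.locP_of_isPullback locallyOfFinitePresentation hX hY hY' sq h) h₀ hf

theorem locP_lfp_diag (h₀ : LocP @LocallyOfFiniteType f₀) :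
    LocP @LocallyOfFinitePresentation (pullback.diagonal f₀) := by
  refine LocP.locP_of_comp (P := @LocallyOfFinitePresentation) (R := @LocallyOfFiniteType)
    locallyOfFinitePresentation (fun f g h hg ↦ Cancel.locallyOfFinitePresentation_of_comp h hg)
    σ.hX₀ σ.qcqs_fibreProd.1 σ.hX₀ (g := pullback.fst f₀ f₀) ?_
    (LocP.locP_of_isPullback locallyOfFiniteType σ.hX₀ σ.hY₀ σ.hX₀
      (IsPullback.of_hasPullback f₀ f₀).flip h₀)
  rw [pullback.diagonal_fst]
  exact LocP.locP_of_repWith locallyOfFinitePresentation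
    (repWith_of_isIso _ _)

theorem eventually_univInj (h₀ : LocP @LocallyOfFiniteType f₀)
    (hf : AlgSp.IsUnivInjectiveMor σ.f) : Eventually D f₀ b₀ AlgSp.IsUnivInjectiveMor :=
  σ.eventually_imp (σ.eventually_diag (σ.diag.eventually_surjective (σ.locP_lfp_diag h₀)
    (UnivInj.surjective_diagonal_of_isUnivInjectiveMor hf)))
    fun _ _ _ _ _ h ↦ UnivInj.isUnivInjectiveMor_of_surjective_diagonal h

theorem eventually_isIso (h₀ : LocP @LocallyOfFinitePresentation f₀) [IsIso σ.f] :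
    Eventually D f₀ b₀ (MorphismProperty.isomorphisms (Sp S)) := by
  have hlft : LocP @LocallyOfFiniteType f₀ := fun U V a b g ha hb w ↦
    haveI : LocallyOfFinitePresentation g.left := h₀ a b g ha hb w
    inferInstance
  have h1 := σ.eventually_locP etale locallyOfFinitePresentation
    Lim.SmoothEtale.etale_descends h₀
    (LocP.locP_of_repWith etale (repWith_of_isIso _ _))
  have h2 := σ.eventually_surjective h₀ fun y ↦
    ⟨AlgSp.Points.map (inv σ.f) y, by rw [← AlgSp.Points.map_comp, IsIso.inv_hom_id,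
      AlgSp.Points.map_id]⟩
  have h3 := σ.eventually_univInj hlft MonoLft.isUnivInjectiveMor_of_mono
  have h12 := σ.eventually_and h1 h2
    (fun _ _ _ _ _ _ _ _ hX hY hY' sq h ↦ LocP.locP_of_isPullback etale hX hY hY' sq h)
    (fun _ _ _ _ _ _ _ _ _ _ _ sq h ↦ QC.surjective_of_isPullback sq h)
  have h123 := σ.eventually_and h12 h3
    (fun _ _ _ _ _ _ _ _ hX hY hY' sq h ↦ ⟨LocP.locP_of_isPullback etale hX hY hY' sq h.1,
      QC.surjective_of_isPullback sq h.2⟩)
    (fun _ _ _ _ _ _ _ _ _ _ _ sq h Z P hZ _ _ _ sq' ↦ h hZ _ _ _ (sq'.paste_horiz sq))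
  refine σ.eventually_imp h123 fun X Y f hX hY ⟨⟨he, hs⟩, hi⟩ ↦ ?_
  haveI : Mono f := MonoLft.mono_of_unramified_univInj hX hY (fun U V a b g ha hb w ↦
    haveI : Etale g.left := he a b g ha hb w
    ⟨inferInstance, inferInstance⟩) hi
  obtain ⟨U, a, ha, has⟩ := hX.atlas
  exact AlgSpDecent.OpenScheme.isIso_of_surjective
    (EtaleMono.repWith_openImmersion_of_mono hY.diag ha has
      ((AlgSpFormal.Charts.isEtaleMor_iff_locP hX hY f).2 he a ha)) hs

theorem eventually_mono (h₀ : LocP @LocallyOfFiniteType f₀) [Mono σ.f] :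
    Eventually D f₀ b₀ (MorphismProperty.monomorphisms (Sp S)) := by
  haveI : IsIso σ.diag.f := inferInstanceAs (IsIso (pullback.diagonal σ.f))
  exact σ.eventually_imp (σ.eventually_diag (σ.diag.eventually_isIso (σ.locP_lfp_diag h₀)))
    fun _ _ f _ _ h ↦ (pullback.isIso_diagonal_iff f).1 h

theorem eventually_closedImm (h₀ : LocP @LocallyOfFiniteType f₀)
    (hf : RepWith @IsClosedImmersion σ.f) : Eventually D f₀ b₀ (RepWith @IsClosedImmersion) := by
  haveI : Mono σ.f := (MonoLft.props_of_closedImmersion hf).2.2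
  obtain ⟨i, φ, hi⟩ := σ.eventually_mono h₀
  have sqY := IsPullback.of_hasPullback b₀ (D.map φ)
  have sqX := IsPullback.of_hasPullback f₀ (pullback.fst b₀ (D.map φ))
  haveI := (hi _ _ _ _ _ sqY _ sqX : Mono _)
  have hl := LocP.locP_of_isPullback locallyOfFiniteType σ.hX₀ σ.hY₀
    (σ.isAlgSpace_stage sqY sqX).2 sqX h₀
  have hr := RepBySp.repWith_sepLqf_of_mono (σ.isAlgSpace_stage sqY sqX).1
    (σ.isAlgSpace_stage sqY sqX).2 hl
  haveI := Sep.isLocalAtTarget_fppf_isClosedImmersion.{u}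
  exact eventually_of_stage ((σ.restrict φ).descend
    (spDescends_repWith Lim.Props.isClosedImmersion_descends)
    (chartLocal_repWith RepDescent.effective_isClosedImmersion)
    (fun _ _ _ _ _ _ _ _ _ _ _ sq h ↦ repWith_baseChange sq h)
    (fun _ _ _ _ _ _ _ _ _ _ _ sq h ↦ repWith_baseChange sq h)
    (LocP.repWith_of_locP locallyOfFiniteType (σ.isAlgSpace_stage sqY sqX).2 hr.1 hl) hf)

theorem eventually_separated (hf : AlgSp.IsSeparatedMor σ.f) :
    Eventually D f₀ b₀ AlgSp.IsSeparatedMor :=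
  σ.eventually_diag (σ.diag.eventually_closedImm
    (LocP.locP_of_repWith locallyOfFiniteType (Sep.diagonal_props f₀ σ.hX₀).2.1) hf)

theorem eventually_finite (h₀ : LocP @LocallyOfFiniteType f₀) (hf : AlgSp.IsFiniteMor σ.f) :
    Eventually D f₀ b₀ AlgSp.IsFiniteMor := by
  obtain ⟨hp, hq⟩ := MonoLft.props_of_finite σ.isAlgSpace_Y hf
  obtain ⟨i, φ, hi⟩ := σ.eventually_and (σ.eventually_separated hp.1)
    (σ.eventually_locP locallyQuasiFinite locallyOfFiniteType
      Lim.QuasiFinite.locallyQuasiFinite_descends h₀ fun U V a b g ha hb w ↦ (hq a b g ha hb w).1)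
    (fun _ _ _ _ _ _ _ _ _ _ _ sq h ↦ Sep.repWith_diagonal_baseChange sq h)
    (fun _ _ _ _ _ _ _ _ hX hY hY' sq h ↦
      LocP.locP_of_isPullback locallyQuasiFinite hX hY hY' sq h)
  have sqY := IsPullback.of_hasPullback b₀ (D.map φ)
  have sqX := IsPullback.of_hasPullback f₀ (pullback.fst b₀ (D.map φ))
  have hl := LocP.locP_of_isPullback locallyOfFiniteType σ.hX₀ σ.hY₀
    (σ.isAlgSpace_stage sqY sqX).2 sqX h₀
  obtain ⟨hs, hqi⟩ := hi _ _ _ _ _ sqY _ sqX
  have hr := LqfRep.representable (σ.isAlgSpace_stage sqY sqX).1 (σ.isAlgSpace_stage sqY sqX).2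
    (fun U V a b g ha hb w ↦ ⟨hqi a b g ha hb w, hl a b g ha hb w⟩) hs
  haveI := AffineDescent.isLocalAtTarget_isFinite.{u}
  refine σ.eventually_imp (eventually_of_stage ((σ.restrict φ).descend
    (spDescends_repWith Lim.Props.isFinite_descends)
    (chartLocal_repWith AffineDescent.effective_isFinite)
    (fun _ _ _ _ _ _ _ _ _ _ _ sq h ↦ repWith_baseChange sq h)
    (fun _ _ _ _ _ _ _ _ _ _ _ sq h ↦ repWith_baseChange sq h)
    (LocP.repWith_of_locP locallyOfFiniteType (σ.isAlgSpace_stage sqY sqX).2 hr hl)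
    (AffineDescent.isFiniteMor_iff.1 hf))) fun _ _ _ _ _ h ↦ AffineDescent.isFiniteMor_iff.2 h

end Setup

end Groth.Agent.Lib.AlgSpLimit
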