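import Groth.Agent.Lib.AlgSpLimit.LfpLift
import Groth.Agent.Lib.AlgSpLimit.Points
import Groth.Agent.Lib.AlgSpMor.DiagCharts
import Groth.Agent.Lib.AlgSpLimit.Affine

/-!
# Lifting maps from a limit of spaces
-/

set_option autoImplicit false
set_option linter.style.haveILetI false
set_option backward.isDefEq.respectTransparency false
set_option backward.isDefEq.respectTransparency.types false

universe u

open CategoryTheory CategoryTheory.Limits AlgebraicGeometry

namespace Groth.Agent.Lib.AlgSpLimit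

open AlgSp (Sp yon RepWith IsAlgSpace LocP IsAffineMor IsQuasiCompactSp IsQuasiSeparatedSp)
open Groth.Agent.Lib.AlgSpace Groth.Agent.Lib.AlgSpMor Groth.Agent.Lib.AlgSpRelLP

variable {S : Scheme.{u}}

/-- Two maps from a stage of a system of spaces with the same image which agree on the limit agree
at a later stage. -/
theorem exists_space_eq_stage {I : Type u} [SmallCategory I] [IsCofiltered I] {D : I ⥤ Sp S}
    (hD : ∀ i, IsAlgSpace (D.obj i)) (hDa : ∀ (i j : I) (φ : i ⟶ j), IsAffineMor (D.map φ))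
    (hqc : ∀ i, IsQuasiCompactSp (D.obj i)) {c : Cone D} (hc : IsLimit c)
    {X Y : Sp S} (hX : IsAlgSpace X) (hY : IsAlgSpace Y) {f : X ⟶ Y}
    (hf : LocP @LocallyOfFiniteType f) {i : I} {u v : D.obj i ⟶ X} (huv : u ≫ f = v ≫ f)
    (h : c.π.app i ≫ u = c.π.app i ≫ v) :
    ∃ (j : I) (χ : j ⟶ i), D.map χ ≫ u = D.map χ ≫ v := by
  obtain ⟨E, e, α, π, ⟨hlim⟩, hA, -, sqE, sqπ, hα, -, -⟩ :=
    exists_atlas_system hDa hc i (hD i) (hqc i)
  let j₀ := CategoryTheory.Over.mk (𝟙 i)
  have hu : (α j₀ ≫ u) ≫ f = (α j₀ ≫ v) ≫ f := by rw [Category.assoc, Category.assoc, huv]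
  have hπ : (yon S).map (e.π.app j₀) ≫ α j₀ ≫ u = (yon S).map (e.π.app j₀) ≫ α j₀ ≫ v := by
    rw [← Category.assoc, ← Category.assoc, (sqπ j₀).w, Category.assoc, Category.assoc]
    exact congrArg (π ≫ ·) h
  obtain ⟨k, ψ, hk⟩ := exists_hom_eq_stage E hX hY hf hlim hA hu hπ
  rw [← Category.assoc, ← Category.assoc, (sqE ψ).w, Category.assoc, Category.assoc] at hk
  haveI := isLocallySurjective_of_etale (hα k).1 (hα k).2
  exact ⟨k.left, ψ.left, (cancel_epi (α k)).1 hk⟩

/-- A morphism locally of finite presentation lifts maps from a limit of spaces to a stage. -/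
theorem exists_space_lift_stage [QuasiSeparatedSpace ↥S] {I : Type u} [SmallCategory I]
    [IsCofiltered I] {D : I ⥤ Sp S}
    (hD : ∀ i, IsAlgSpace (D.obj i)) (hDa : ∀ (i j : I) (φ : i ⟶ j), IsAffineMor (D.map φ))
    (hqc : ∀ i, IsQuasiCompactSp (D.obj i)) (hqs : ∀ i, IsQuasiSeparatedSp (D.obj i))
    {c : Cone D} (hc : IsLimit c) {X Y : Sp S} (hX : IsAlgSpace X) (hY : IsAlgSpace Y) {f : X ⟶ Y}
    (hf : LocP @LocallyOfFinitePresentation f) {i : I} (x : c.pt ⟶ X) (y : D.obj i ⟶ Y)
    (h : x ≫ f = c.π.app i ≫ y) :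
    ∃ (j : I) (v : j ⟶ i) (x' : D.obj j ⟶ X), x' ≫ f = D.map v ≫ y ∧ c.π.app j ≫ x' = x := by
  obtain ⟨E, e, α, π, ⟨hlim⟩, hA, hT, sqE, sqπ, hα, hπe, hπs⟩ :=
    exists_atlas_system hDa hc i (hD i) (hqc i)
  let j₀ := CategoryTheory.Over.mk (𝟙 i)
  obtain ⟨j, ψ, xj, hxj, hxj'⟩ := exists_hom_lift_stage E hX hY hf hlim hA hT (i := j₀) (π ≫ x)
    (α j₀ ≫ y) (by
      rw [Category.assoc, h, ← Category.assoc ((yon S).map (e.π.app j₀)), (sqπ j₀).w,
        Category.assoc]
      rfl)
  have hxjf : xj ≫ f = α j ≫ D.map ψ.left ≫ y := by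
    rw [hxj, ← Category.assoc, (sqE ψ).w, Category.assoc]
  -- the two maps from the overlap agree at a later stage
  obtain ⟨R, s, t, sqR⟩ := exists_isPullback_yon (hD j.left).diag (α j) (α j)
  haveI := hA j
  haveI : CompactSpace ↥R.left := DiagCharts.compactSpace_of_isQuasiSeparatedSp (hqs j.left) sqR
  haveI : QuasiSeparatedSpace ↥R.left := by
    obtain ⟨-, -, hs'⟩ := qcqs_of_isPullback (IsAlgSpace.yon_obj (E.obj j)) (hD j.left)
      QC.isQuasiCompactSp_yon (by
        show RepWith @QuasiCompact _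
        rw [AlgSp.repWith_diag_yon_iff]
        haveI : QuasiSeparated (E.obj j).hom := inferInstance
        infer_instance) (hqs j.left) sqR
    change RepWith @QuasiCompact _ at hs'
    rw [AlgSp.repWith_diag_yon_iff] at hs'
    haveI : QuasiSeparated R.hom := ⟨hs'⟩
    exact quasiSeparatedSpace_of_quasiSeparated R.hom
  have hfst : ∀ o : CategoryTheory.Over j, IsAffineHom (pullback.fst s (E.map o.hom)).left := by
    intro o
    haveI := hA o.left
    exact MorphismProperty.of_isPullback (P := @IsAffineHom) (isPullback_left s (E.map o.hom)).flip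
      (isAffineHom_of_isAffine _)
  have hK : ∀ o, CompactSpace ↥((bcD E s).obj o).left := fun o ↦
    haveI := hfst o
    QuasiCompact.compactSpace_of_compactSpace (pullback.fst s (E.map o.hom)).left
  have hQ : ∀ o, QuasiSeparatedSpace ↥((bcD E s).obj o).left := fun o ↦
    haveI := hfst o
    quasiSeparatedSpace_of_quasiSeparated (pullback.fst s (E.map o.hom)).left
  have hH : ∀ {o o' : CategoryTheory.Over j} (φ : o ⟶ o'),
      IsAffineHom ((bcD E s).map φ).left := by
    intro o o' φ
    haveI := hfst o'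
    haveI : IsAffineHom (((bcD E s).map φ).left ≫ (pullback.fst s (E.map o'.hom)).left) := by
      have e' := congrArg (fun g ↦ CategoryTheory.Over.Hom.left g) (bcD_fst E s φ)
      rw [CategoryTheory.Over.comp_left] at e'
      exact e' ▸ hfst o
    exact IsAffineHom.of_comp _ (pullback.fst s (E.map o'.hom)).left
  let k₁ := CategoryTheory.Over.mk (𝟙 j)
  let F : (bcD E s).obj k₁ ⟶ R := pullback.fst s (E.map k₁.hom)
  obtain ⟨hlimR⟩ := nonempty_isLimit_bcC (g := s) hlim
  have hF : pr (bcC E s e) k₁ ≫ F = pullback.fst s (pr e j) := pr_bcC_fst E s e k₁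
  have hT' : (yon S).map (pullback.fst s (pr e j)) ≫ (yon S).map s ≫ xj =
      (yon S).map (pullback.fst s (pr e j)) ≫ (yon S).map t ≫ xj := by
    let q := (sqπ j).lift ((yon S).map (pullback.fst s (pr e j) ≫ t))
      ((yon S).map (pullback.snd s (pr e j)) ≫ π) (by
        rw [Functor.map_comp, Category.assoc, ← sqR.w, ← Category.assoc, ← Functor.map_comp,
          pullback.condition, Functor.map_comp, Category.assoc, (sqπ j).w, Category.assoc])
    have h1 : (yon S).map (pullback.fst s (pr e j) ≫ t) = q ≫ (yon S).map (e.π.app j) :=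
      ((sqπ j).lift_fst _ _ _).symm
    have h2 : q ≫ π = (yon S).map (pullback.snd s (pr e j)) ≫ π := (sqπ j).lift_snd _ _ _
    rw [← Category.assoc, ← Category.assoc, ← Functor.map_comp, ← Functor.map_comp, h1,
      pullback.condition, Functor.map_comp, Category.assoc, Category.assoc, hxj',
      ← Category.assoc, ← Category.assoc, h2]
  obtain ⟨o, χ, ho⟩ := exists_hom_eq_stage_qcqs (bcD E s) hX hY
    (f := f) (fun _ _ a' b' h' ha' hb' w' ↦ by
      haveI : LocallyOfFinitePresentation h'.left := hf a' b' h' ha' hb' w'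
      exact (inferInstance : LocallyOfFiniteType h'.left))
    hlimR hK hQ hH (i := k₁) (u := (yon S).map F ≫ (yon S).map s ≫ xj)
    (v := (yon S).map F ≫ (yon S).map t ≫ xj) (by
      simp only [Category.assoc, hxjf]
      rw [reassoc_of% sqR.w])
    (by
      rw [← Category.assoc, ← Category.assoc ((yon S).map (Cone.π (bcC E s e) |>.app k₁)),
        ← Functor.map_comp]
      erw [hF]
      exact hT')
  have hχ : (bcD E s).map χ ≫ F = pullback.fst s (E.map o.hom) := bcD_fst E s χ
  rw [← Category.assoc, ← Category.assoc ((yon S).map ((bcD E s).map χ)), ← Functor.map_comp,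
    hχ] at ho
  -- descend at the stage `o`
  let k := o.left
  obtain ⟨R', p₁, p₂, sqR'⟩ := exists_isPullback_yon (hD k.left).diag (α k) (α k)
  let xk := (yon S).map (E.map o.hom) ≫ xj
  obtain ⟨r, hr⟩ := (yon S).map_surjective (sqR.lift ((yon S).map (p₁ ≫ E.map o.hom))
    ((yon S).map (p₂ ≫ E.map o.hom)) (by
      rw [Functor.map_comp, Functor.map_comp, Category.assoc, Category.assoc, (sqE o.hom).w,
        ← Category.assoc, sqR'.w, Category.assoc]))
  have hr₁ : r ≫ s = p₁ ≫ E.map o.hom := (yon S).map_injective (by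
    rw [Functor.map_comp, hr, sqR.lift_fst])
  have hr₂ : r ≫ t = p₂ ≫ E.map o.hom := (yon S).map_injective (by
    rw [Functor.map_comp, hr, sqR.lift_snd])
  have hxk : (yon S).map p₁ ≫ xk = (yon S).map p₂ ≫ xk := by
    have := congrArg ((yon S).map (pullback.lift r p₁ hr₁) ≫ ·) ho
    simp only [← Category.assoc, ← Functor.map_comp] at this
    rw [pullback.lift_fst, hr₁, hr₂] at this
    simpa only [xk, ← Category.assoc, ← Functor.map_comp] using this
  haveI := isLocallySurjective_of_etale (hα k).1 (hα k).2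
  obtain ⟨x', hx'⟩ := exists_desc (α k) sqR' xk hxk
  refine ⟨k.left, o.hom.left ≫ ψ.left, x', ?_, ?_⟩
  · rw [← cancel_epi (α k), reassoc_of% hx']
    simp only [xk, Category.assoc, hxjf]
    rw [reassoc_of% (sqE o.hom).w, D.map_comp, Category.assoc]
  · haveI := isLocallySurjective_of_etale hπe hπs
    rw [← cancel_epi π, ← Category.assoc, ← (sqπ k).w, Category.assoc, hx']
    simp only [xk]
    rw [← Category.assoc, ← Functor.map_comp, e.w o.hom, hxj']

end Groth.Agent.Lib.AlgSpLimit
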