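import Groth.Agent.Lib.AlgSpace.Diag
import Groth.Agent.Lib.Lim.Existence
import Groth.Agent.Lib.AlgSpMor.AffineDescent

/-!
# Affine chart systems for cofiltered limits of algebraic spaces

For a cofiltered system `D` of sheaves with affine transition morphisms and a map `a : h_W₀ ⟶ D i₀`
from an affine scheme, the base changes `W₀ ×_{D i₀} D j` form a system of affine schemes whose
limit represents `W₀ ×_{D i₀} lim D`.
-/

set_option autoImplicit false
set_option linter.style.haveILetI false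

universe u

open CategoryTheory CategoryTheory.Limits AlgebraicGeometry

namespace Groth.Agent.Lib.AlgSpLimit

open AlgSp (Sp yon Representable RepWith IsAffineMor)
open Groth.Agent.Lib.AlgSpace Groth.Agent.Lib.AlgSpMor

variable {S : Scheme.{u}}

theorem preservesLimit_yon {J : Type u} [SmallCategory J] (K : J ⥤ Over S) :
    PreservesLimit K (yon S) := by
  haveI : PreservesLimit K (yon S ⋙ sheafToPresheaf (AlgSp.J S) (Type (u + 1))) :=
    preservesLimit_of_natIso K (F := uliftYoneda.{u + 1}) (Iso.refl _)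
  exact preservesLimit_of_reflects_of_preserves _ (sheafToPresheaf (AlgSp.J S) (Type (u + 1)))

theorem exists_isLimit_forget {J : Type u} [SmallCategory J] [IsCofiltered J] (E : J ⥤ Over S)
    (hE : ∀ j, IsAffine (E.obj j).left) :
    ∃ e : Cone E, Nonempty (IsLimit e) ∧ Nonempty (IsLimit ((Over.forget S).mapCone e)) ∧
      IsAffine e.pt.left := by
  haveI : IsConnected J := IsCofiltered.isConnected J
  haveI : HasLimit (E ⋙ Over.forget S) :=
    Lib.Lim.Existence.hasLimit_of_isAffine (E ⋙ Over.forget S) hE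
  haveI : ∀ j, IsAffine ((E ⋙ Over.forget S).obj j) := hE
  let L := limit.cone (E ⋙ Over.forget S)
  refine ⟨liftLimit (limit.isLimit (E ⋙ Over.forget S)), ⟨liftedLimitIsLimit _⟩,
    ⟨(limit.isLimit _).ofIsoLimit (liftedLimitMapsToOriginal _).symm⟩, ?_⟩
  haveI : IsAffine L.pt := Scheme.isAffine_of_isLimit L (limit.isLimit _)
  haveI : IsAffine ((Cone.forget (E ⋙ Over.forget S)).obj L) := ‹IsAffine L.pt›
  exact IsAffine.of_isIso
    ((Cone.forget _).mapIso (liftedLimitMapsToOriginal (K := E) (F := Over.forget S)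
      (limit.isLimit (E ⋙ Over.forget S)))).hom

/-- The affine chart system. -/
theorem exists_system {I : Type u} [SmallCategory I] [IsCofiltered I] {D : I ⥤ Sp S}
    (hDa : ∀ (i j : I) (φ : i ⟶ j), IsAffineMor (D.map φ)) {c : Cone D} (hc : IsLimit c) (i₀ : I)
    {W₀ : Over S} (hW₀ : IsAffine W₀.left) (a : (yon S).obj W₀ ⟶ D.obj i₀) :
    ∃ (E : CategoryTheory.Over i₀ ⥤ Over S) (e : Cone E)
      (r : E.obj (CategoryTheory.Over.mk (𝟙 i₀)) ⟶ W₀)
      (α : ∀ j : CategoryTheory.Over i₀, (yon S).obj (E.obj j) ⟶ D.obj j.left)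
      (π : (yon S).obj e.pt ⟶ c.pt),
      IsIso r ∧ Nonempty (IsLimit ((Over.forget S).mapCone e)) ∧
      (∀ j, IsAffine (E.obj j).left) ∧ IsAffine e.pt.left ∧
      (∀ {j k} (φ : j ⟶ k), IsPullback ((yon S).map (E.map φ)) (α j) (α k) (D.map φ.left)) ∧
      α (CategoryTheory.Over.mk (𝟙 i₀)) = (yon S).map r ≫ a ∧
      ∀ j, IsPullback ((yon S).map (e.π.app j)) π (α j) (c.π.app j.left) := by
  have hr : ∀ j : CategoryTheory.Over i₀, Representable (D.map j.hom) := fun j ↦
    (AffineDescent.repWith_of_isAffineMor (hDa _ _ j.hom)).rep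
  have hA : ∀ j : CategoryTheory.Over i₀, IsAffine ((hr j).pullback a).left := fun j ↦ by
    haveI : IsAffineHom ((hr j).snd a).left :=
      (AffineDescent.repWith_of_isAffineMor (hDa _ _ j.hom)).property_snd a
    haveI := hW₀
    exact isAffine_of_isAffineHom ((hr j).snd a).left
  let E : CategoryTheory.Over i₀ ⥤ Over S :=
    { obj := fun j ↦ (hr j).pullback a
      map := fun {j k} φ ↦ (hr k).lift ((hr j).fst a ≫ D.map φ.left) ((hr j).snd a) (by
        rw [Category.assoc, ← D.map_comp, CategoryTheory.Over.w φ, (hr j).w])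
      map_id := fun j ↦ (hr j).hom_ext (by simp) (by simp)
      map_comp := fun {j k l} φ ψ ↦ (hr l).hom_ext (by simp) (by simp) }
  have hfst : ∀ {j k} (φ : j ⟶ k), (yon S).map (E.map φ) ≫ (hr k).fst a =
      (hr j).fst a ≫ D.map φ.left := fun φ ↦ Functor.relativelyRepresentable.lift_fst _ _ _ _
  have hsnd : ∀ {j k} (φ : j ⟶ k), E.map φ ≫ (hr k).snd a = (hr j).snd a := fun φ ↦
    Functor.relativelyRepresentable.lift_snd _ _ _ _
  have sqE : ∀ {j k} (φ : j ⟶ k), IsPullback ((yon S).map (E.map φ)) ((hr j).fst a)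
      ((hr k).fst a) (D.map φ.left) := fun {j k} φ ↦ by
    refine IsPullback.of_right (h₁₂ := (yon S).map ((hr k).snd a)) (h₂₂ := D.map k.hom) ?_
      (hfst φ) ((hr k).isPullback a).flip
    rw [← Functor.map_comp, hsnd, ← D.map_comp, CategoryTheory.Over.w φ]
    exact ((hr j).isPullback a).flip
  obtain ⟨e, ⟨he⟩, hef, hea⟩ := exists_isLimit_forget E hA
  haveI := preservesLimit_yon E
  let β : E ⋙ yon S ⟶ CategoryTheory.Over.forget i₀ ⋙ D :=
    { app := fun j ↦ (hr j).fst a
      naturality := fun j k φ ↦ hfst φ }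
  let P := pullback a (c.π.app i₀)
  have sqP := IsPullback.of_hasPullback a (c.π.app i₀)
  let p : ∀ j : CategoryTheory.Over i₀, P ⟶ (yon S).obj (E.obj j) := fun j ↦
    ((hr j).isPullback a).lift (pullback.snd _ _ ≫ c.π.app j.left) (pullback.fst _ _)
      (by rw [Category.assoc, c.w, pullback.condition])
  have hp1 : ∀ j, p j ≫ (hr j).fst a = pullback.snd _ _ ≫ c.π.app j.left := fun j ↦
    IsPullback.lift_fst _ _ _ _
  have hp2 : ∀ j, p j ≫ (yon S).map ((hr j).snd a) = pullback.fst _ _ := fun j ↦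
    IsPullback.lift_snd _ _ _ _
  let cP : Cone (E ⋙ yon S) :=
    { pt := P
      π :=
        { app := p
          naturality := fun j k φ ↦ ((hr k).isPullback a).hom_ext (by
              simp only [Functor.const_obj_obj, Functor.const_obj_map, Category.id_comp,
                Functor.comp_map, Category.assoc, hfst, hp1, reassoc_of% hp1, c.w])
            (by simp only [Functor.const_obj_obj, Functor.const_obj_map, Category.id_comp,
                Functor.comp_map, Category.assoc, ← Functor.map_comp, hsnd, hp2]) } }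
  have sqp : ∀ j, IsPullback (p j) (pullback.snd a (c.π.app i₀)) ((hr j).fst a)
      (c.π.app j.left) := fun j ↦ by
    refine IsPullback.of_right (h₁₂ := (yon S).map ((hr j).snd a)) (h₂₂ := D.map j.hom) ?_
      (hp1 j) ((hr j).isPullback a).flip
    rw [hp2, c.w]
    exact sqP
  haveI : IsConnected (CategoryTheory.Over i₀) := IsCofiltered.isConnected _
  have hP : IsLimit cP := isLimitOfIsPullbackOfIsConnected β cP
    (c.whisker (CategoryTheory.Over.forget i₀))
    { hom := pullback.snd a (c.π.app i₀), w := fun j ↦ (hp1 j).symm }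
    sqp ((Functor.Initial.isLimitWhiskerEquiv (CategoryTheory.Over.forget i₀) c).symm hc)
  let ι := (isLimitOfPreserves (yon S) he).conePointUniqueUpToIso hP
  have hι : ∀ j, ι.hom ≫ p j = (yon S).map (e.π.app j) := fun j ↦
    IsLimit.conePointUniqueUpToIso_hom_comp (isLimitOfPreserves (yon S) he) hP j
  let j₀ := CategoryTheory.Over.mk (𝟙 i₀)
  haveI : IsIso (D.map j₀.hom) := inferInstanceAs (IsIso (D.map (𝟙 i₀)))
  haveI : IsIso ((yon S).map ((hr j₀).snd a)) := ((hr j₀).isPullback a).isIso_snd_of_isIso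
  refine ⟨E, e, (hr j₀).snd a, fun j ↦ (hr j).fst a, ι.hom ≫ pullback.snd _ _,
    isIso_of_fully_faithful (yon S) _, hef, hA, hea, sqE, ?_, fun j ↦ ?_⟩
  · refine Eq.trans ?_ ((hr j₀).w a)
    show _ = _ ≫ D.map (𝟙 i₀)
    simp only [D.map_id]
    exact (Category.comp_id _).symm
  · exact (sqp j).of_iso ι.symm (Iso.refl _) (Iso.refl _) (Iso.refl _) (by simp [← hι j])
      (by simp) (by simp) (by simp)

/-- The projections of the limit are affine morphisms. -/
theorem isAffineMor_π {I : Type u} [SmallCategory I] [IsCofiltered I] {D : I ⥤ Sp S}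
    (hDa : ∀ (i j : I) (φ : i ⟶ j), IsAffineMor (D.map φ)) {c : Cone D} (hc : IsLimit c) (i₀ : I) :
    IsAffineMor (c.π.app i₀) := by
  intro Z hZ g
  obtain ⟨E, e, r, α, π, hr, -, -, hea, -, hα, sqπ⟩ := exists_system hDa hc i₀ hZ g
  haveI := hr
  let j₀ := CategoryTheory.Over.mk (𝟙 i₀)
  refine ⟨e.pt, e.π.app j₀ ≫ r, π, ?_, hea⟩
  refine IsPullback.of_iso (sqπ j₀).flip (Iso.refl _) (Iso.refl _) (asIso ((yon S).map r))
    (Iso.refl _) (by simp) (by simp) (by simp [j₀]) ?_
  simp only [Iso.refl_hom, Category.comp_id, asIso_hom]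
  exact hα

theorem representable_π {I : Type u} [SmallCategory I] [IsCofiltered I] {D : I ⥤ Sp S}
    (hDa : ∀ (i j : I) (φ : i ⟶ j), IsAffineMor (D.map φ)) {c : Cone D} (hc : IsLimit c) (i₀ : I) :
    Representable (c.π.app i₀) :=
  (AffineDescent.repWith_of_isAffineMor (isAffineMor_π hDa hc i₀)).rep

/-- The limit is an algebraic space. -/
theorem isAlgSpace_pt {I : Type u} [SmallCategory I] [IsCofiltered I] {D : I ⥤ Sp S}
    (hDa : ∀ (i j : I) (φ : i ⟶ j), IsAffineMor (D.map φ)) {c : Cone D} (hc : IsLimit c) (i₀ : I)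
    (hD : AlgSp.IsAlgSpace (D.obj i₀)) : AlgSp.IsAlgSpace c.pt :=
  isAlgSpace_of_representable (representable_π hDa hc i₀) hD

end Groth.Agent.Lib.AlgSpLimit
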