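import Groth.Agent.Lib.AlgSpLimit.Affine
import Groth.Agent.Lib.AlgSpMor.Topo
import Groth.Agent.Lib.AlgSpLimit.Immersion
import Mathlib.AlgebraicGeometry.Gluing

/-!
# A sheaf covered by open subschemes is a scheme
-/

set_option autoImplicit false
set_option linter.style.haveILetI false
set_option backward.isDefEq.respectTransparency false
set_option backward.isDefEq.respectTransparency.types false

universe u

open CategoryTheory CategoryTheory.Limits AlgebraicGeometry

namespace Groth.Agent.Lib.AlgSpLimit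

open AlgSp (Sp yon RepWith IsAlgSpace)
open Groth.Agent.Lib.AlgSpace Groth.Agent.Lib.AlgSpMor

variable {S : Scheme.{u}}

/-- Morphisms out of a glued scheme. -/
theorem exists_glued_desc (D : Scheme.GlueData.{u}) {T : Scheme.{u}} (f : ∀ i, D.U i ⟶ T)
    (h : ∀ i k, D.f i k ≫ f i = D.t i k ≫ D.f k i ≫ f k) :
    ∃ g : D.glued ⟶ T, ∀ i, D.ι i ≫ g = f i :=
  ⟨Multicoequalizer.desc D.toGlueData.diagram T f fun x ↦
      (h x.1 x.2).trans (Category.assoc _ _ _).symm,
    fun i ↦ by
      show Multicoequalizer.π D.toGlueData.diagram i ≫ _ = _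
      exact Multicoequalizer.π_desc _ _ _ _ _⟩

/-- An algebraic space covered by open subspaces which are schemes is a scheme. -/
theorem exists_iso_yon_of_open_cover {F : Sp S} (hF : IsAlgSpace F) {ι : Type u} (U : ι → Over S)
    (j : ∀ i, (yon S).obj (U i) ⟶ F) (hj : ∀ i, RepWith @IsOpenImmersion (j i))
    (hs : ∀ x : AlgSp.Points F, ∃ i, x ∈ Set.range (AlgSp.Points.map (j i))) :
    ∃ G : Over S, Nonempty ((yon S).obj G ≅ F) := by
  classical
  haveI hjm : ∀ i, Mono (j i) := fun i ↦ mono_of_openImm (hj i)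
  choose W p q sq using fun i k ↦ exists_isPullback_yon hF.diag (j i) (j k)
  haveI hp : ∀ i k, IsOpenImmersion (p i k).left := fun i k ↦
    repWith_property (hj k) (sq i k).flip
  haveI hpm : ∀ i k, Mono (p i k) := fun i k ↦
    (CategoryTheory.Over.forget S).mono_of_mono_map
      (inferInstanceAs (Mono (p i k).left))
  let lft : ∀ {T : Over S} {i k : ι} (a : T ⟶ U i) (b : T ⟶ U k),
      (yon S).map a ≫ j i = (yon S).map b ≫ j k → (T ⟶ W i k) :=
    fun {T i k} a b h ↦ (yon S).preimage ((sq i k).lift _ _ h)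
  have lftp : ∀ {T : Over S} {i k : ι} (a : T ⟶ U i) (b : T ⟶ U k) h,
      lft a b h ≫ p i k = a := fun {T i k} a b h ↦ (yon S).map_injective (by simp [lft])
  have lftq : ∀ {T : Over S} {i k : ι} (a : T ⟶ U i) (b : T ⟶ U k) h,
      lft a b h ≫ q i k = b := fun {T i k} a b h ↦ (yon S).map_injective (by simp [lft])
  have hpq : ∀ i, q i i = p i i := fun i ↦ (yon S).map_injective ((cancel_mono (j i)).1 (sq i i).w.symm)
  let τ : ∀ i k, W i k ⟶ W k i := fun i k ↦ lft (q i k) (p i k) (sq i k).w.symm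
  let P : ∀ i k l : ι, Over S := fun i k l ↦
    CategoryTheory.Over.mk (pullback.fst (p i k).left (p i l).left ≫ (W i k).hom)
  let π₁ : ∀ i k l, P i k l ⟶ W i k := fun i k l ↦
    CategoryTheory.Over.homMk (pullback.fst (p i k).left (p i l).left) rfl
  let π₂ : ∀ i k l, P i k l ⟶ W i l := fun i k l ↦
    CategoryTheory.Over.homMk (pullback.snd (p i k).left (p i l).left) (by
      show _ = pullback.fst _ _ ≫ (W i k).hom
      rw [← CategoryTheory.Over.w (p i k), ← CategoryTheory.Over.w (p i l),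
        ← Category.assoc, ← Category.assoc, pullback.condition])
  have hπ : ∀ i k l, π₁ i k l ≫ p i k = π₂ i k l ≫ p i l := fun i k l ↦
    CategoryTheory.Over.OverMorphism.ext pullback.condition
  let θ : ∀ i k l, P i k l ⟶ W k l := fun i k l ↦
    lft (π₁ i k l ≫ q i k) (π₂ i k l ≫ q i l) (by
      rw [Functor.map_comp, Functor.map_comp, Category.assoc, Category.assoc, ← (sq i k).w,
        ← (sq i l).w, ← Category.assoc, ← Category.assoc, ← Functor.map_comp, ← Functor.map_comp,
        hπ])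
  have hθ : ∀ i k l, θ i k l ≫ p k l = (π₁ i k l ≫ τ i k) ≫ p k i := fun i k l ↦ by
    rw [Category.assoc, show τ i k ≫ p k i = q i k from lftp _ _ _]
    exact lftp _ _ _
  let t' : ∀ i k l, pullback (p i k).left (p i l).left ⟶ pullback (p k l).left (p k i).left :=
    fun i k l ↦ pullback.lift (θ i k l).left (π₁ i k l ≫ τ i k).left
      (congrArg (fun f ↦ CategoryTheory.Over.Hom.left f) (hθ i k l))
  have hA : ∀ i k l, t' i k l ≫ pullback.fst _ _ ≫ (p k l).left =
      pullback.fst _ _ ≫ (q i k).left := fun i k l ↦ by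
    rw [← Category.assoc, pullback.lift_fst]
    exact congrArg (fun f ↦ CategoryTheory.Over.Hom.left f) (lftp _ _ _)
  have hB : ∀ i k l, t' i k l ≫ pullback.fst _ _ ≫ (q k l).left =
      pullback.snd _ _ ≫ (q i l).left := fun i k l ↦ by
    rw [← Category.assoc, pullback.lift_fst]
    exact congrArg (fun f ↦ CategoryTheory.Over.Hom.left f) (lftq _ _ _)
  have hC : ∀ i k l, t' i k l ≫ pullback.snd _ _ ≫ (q k i).left =
      pullback.fst _ _ ≫ (p i k).left := fun i k l ↦ by
    rw [← Category.assoc, pullback.lift_snd, CategoryTheory.Over.comp_left, Category.assoc,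
      ← CategoryTheory.Over.comp_left, show τ i k ≫ q k i = p i k from lftq _ _ _]
    rfl
  let D : Scheme.GlueData.{u} :=
    { J := ι
      U := fun i ↦ (U i).left
      V := fun x ↦ (W x.1 x.2).left
      f := fun i k ↦ (p i k).left
      f_mono := fun i k ↦ inferInstance
      f_id := fun i ↦ by
        haveI : IsIso (p i i) := ⟨lft (𝟙 _) (𝟙 _) rfl, by
          rw [← cancel_mono (p i i), Category.assoc, lftp, Category.comp_id, Category.id_comp],
          lftp _ _ _⟩
        exact inferInstanceAs (IsIso ((CategoryTheory.Over.forget S).map (p i i)))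
      t := fun i k ↦ (τ i k).left
      t_id := fun i ↦ by
        have : τ i i = 𝟙 _ := by
          rw [← cancel_mono (p i i), Category.id_comp]
          exact (lftp _ _ _).trans (hpq i)
        show (τ i i).left = _
        rw [this]
        rfl
      t' := t'
      t_fac := fun i k l ↦ pullback.lift_snd _ _ _
      cocycle := fun i k l ↦ by
        have hfst : (t' i k l ≫ t' k l i ≫ t' l i k) ≫ pullback.fst _ _ ≫ (p i k).left =
            𝟙 _ ≫ pullback.fst _ _ ≫ (p i k).left := by
          rw [Category.assoc, Category.assoc, hA, hB, hC, Category.id_comp]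
        haveI : Mono (pullback.fst (p i k).left (p i l).left ≫ (p i k).left) := inferInstance
        exact (cancel_mono (pullback.fst (p i k).left (p i l).left ≫ (p i k).left)).1 hfst
      f_open := fun i k ↦ hp i k }
  obtain ⟨hG, hι⟩ := exists_glued_desc D (fun i ↦ (U i).hom) fun i k ↦ by
    show (p i k).left ≫ (U i).hom = (τ i k).left ≫ (p k i).left ≫ (U k).hom
    rw [CategoryTheory.Over.w, CategoryTheory.Over.w, CategoryTheory.Over.w]
  let G : Over S := CategoryTheory.Over.mk hG
  haveI hιo : ∀ i, IsOpenImmersion (D.ι i) := fun i ↦ Scheme.GlueData.ι_isOpenImmersion D i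
  let ιO : ∀ i, U i ⟶ G := fun i ↦ CategoryTheory.Over.homMk (D.ι i) (hι i)
  have hglue : ∀ i k, q i k ≫ ιO k = p i k ≫ ιO i := fun i k ↦ by
    apply CategoryTheory.Over.OverMorphism.ext
    show (q i k).left ≫ D.ι k = (p i k).left ≫ D.ι i
    rw [show (q i k).left = (τ i k).left ≫ (p k i).left from
      (congrArg (fun f ↦ CategoryTheory.Over.Hom.left f) (lftp _ _ _)).symm, Category.assoc]
    exact D.glue_condition i k
  have hfac : ∀ {T : Over S} {i k : ι} (a : T ⟶ U i) (b : T ⟶ U k), a ≫ ιO i = b ≫ ιO k →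
      (yon S).map a ≫ j i = (yon S).map b ≫ j k := by
    intro T i k a b h
    obtain ⟨c, hc₁, hc₂⟩ := PullbackCone.IsLimit.lift' (D.vPullbackConeIsLimit i k) a.left b.left
      (congrArg (fun f ↦ CategoryTheory.Over.Hom.left f) h)
    replace hc₁ : c ≫ (p i k).left = a.left := hc₁
    replace hc₂ : c ≫ (τ i k).left ≫ (p k i).left = b.left := hc₂
    let c' : T ⟶ W i k := CategoryTheory.Over.homMk c (by
      rw [← CategoryTheory.Over.w (p i k), ← Category.assoc, hc₁, CategoryTheory.Over.w])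
    have e₁ : c' ≫ p i k = a := CategoryTheory.Over.OverMorphism.ext hc₁
    have e₂ : c' ≫ q i k = b := by
      rw [← show τ i k ≫ p k i = q i k from lftp _ _ _]
      exact CategoryTheory.Over.OverMorphism.ext hc₂
    rw [← e₁, ← e₂, Functor.map_comp, Functor.map_comp, Category.assoc, Category.assoc, (sq i k).w]
  have hcov : Sieve.ofArrows U ιO ∈ AlgSp.J S G :=
    ofArrows_mem_J U ιO (fun i ↦ inferInstanceAs (Flat (D.ι i)))
      (fun i ↦ inferInstanceAs (LocallyOfFinitePresentation (D.ι i))) fun x ↦ by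
        obtain ⟨i, y, hy⟩ := D.ι_jointly_surjective x
        exact ⟨i, y, hy⟩
  obtain ⟨φ, hφ, -⟩ := exists_desc_of_family U ιO hcov j
    (fun i k T gi gk h ↦ hfac gi gk h)
  -- `φ` is injective on points with values in schemes
  have hinj : ∀ T : Over S, Function.Injective fun a : (yon S).obj T ⟶ (yon S).obj G ↦ a ≫ φ := by
    intro T a' b' (h : a' ≫ φ = b' ≫ φ)
    obtain ⟨a, rfl⟩ := (yon S).map_surjective a'
    obtain ⟨b, rfl⟩ := (yon S).map_surjective b'
    let O : ι × ι → T.left.Opens := fun x ↦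
      a.left ⁻¹ᵁ (D.ι x.1).opensRange ⊓ b.left ⁻¹ᵁ (D.ι x.2).opensRange
    refine hom_ext_of_family (fun x ↦ Topo.opensOver (O x)) (fun x ↦ Topo.opensOverι (O x))
      (ofArrows_mem_J _ _ (fun x ↦ inferInstanceAs (Flat (O x).ι))
        (fun x ↦ inferInstanceAs (LocallyOfFinitePresentation (O x).ι)) fun t ↦ by
          obtain ⟨i, y, hy⟩ := D.ι_jointly_surjective (a.left t)
          obtain ⟨k, y', hy'⟩ := D.ι_jointly_surjective (b.left t)
          exact ⟨(i, k), ⟨t, ⟨y, hy⟩, ⟨y', hy'⟩⟩, rfl⟩) fun x ↦ ?_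
    obtain ⟨i, k⟩ := x
    let o := Topo.opensOverι (O (i, k))
    have hra : Set.range (o ≫ a).left ⊆ Set.range (D.ι i) := by
      rintro _ ⟨t, rfl⟩; exact t.2.1
    have hrb : Set.range (o ≫ b).left ⊆ Set.range (D.ι k) := by
      rintro _ ⟨t, rfl⟩; exact t.2.2
    let a₁ : Topo.opensOver (O (i, k)) ⟶ U i :=
      CategoryTheory.Over.homMk (IsOpenImmersion.lift (D.ι i) (o ≫ a).left hra) (by
        rw [← hι i, ← Category.assoc, IsOpenImmersion.lift_fac]
        exact CategoryTheory.Over.w (o ≫ a))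
    let b₁ : Topo.opensOver (O (i, k)) ⟶ U k :=
      CategoryTheory.Over.homMk (IsOpenImmersion.lift (D.ι k) (o ≫ b).left hrb) (by
        rw [← hι k, ← Category.assoc, IsOpenImmersion.lift_fac]
        exact CategoryTheory.Over.w (o ≫ b))
    have ha₁ : a₁ ≫ ιO i = o ≫ a :=
      CategoryTheory.Over.OverMorphism.ext (IsOpenImmersion.lift_fac _ _ _)
    have hb₁ : b₁ ≫ ιO k = o ≫ b :=
      CategoryTheory.Over.OverMorphism.ext (IsOpenImmersion.lift_fac _ _ _)
    have hw := congrArg ((yon S).map o ≫ ·) h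
    simp only [← Category.assoc, ← Functor.map_comp, ← ha₁, ← hb₁] at hw
    simp only [Functor.map_comp, Category.assoc, hφ] at hw
    let c := lft a₁ b₁ hw
    rw [← Functor.map_comp, ← Functor.map_comp, ← ha₁, ← hb₁]
    refine congrArg (yon S).map ?_
    calc a₁ ≫ ιO i = (c ≫ p i k) ≫ ιO i := congrArg (· ≫ ιO i) (lftp a₁ b₁ hw).symm
      _ = (c ≫ q i k) ≫ ιO k := by rw [Category.assoc, Category.assoc, hglue]
      _ = b₁ ≫ ιO k := congrArg (· ≫ ιO k) (lftq a₁ b₁ hw)
  refine ⟨G, ⟨@asIso _ _ _ _ φ (isIso_of_yon φ fun T ↦ ⟨hinj T, fun ξ ↦ ?_⟩)⟩⟩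
  choose V v fst sqV hv using fun i ↦ repWith_exists (hj i) ξ
  have hcovV : Sieve.ofArrows V v ∈ AlgSp.J S T := ofArrows_mem_J V v
    (fun i ↦ have : IsOpenImmersion (v i).left := hv i; inferInstance)
    (fun i ↦ have : IsOpenImmersion (v i).left := hv i; inferInstance) fun t ↦ by
      obtain ⟨i, hi⟩ := hs (AlgSp.Points.ofPt ξ t)
      obtain ⟨y, hy⟩ : t ∈ Set.range (v i).left := by
        rw [range_of_isPullback (sqV i)]; exact hi
      exact ⟨i, y, hy⟩
  have hVφ : ∀ i, (fst i ≫ (yon S).map (ιO i)) ≫ φ = (yon S).map (v i) ≫ ξ := fun i ↦ by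
    rw [Category.assoc, hφ, (sqV i).w]
  obtain ⟨l, hl, -⟩ := exists_desc_of_family V v hcovV (fun i ↦ fst i ≫ (yon S).map (ιO i))
    fun i k T' gi gk h ↦ hinj T' (by
      show (_ ≫ _) ≫ φ = (_ ≫ _) ≫ φ
      rw [Category.assoc, hVφ, Category.assoc ((yon S).map gk), hVφ, ← Category.assoc,
        ← Category.assoc, ← Functor.map_comp, ← Functor.map_comp, h])
  refine ⟨l, hom_ext_of_family V v hcovV fun i ↦ ?_⟩
  show _ ≫ l ≫ φ = _
  rw [← Category.assoc, hl, hVφ]

end Groth.Agent.Lib.AlgSpLimit
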